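import Cfsg.Agent.Lib.Fusion.Abelian
import Cfsg.Agent.Lib.TwoDim.Sylows

/-!
# No centralizer `2 × PSL₂(2ⁿ)` for `n ≥ 3` in a simple group with abelian Sylow two-subgroups

The normalizer of a Sylow two-subgroup `S` is transitive on its involutions, and the hyperplanes
of `S` attached to them define a form that cannot exist when `S` has more than eight elements.
-/

set_option autoImplicit false
set_option linter.unusedSectionVars false
set_option linter.style.haveILetI false

namespace Cfsg.Lib.Walter8.Even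

open Subgroup

/-- A function to `ℤ/2` that is additive on an elementary abelian group cannot be one at all but
four elements when there are more than eight. -/
theorem false_of_form {A : Type*} [Group A] [Fintype A] (h8 : 8 < Fintype.card A)
    (f : A → ZMod 2) (hf : ∀ x y, f (x * y) = f x + f y) (a b c d : A)
    (h : ∀ x, x ≠ a → x ≠ b → x ≠ c → x ≠ d → f x = 1) : False := by
  classical
  set X : Finset A := {a, b, c, d} with hX
  have hX4 : X.card ≤ 4 := Finset.card_le_four
  have hmem : ∀ x, x ∉ X → f x = 1 := fun x hx => by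
    simp only [hX, Finset.mem_insert, Finset.mem_singleton, not_or] at hx
    exact h x hx.1 hx.2.1 hx.2.2.1 hx.2.2.2
  obtain ⟨x, -, hx⟩ := Finset.exists_mem_notMem_of_card_lt_card
    (s := X) (t := Finset.univ) (by rw [Finset.card_univ]; omega)
  obtain ⟨y, -, hy⟩ := Finset.exists_mem_notMem_of_card_lt_card
    (s := X ∪ X.image fun w => x⁻¹ * w) (t := Finset.univ) (by
      rw [Finset.card_univ]
      have := Finset.card_union_le X (X.image fun w => x⁻¹ * w)
      have := (Finset.card_image_le : (X.image fun w => x⁻¹ * w).card ≤ _)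
      omega)
  rw [Finset.mem_union, not_or] at hy
  have hxy : x * y ∉ X := fun hm =>
    hy.2 (Finset.mem_image.2 ⟨x * y, hm, by rw [inv_mul_cancel_left]⟩)
  have e := hf x y
  rw [hmem x hx, hmem y hy.1, hmem _ hxy] at e
  exact absurd e (by decide)

section

universe u

variable {G : Type u} [Group G] [Finite G] (S : Subgroup G) (t : G) (U : Set G)

/-- `x` lies in the hyperplane attached to the involution `a`. -/
def InHyp (a x : G) : Prop :=
  ∃ n ∈ normalizer (S : Set G), n * t * n⁻¹ = a ∧ n⁻¹ * x * n ∈ U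

/-- The configuration of a transitive normalizer and a hyperplane invariant under the stabilizer
is contradictory. -/
theorem false_of_hyp (ht : t ∈ S) (hsq : ∀ x ∈ S, x * x = 1) (hab : ∀ x ∈ S, ∀ y ∈ S, x * y = y * x)
    (hodd : Odd (S.subgroupOf (normalizer (S : Set G))).index) (h8 : 8 < Nat.card S)
    (htU : t ∉ U)
    (hmul : ∀ x ∈ S, ∀ y ∈ S, (x * y ∈ U ↔ (x ∈ U ↔ y ∈ U)))
    (hstab : ∀ m ∈ normalizer (S : Set G), m * t = t * m → ∀ x ∈ U, m * x * m⁻¹ ∈ U)
    (hU : ∀ x ∈ U, ∀ y ∈ U, x ≠ 1 → y ≠ 1 →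
      ∃ c ∈ normalizer (S : Set G), c * t = t * c ∧ c * x * c⁻¹ = y)
    (htrans : ∀ a ∈ S, a ≠ 1 → ∃ n ∈ normalizer (S : Set G), n * t * n⁻¹ = a) : False := by
  classical
  set N := normalizer (S : Set G) with hN
  haveI := Fintype.ofFinite S
  have hconj : ∀ n ∈ N, ∀ x ∈ S, n * x * n⁻¹ ∈ S := fun n hn x hx =>
    (mem_normalizer_iff.1 hn x).1 hx
  have hconj' : ∀ n ∈ N, ∀ x ∈ S, n⁻¹ * x * n ∈ S := fun n hn x hx => by
    simpa using hconj n⁻¹ (inv_mem hn) x hx
  have hindep : ∀ {a x n : G}, n ∈ N → n * t * n⁻¹ = a → (InHyp S t U a x ↔ n⁻¹ * x * n ∈ U) := by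
    intro a x n hn ha
    refine ⟨?_, fun h => ⟨n, hn, ha, h⟩⟩
    rintro ⟨m, hm, hma, hmx⟩
    have hc : n⁻¹ * m * t = t * (n⁻¹ * m) := by
      calc n⁻¹ * m * t = n⁻¹ * (m * t * m⁻¹) * m := by group
        _ = n⁻¹ * (n * t * n⁻¹) * m := by rw [hma, ha]
        _ = t * (n⁻¹ * m) := by group
    have := hstab _ (mul_mem (inv_mem hn) hm) hc _ hmx
    convert this using 1
    group
  -- the forms
  set β : S → S → ZMod 2 := fun a x => if InHyp S t U (a : G) x then 0 else 1 with hβ
  have hlin : ∀ a : S, a ≠ 1 → ∀ x y : S, β a (x * y) = β a x + β a y := by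
    intro a ha x y
    obtain ⟨n, hn, hna⟩ := htrans a a.2 fun h => ha (Subtype.ext h)
    have h1 := hmul _ (hconj' n hn x x.2) _ (hconj' n hn y y.2)
    rw [show n⁻¹ * (x : G) * n * (n⁻¹ * y * n) = n⁻¹ * ((x * y : S) : G) * n by
      rw [Subgroup.coe_mul]; group] at h1
    simp only [hβ, hindep hn hna]
    split_ifs <;> first | rfl | tauto
  have hself : ∀ a : S, a ≠ 1 → β a a = 1 := by
    intro a ha
    obtain ⟨n, hn, hna⟩ := htrans a a.2 fun h => ha (Subtype.ext h)
    simp only [hβ]
    rw [if_neg]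
    rw [hindep hn hna, show n⁻¹ * (a : G) * n = t by rw [← hna]; group]
    exact htU
  -- no element interchanges two points
  haveI : (S.subgroupOf N).Normal := normal_in_normalizer
  have hswap : ∀ g ∈ N, ∀ a b : S, g * a * g⁻¹ = b → g * b * g⁻¹ = a → a = b := by
    intro g hg a b h1 h2
    obtain ⟨k, hk⟩ := hodd
    have hpow : ∀ j : ℕ, g ^ (2 * j) * (a : G) * (g ^ (2 * j))⁻¹ = a := by
      intro j
      induction j with
      | zero => simp
      | succ j ih =>
        calc g ^ (2 * (j + 1)) * (a : G) * (g ^ (2 * (j + 1)))⁻¹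
            = g * (g * (g ^ (2 * j) * a * (g ^ (2 * j))⁻¹) * g⁻¹) * g⁻¹ := by
              rw [show 2 * (j + 1) = 1 + (1 + 2 * j) by ring, pow_add, pow_add, pow_one]; group
          _ = a := by rw [ih, h1, h2]
    have hmem := pow_index_mem (S.subgroupOf N) (⟨g, hg⟩ : N)
    rw [mem_subgroupOf, SubmonoidClass.coe_pow, hk] at hmem
    have hfix : g ^ (2 * k + 1) * (a : G) * (g ^ (2 * k + 1))⁻¹ = a := by
      rw [hab _ hmem _ a.2, mul_inv_cancel_right]
    refine Subtype.ext ?_
    calc (a : G) = g ^ (2 * k + 1) * a * (g ^ (2 * k + 1))⁻¹ := hfix.symm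
      _ = g * (g ^ (2 * k) * a * (g ^ (2 * k))⁻¹) * g⁻¹ := by rw [pow_succ']; group
      _ = b := by rw [hpow, h1]
  have hskew : ∀ a b : S, a ≠ 1 → b ≠ 1 → a ≠ b → β a b + β b a = 1 := by
    intro a b ha hb hab'
    obtain ⟨n, hn, hna⟩ := htrans a a.2 fun h => ha (Subtype.ext h)
    obtain ⟨m, hm, hmb⟩ := htrans b b.2 fun h => hb (Subtype.ext h)
    have ha1 : (a : G) ≠ 1 := fun h => ha (Subtype.ext h)
    have hb1 : (b : G) ≠ 1 := fun h => hb (Subtype.ext h)
    -- an element fixing `t` that maps one partner to the other gives a transposition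
    have key : ∀ c ∈ N, c * t = t * c → c * (m⁻¹ * a * m) * c⁻¹ ≠ n⁻¹ * b * n := by
      intro c hc hct he
      refine hab' (hswap (n * c * m⁻¹) (mul_mem (mul_mem hn hc) (inv_mem hm)) a b ?_ ?_)
      · calc n * c * m⁻¹ * a * (n * c * m⁻¹)⁻¹ = n * (c * (m⁻¹ * a * m) * c⁻¹) * n⁻¹ := by group
          _ = n * (n⁻¹ * b * n) * n⁻¹ := by rw [he]
          _ = b := by group
      · calc n * c * m⁻¹ * b * (n * c * m⁻¹)⁻¹
            = n * (c * (m⁻¹ * b * m) * c⁻¹) * n⁻¹ := by group
          _ = n * (c * t * c⁻¹) * n⁻¹ := by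
              rw [show m⁻¹ * (b : G) * m = t by rw [← hmb]; group]
          _ = a := by rw [hct, mul_inv_cancel_right, hna]
    have hne1 : ∀ (g : G) {x : G}, x ≠ 1 → g⁻¹ * x * g ≠ 1 := fun g x hx h => hx (by
      have := congrArg (fun w => g * w * g⁻¹) h
      simpa [mul_assoc] using this)
    simp only [hβ, hindep hn hna, hindep hm hmb]
    split_ifs with h1 h2 h2
    · obtain ⟨c, hc, hct, he⟩ := hU _ h2 _ h1 (hne1 m ha1) (hne1 n hb1)
      exact absurd he (key c hc hct)
    · exact zero_add 1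
    · exact add_zero 1
    · have hA : t * (m⁻¹ * a * m) ∈ U :=
        (hmul t ht _ (hconj' m hm a a.2)).2 (iff_of_false htU h2)
      have hB : t * (n⁻¹ * b * n) ∈ U :=
        (hmul t ht _ (hconj' n hn b b.2)).2 (iff_of_false htU h1)
      have hne : ∀ (g : G) {x : G}, t * (g⁻¹ * x * g) = 1 → x = g * t * g⁻¹ := fun g x h => by
        have e : g⁻¹ * x * g = t := mul_left_cancel (h.trans (hsq t ht).symm)
        rw [← e]; group
      have hneA : t * (m⁻¹ * a * m) ≠ 1 := fun h => hab' (Subtype.ext ((hne m h).trans hmb))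
      have hneB : t * (n⁻¹ * b * n) ≠ 1 := fun h => hab' (Subtype.ext ((hne n h).trans hna).symm)
      obtain ⟨c, hc, hct, he⟩ := hU _ hA _ hB hneA hneB
      refine absurd (mul_left_cancel (a := t) ?_) (key c hc hct)
      calc t * (c * (m⁻¹ * a * m) * c⁻¹) = (t * c) * (m⁻¹ * a * m) * c⁻¹ := by group
        _ = (c * t) * (m⁻¹ * a * m) * c⁻¹ := by rw [hct]
        _ = c * (t * (m⁻¹ * a * m)) * c⁻¹ := by group
        _ = t * (n⁻¹ * b * n) := he
  -- three collinear points
  obtain ⟨a, ha⟩ : ∃ a : S, a ≠ 1 := ⟨⟨t, ht⟩, fun h => htU (by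
    have e : t = 1 := congrArg Subtype.val h
    have h1 : t * t ∈ U := (hmul t ht t ht).2 Iff.rfl
    rwa [e, one_mul, ← e] at h1)⟩
  obtain ⟨a', -, ha'⟩ := Finset.exists_mem_notMem_of_card_lt_card
    (s := ({1, a} : Finset S)) (t := Finset.univ) (by
      rw [Finset.card_univ, ← Nat.card_eq_fintype_card]
      have := (Finset.card_le_two : ({1, a} : Finset S).card ≤ 2)
      omega)
  simp only [Finset.mem_insert, Finset.mem_singleton, not_or] at ha'
  have haa : a * a' ≠ 1 := fun h => ha'.2 (mul_left_cancel (h.trans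
    (Subtype.ext (hsq a a.2).symm : (1 : S) = a * a)))
  refine false_of_form (A := S) (by rwa [← Nat.card_eq_fintype_card])
    (fun x => β (a * a') x + β a x + β a' x) (fun x y => ?_) 1 a a' (a * a') fun x hx hxa hxa' hxaa => ?_
  · rw [hlin _ haa, hlin _ ha, hlin _ ha'.1]; ring
  · have e1 := hskew _ _ ha hx (Ne.symm hxa)
    have e2 := hskew _ _ ha'.1 hx (Ne.symm hxa')
    have e3 := hskew _ _ haa hx (Ne.symm hxaa)
    have e4 := hlin x hx a a'
    have h2 : ∀ z : ZMod 2, z + z = 0 := by decide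
    linear_combination e1 + e2 + e3 - e4 - h2 (β x a + β x a') + h2 1

end

variable {F : Type*} [Field F] [Fintype F]

local notation "SL2" => Matrix.SpecialLinearGroup (Fin 2) F
local notation "PSL2" => Matrix.ProjectiveSpecialLinearGroup (Fin 2) F

/-- An upper unitriangular element. -/
def usl (b : F) : SL2 := ⟨!![1, b; 0, 1], by simp [Matrix.det_fin_two_of]⟩

/-- A diagonal element. -/
def dsl (c : Fˣ) : SL2 := ⟨!![(c : F), 0; 0, ((c⁻¹ : Fˣ) : F)], by simp [Matrix.det_fin_two_of]⟩

theorem usl_coe (b : F) : ((usl b : SL2) : Matrix (Fin 2) (Fin 2) F) = !![1, b; 0, 1] := rfl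

theorem dsl_coe (c : Fˣ) :
    ((dsl c : SL2) : Matrix (Fin 2) (Fin 2) F) = !![(c : F), 0; 0, ((c⁻¹ : Fˣ) : F)] := rfl

theorem usl_mul (a b : F) : usl a * usl b = usl (a + b) := by
  ext i j
  fin_cases i <;> fin_cases j <;> simp [usl_coe, add_comm]

theorem dsl_usl (c : Fˣ) (b : F) : dsl c * usl b = usl ((c : F) * c * b) * dsl c := by
  ext i j
  fin_cases i <;> fin_cases j <;>
    simp [usl_coe, dsl_coe] <;> (field_simp)

theorem usl_central {b : F} (h : usl b ∈ center SL2) : b = 0 := by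
  let v : SL2 := ⟨!![1, 0; 1, 1], by simp [Matrix.det_fin_two_of]⟩
  have hv : (v : Matrix (Fin 2) (Fin 2) F) = !![1, 0; 1, 1] := rfl
  have e := congrArg (fun A : SL2 => (A : Matrix (Fin 2) (Fin 2) F) 0 0) (mem_center_iff.1 h v)
  simpa [usl_coe, hv] using e

theorem two_cases : ∀ a x : Multiplicative (ZMod 2), a ≠ 1 → x = 1 ∨ x = a := by decide

/-- The case of even `q`. -/
theorem false_of_even {G : Type*} [Group G] [Finite G] [IsSimpleGroup G]
    (hab : ∀ P : Sylow 2 G, ∀ a b : P, a * b = b * a) {n : ℕ} (hn : 3 ≤ n)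
    (hF : Fintype.card F = 2 ^ n) (t : G) (ht : orderOf t = 2)
    (hC : Nonempty (centralizer ({t} : Set G) ≃* Multiplicative (ZMod 2) × PSL2)) : False := by
  classical
  haveI : Fact (Nat.Prime 2) := ⟨Nat.prime_two⟩
  obtain ⟨e⟩ := hC
  have h2 : (2 : F) = 0 := by
    have := FiniteField.cast_card_eq_zero F
    rw [hF, Nat.cast_pow] at this
    exact pow_eq_zero_iff (by omega : n ≠ 0) |>.1 (by exact_mod_cast this)
  have h2' : ∀ b : F, b + b = 0 := fun b => by rw [← two_mul, h2, zero_mul]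
  have hq : 8 ≤ Fintype.card F := hF ▸ (Nat.pow_le_pow_right (by norm_num) hn : 2 ^ 3 ≤ 2 ^ n)
  have htC : t ∈ centralizer ({t} : Set G) := mem_centralizer_singleton_iff.2 rfl
  set φ : PSL2 →* G := (centralizer ({t} : Set G)).subtype.comp
    (e.symm.toMonoidHom.comp (MonoidHom.inr (Multiplicative (ZMod 2)) PSL2)) with hφ
  have hinj : Function.Injective φ := fun a b h => congrArg Prod.snd (e.symm.injective (Subtype.ext h))
  have hφt : ∀ l, φ l * t = t * φ l := fun l => mem_centralizer_singleton_iff.1 (e.symm _).2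
  haveI : IsSimpleGroup PSL2 := Matrix.ProjectiveSpecialLinearGroup.rank_two_simple (by
    rw [Nat.card_eq_fintype_card]; omega)
  set u : F → PSL2 := fun b => QuotientGroup.mk (usl b) with hu
  have huinj : Function.Injective u := fun a b h => by
    rw [hu] at h
    simp only at h
    rw [QuotientGroup.eq] at h
    have e0 : (usl a)⁻¹ = usl (-a) := inv_eq_of_mul_eq_one_right (by
      rw [usl_mul, add_neg_cancel]; ext i j; fin_cases i <;> fin_cases j <;> simp [usl_coe])
    rw [e0, usl_mul] at h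
    exact (neg_add_eq_zero.1 (usl_central h))
  have humul : ∀ a b, u a * u b = u (a + b) := fun a b => by
    simp only [hu, ← QuotientGroup.mk_mul, usl_mul]
  have hu0 : u 0 = 1 := by
    have h := humul 0 0
    rw [add_zero] at h
    exact mul_eq_left.1 h
  -- the central involution
  obtain ⟨a0, ha0⟩ : ∃ a0 : Multiplicative (ZMod 2), e ⟨t, htC⟩ = (a0, 1) := by
    refine ⟨(e ⟨t, htC⟩).1, Prod.ext rfl ?_⟩
    have hc : (e ⟨t, htC⟩).2 ∈ center PSL2 := mem_center_iff.2 fun l => by
      have h := congrArg (fun x => (e x).2)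
        (Subtype.ext (hφt l) : (⟨φ l, (e.symm _).2⟩ : centralizer ({t} : Set G)) * ⟨t, htC⟩ =
          ⟨t, htC⟩ * ⟨φ l, (e.symm _).2⟩)
      simpa [hφ] using h
    rcases (inferInstance : (center PSL2).Normal).eq_bot_or_eq_top with h | h
    · rwa [h, mem_bot] at hc
    · exfalso
      obtain ⟨c, hc1⟩ : ∃ c : Fˣ, (c : F) * c ≠ 1 := by
        obtain ⟨x, -, hx⟩ := Finset.exists_mem_notMem_of_card_lt_card
          (s := ({0, 1} : Finset F)) (t := Finset.univ) (by
            rw [Finset.card_univ]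
            have := (Finset.card_le_two : ({0, 1} : Finset F).card ≤ 2)
            omega)
        simp only [Finset.mem_insert, Finset.mem_singleton, not_or] at hx
        refine ⟨Units.mk0 x hx.1, fun h => hx.2 ?_⟩
        have h' : (x - 1) * (x - 1) = 0 := by
          rw [Units.val_mk0] at h
          linear_combination h + (1 - x) * h2
        exact sub_eq_zero.1 (mul_self_eq_zero.1 h')
      have hd : (QuotientGroup.mk (dsl c) : PSL2) * u 1 = u ((c : F) * c * 1) * QuotientGroup.mk (dsl c) := by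
        simp only [hu, ← QuotientGroup.mk_mul, dsl_usl]
      rw [mem_center_iff.1 (h ▸ mem_top (u 1)) _, mul_left_inj, mul_one] at hd
      exact hc1 (huinj hd).symm
  have hshape : ∀ g : G, g * t = t * g → ∃ l, g = φ l ∨ g = t * φ l := by
    intro g hg
    have hgC : g ∈ centralizer ({t} : Set G) := mem_centralizer_singleton_iff.2 hg
    refine ⟨(e ⟨g, hgC⟩).2, ?_⟩
    have ha0' : a0 ≠ 1 := fun h => by
      have := congrArg Subtype.val (e.map_eq_one_iff.1 (ha0.trans (by rw [h]; rfl)))
      rw [show t = 1 from this, orderOf_one] at ht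
      omega
    have hex : ∀ x : Multiplicative (ZMod 2), x = 1 ∨ x = a0 := by
      exact fun x => two_cases a0 x ha0'
    rcases hex (e ⟨g, hgC⟩).1 with h | h
    · left
      have : e ⟨g, hgC⟩ = (1, (e ⟨g, hgC⟩).2) := Prod.ext h rfl
      exact congrArg Subtype.val ((e.symm_apply_apply _).symm.trans (congrArg e.symm this))
    · right
      have : e ⟨g, hgC⟩ = e ⟨t, htC⟩ * (1, (e ⟨g, hgC⟩).2) := by
        rw [ha0]; exact Prod.ext (by simpa using h) (by simp)
      have h' := congrArg e.symm this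
      rw [map_mul, e.symm_apply_apply, e.symm_apply_apply] at h'
      exact congrArg Subtype.val h'
  have htφ : ∀ l, φ l ≠ t := fun l h => by
    have h' : e.symm (1, l) = ⟨t, htC⟩ := Subtype.ext h
    have := congrArg e h'
    rw [e.apply_symm_apply, ha0] at this
    have hl : l = 1 := congrArg Prod.snd this
    rw [hl, map_one] at h
    rw [← h, orderOf_one] at ht
    omega
  have htt : t * t = 1 := by rw [← sq, ← ht, pow_orderOf_eq_one]
  -- the Sylow two-subgroup
  have htx : ∀ l l', t * φ l ≠ φ l' := fun l l' h => htφ (l' * l⁻¹) (by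
    rw [map_mul, map_inv, ← h, mul_inv_cancel_right])
  let S : Subgroup G :=
    { carrier := {g | ∃ b, g = φ (u b) ∨ g = t * φ (u b)}
      one_mem' := ⟨0, Or.inl (by rw [hu0, map_one])⟩
      mul_mem' := by
        rintro x y ⟨a, hx⟩ ⟨b, hy⟩
        refine ⟨a + b, ?_⟩
        rw [← humul, map_mul]
        rcases hx with rfl | rfl <;> rcases hy with rfl | rfl
        · exact Or.inl rfl
        · exact Or.inr (by rw [← mul_assoc, hφt, mul_assoc])
        · exact Or.inr (by rw [mul_assoc])
        · exact Or.inl (by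
            calc t * φ (u a) * (t * φ (u b)) = t * (φ (u a) * t) * φ (u b) := by group
              _ = t * t * (φ (u a) * φ (u b)) := by rw [hφt]; group
              _ = _ := by rw [htt, one_mul])
      inv_mem' := by
        rintro x ⟨a, hx⟩
        have ea : (φ (u a))⁻¹ = φ (u a) := inv_eq_of_mul_eq_one_right (by
          rw [← map_mul, humul, h2', hu0, map_one])
        refine ⟨a, ?_⟩
        rcases hx with rfl | rfl
        · exact Or.inl ea
        · exact Or.inr (by rw [mul_inv_rev, ea, inv_eq_of_mul_eq_one_right htt, hφt]) }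
  have hsq : ∀ x ∈ S, x * x = 1 := by
    rintro x ⟨a, rfl | rfl⟩
    · rw [← map_mul, humul, h2', hu0, map_one]
    · calc t * φ (u a) * (t * φ (u a)) = t * (φ (u a) * t) * φ (u a) := by group
        _ = t * t * (φ (u a) * φ (u a)) := by rw [hφt]; group
        _ = 1 := by rw [htt, ← map_mul, humul, h2', hu0, map_one, one_mul]
  have habS : ∀ x ∈ S, ∀ y ∈ S, x * y = y * x := fun x hx y hy => by
    have hi : ∀ z ∈ S, z⁻¹ = z := fun z hz => inv_eq_of_mul_eq_one_right (hsq z hz)
    calc x * y = (x * y)⁻¹ := (hi _ (mul_mem hx hy)).symm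
      _ = y * x := by rw [mul_inv_rev, hi x hx, hi y hy]
  have htS : t ∈ S := ⟨0, Or.inr (by rw [hu0, map_one, mul_one])⟩
  have hcardS : Nat.card S = 2 * Fintype.card F := by
    have hX : (S : Set G) = (fun b => φ (u b)) '' Set.univ ∪ (fun b => t * φ (u b)) '' Set.univ := by
      ext g
      simp only [Set.image_univ, Set.mem_union, Set.mem_range, SetLike.mem_coe]
      constructor
      · rintro ⟨b, rfl | rfl⟩
        · exact Or.inl ⟨b, rfl⟩
        · exact Or.inr ⟨b, rfl⟩
      · rintro (⟨b, rfl⟩ | ⟨b, rfl⟩)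
        · exact ⟨b, Or.inl rfl⟩
        · exact ⟨b, Or.inr rfl⟩
    show Nat.card (S : Set G) = _
    rw [hX, Nat.card_coe_set_eq, Set.ncard_union_eq,
      Set.ncard_image_of_injective _ (f := fun b => φ (u b)) (hinj.comp huinj),
      Set.ncard_image_of_injective _ (fun a b h => huinj (hinj (mul_left_cancel h))), Set.ncard_univ,
      Nat.card_eq_fintype_card]
    · ring
    · rw [Set.disjoint_left]
      rintro g ⟨b, -, rfl⟩ ⟨b', -, h⟩
      exact htx _ _ h
  obtain ⟨P, hP⟩ := (IsPGroup.of_card (n := n + 1) (by rw [hcardS, hF, pow_succ']) :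
    IsPGroup 2 S).exists_le_sylow
  haveI : IsMulCommutative (P : Subgroup G) := ⟨⟨hab P⟩⟩
  have hPS : (P : Subgroup G) = S := by
    refine (eq_of_le_of_card_ge hP ?_).symm
    have hle : (P : Subgroup G) ≤ centralizer ({t} : Set G) := fun x hx =>
      mem_centralizer_singleton_iff.2 (congrArg Subtype.val (hab P ⟨x, hx⟩ ⟨t, hP htS⟩))
    have h1 := card_dvd_of_le hle
    obtain ⟨k, hk⟩ := IsPGroup.iff_card.1 P.isPGroup'
    rw [Nat.card_congr e.toEquiv, Nat.card_prod, Nat.card_eq_fintype_card (α := Multiplicative (ZMod 2))] at h1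
    have h3 : Nat.card PSL2 ∣ Fintype.card F * ((Fintype.card F - 1) * (Fintype.card F + 1)) := by
      have := card_quotient_dvd_card (center SL2)
      rwa [Cfsg.Lib.TwoDim.card_sl_factor, mul_assoc] at this
    have h4 : 2 ^ k ∣ 2 * (2 ^ n * ((2 ^ n - 1) * (2 ^ n + 1))) := by
      rw [← hk, ← hF]
      refine h1.trans (mul_dvd_mul ?_ h3)
      simp
    have hc : Nat.Coprime (2 ^ k) ((2 ^ n - 1) * (2 ^ n + 1)) := by
      refine Nat.Coprime.pow_left k (Nat.coprime_two_left.2 (Odd.mul ?_ ?_))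
      · have h5 : 2 ^ n = 2 * 2 ^ (n - 1) := by rw [← pow_succ', Nat.sub_add_cancel (by omega)]
        have h6 : 1 ≤ 2 ^ (n - 1) := Nat.one_le_two_pow
        exact ⟨2 ^ (n - 1) - 1, by omega⟩
      · have h5 : 2 ^ n = 2 * 2 ^ (n - 1) := by rw [← pow_succ', Nat.sub_add_cancel (by omega)]
        exact ⟨2 ^ (n - 1), by omega⟩
    rw [← mul_assoc, ← pow_succ'] at h4
    rw [hcardS, hF, hk, ← pow_succ']
    exact Nat.le_of_dvd (by positivity) (hc.dvd_of_dvd_mul_right h4)
  set N := normalizer (S : Set G) with hN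
  have hodd : Odd (S.subgroupOf N).index := by
    refine Odd.of_dvd_nat ?_ (Dvd.intro N.index (relIndex_mul_index (le_normalizer (H := S))))
    rw [← hPS, Nat.odd_iff]
    have := P.not_dvd_index
    omega
  set U : Set G := Set.range fun b => φ (u b) with hUdef
  have hmS : ∀ x ∈ S, x ∈ U ∨ ∃ b, x = t * φ (u b) := by
    rintro x ⟨b, rfl | rfl⟩
    · exact Or.inl ⟨b, rfl⟩
    · exact Or.inr ⟨b, rfl⟩
  have hnU : ∀ b, t * φ (u b) ∉ U := fun b ⟨b', h⟩ => htx _ _ h.symm
  -- the stabilizer is transitive on the two parts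
  have hdiag : ∀ a b : F, a ≠ 0 → b ≠ 0 →
      ∃ c ∈ N, c * t = t * c ∧ c * φ (u a) * c⁻¹ = φ (u b) := by
    intro a b ha hb
    have hsurj : Function.Surjective fun x : F => x * x := by
      refine Finite.surjective_of_injective fun x y h => ?_
      have : (x - y) * (x - y) = 0 := by linear_combination h + (y * y - x * y) * h2
      exact sub_eq_zero.1 (mul_self_eq_zero.1 this)
    obtain ⟨x, hx⟩ := hsurj (b / a)
    simp only at hx
    have hx0 : x ≠ 0 := fun h0 => div_ne_zero hb ha (by rw [← hx, h0, zero_mul])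
    set d : PSL2 := QuotientGroup.mk (dsl (Units.mk0 x hx0))
    have hd : ∀ z, d * u z * d⁻¹ = u (x * x * z) := fun z => by
      rw [mul_inv_eq_iff_eq_mul]
      simp only [d, hu, ← QuotientGroup.mk_mul, dsl_usl, Units.val_mk0]
    refine ⟨φ d, Cfsg.Lib.Fusion.le_normalizer_of_conj_mem ?_, hφt d, ?_⟩
    · rintro g ⟨z, rfl | rfl⟩
      · exact ⟨x * x * z, Or.inl (by rw [← hd, map_mul, map_mul, map_inv])⟩
      · refine ⟨x * x * z, Or.inr ?_⟩
        calc φ d * (t * φ (u z)) * (φ d)⁻¹ = (φ d * t) * φ (u z) * (φ d)⁻¹ := by group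
          _ = t * (φ (d * u z * d⁻¹)) := by rw [hφt, map_mul, map_mul, map_inv]; group
          _ = _ := by rw [hd]
    · rw [← map_mul, ← map_inv, ← map_mul, hd, hx, div_mul_cancel₀ _ ha]
  have hne0 : ∀ {b}, φ (u b) ≠ 1 → b ≠ 0 := fun h h0 => h (by rw [h0, hu0, map_one])
  -- the orbit of `t`
  set O : Set G := {x | ∃ g ∈ N, g * t * g⁻¹ = x} with hO
  have hOS : ∀ x ∈ O, x ∈ S ∧ x ≠ 1 := by
    rintro _ ⟨g, hg, rfl⟩
    refine ⟨(mem_normalizer_iff.1 hg t).1 htS, fun h => ?_⟩
    rw [conj_eq_one_iff] at h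
    rw [h, orderOf_one] at ht
    omega
  have hclos : ∀ c ∈ N, ∀ x ∈ O, c * x * c⁻¹ ∈ O := by
    rintro c hc _ ⟨g, hg, rfl⟩
    exact ⟨c * g, mul_mem hc hg, by group⟩
  have hA : ∀ a : F, φ (u a) ∈ O → ∀ b, b ≠ 0 → φ (u b) ∈ O := fun a ha b hb => by
    obtain ⟨c, hc, -, he⟩ := hdiag a b (hne0 (hOS _ ha).2) hb
    exact he ▸ hclos c hc _ ha
  have hB : ∀ a : F, a ≠ 0 → t * φ (u a) ∈ O → ∀ b, b ≠ 0 → t * φ (u b) ∈ O := fun a ha h b hb => by
    obtain ⟨c, hc, hct, he⟩ := hdiag a b ha hb
    have e : c * (t * φ (u a)) * c⁻¹ = t * φ (u b) := by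
      rw [← mul_assoc c, hct, ← he]; group
    exact e ▸ hclos c hc _ h
  have htO : t ∈ O := ⟨1, one_mem _, by group⟩
  have hOodd : Odd (Nat.card O) := by
    let N' : Subgroup (ConjAct G) := N.comap ConjAct.ofConjAct.toMonoidHom
    have horb : MulAction.orbit N' t = O := by
      ext y
      simp only [MulAction.mem_orbit_iff, hO, Set.mem_ofPred_eq]
      constructor
      · rintro ⟨⟨c, hc⟩, rfl⟩
        exact ⟨ConjAct.ofConjAct c, hc, rfl⟩
      · rintro ⟨g, hg, rfl⟩
        exact ⟨⟨ConjAct.toConjAct g, hg⟩, rfl⟩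
    have hN' : Nat.card N' = Nat.card N :=
      Nat.card_congr ⟨fun a => ⟨ConjAct.ofConjAct a.1, a.2⟩, fun a => ⟨ConjAct.toConjAct a.1, a.2⟩,
        fun _ => rfl, fun _ => rfl⟩
    have h1 := Nat.card_congr (MulAction.orbitProdStabilizerEquivGroup N' t)
    rw [Nat.card_prod, horb, hN'] at h1
    have h2 : Nat.card S ∣ Nat.card (MulAction.stabilizer N' t) := by
      refine card_dvd_of_injective
        { toFun := fun a : S => (⟨⟨ConjAct.toConjAct (a : G), le_normalizer a.2⟩, by
            show (a : G) * t * (a : G)⁻¹ = t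
            rw [habS a a.2 t htS, mul_inv_cancel_right]⟩ : MulAction.stabilizer N' t)
          map_one' := rfl
          map_mul' := fun _ _ => rfl } fun a b h => ?_
      exact Subtype.ext (congrArg (fun z : MulAction.stabilizer N' t => ConjAct.ofConjAct z.1.1) h)
    obtain ⟨c, hc⟩ := h2
    refine Odd.of_dvd_nat hodd (Dvd.intro c ?_)
    have h3 : Nat.card (S.subgroupOf N) * (S.subgroupOf N).index = Nat.card N := card_mul_index _
    rw [Nat.card_congr (subgroupOfEquivOfLe (le_normalizer (H := S))).toEquiv, ← h1, hc] at h3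
    refine Nat.eq_of_mul_eq_mul_left (Nat.card_pos (α := S)) ?_
    linarith [h3]
  have htrans : ∀ a ∈ S, a ≠ 1 → ∃ g ∈ N, g * t * g⁻¹ = a := by
    have hXcard : ∀ f : F → G, Function.Injective f →
        Nat.card ((insert t (f '' {0}ᶜ) : Set G)) = Fintype.card F ∨ t ∈ f '' {0}ᶜ := by
      intro f hf
      by_cases h : t ∈ f '' {0}ᶜ
      · exact Or.inr h
      refine Or.inl ?_
      rw [Nat.card_coe_set_eq, Set.ncard_insert_of_notMem h, Set.ncard_image_of_injective _ hf,
        Set.ncard_compl, Set.ncard_singleton, Nat.card_eq_fintype_card]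
      omega
    have heven : ∀ f : F → G, Function.Injective f → t ∉ f '' {0}ᶜ →
        O ≠ insert t (f '' {0}ᶜ) := fun f hf hft h => by
      rw [h, (hXcard f hf).resolve_right hft, hF] at hOodd
      exact Nat.not_even_iff_odd.2 hOodd ((Nat.even_pow' (by omega)).2 even_two)
    by_cases hAO : φ (u 1) ∈ O <;> by_cases hBO : t * φ (u 1) ∈ O
    · intro a haS ha1
      show a ∈ O
      obtain ⟨b, rfl | rfl⟩ := haS
      · exact hA 1 hAO b (hne0 ha1)
      · by_cases hb : b = 0
        · rw [hb, hu0, map_one, mul_one]; exact htO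
        · exact hB 1 one_ne_zero hBO b hb
    · exfalso
      refine heven (fun b => φ (u b)) (hinj.comp huinj)
        (fun ⟨b, _, h⟩ => htφ _ h) (Set.ext fun x => ⟨fun hx => ?_, ?_⟩)
      · obtain ⟨b, rfl | rfl⟩ := (hOS x hx).1
        · exact Or.inr ⟨b, hne0 (hOS _ hx).2, rfl⟩
        · by_cases hb : b = 0
          · exact Or.inl (by rw [hb, hu0, map_one, mul_one])
          · exact absurd (hB b hb hx 1 one_ne_zero) hBO
      · rintro (rfl | ⟨b, hb, rfl⟩)
        · exact htO
        · exact hA 1 hAO b hb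
    · exfalso
      refine heven (fun b => t * φ (u b)) (fun a b h => huinj (hinj (mul_left_cancel h)))
        (fun ⟨b, hb, h⟩ => hb (huinj (hinj (by rw [mul_eq_left.1 h, hu0, map_one]))))
        (Set.ext fun x => ⟨fun hx => ?_, ?_⟩)
      · obtain ⟨b, rfl | rfl⟩ := (hOS x hx).1
        · exact absurd (hA b hx 1 one_ne_zero) hAO
        · by_cases hb : b = 0
          · exact Or.inl (by rw [hb, hu0, map_one, mul_one])
          · exact Or.inr ⟨b, hb, rfl⟩
      · rintro (rfl | ⟨b, hb, rfl⟩)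
        · exact htO
        · exact hB 1 one_ne_zero hBO b hb
    · exfalso
      -- the transfer
      have hcen : ∀ g ∈ N, g * t = t * g := fun g hg => by
        have hx : g * t * g⁻¹ ∈ O := ⟨g, hg, rfl⟩
        obtain ⟨b, h | h⟩ := (hOS _ hx).1
        · exact absurd (hA b (h ▸ hx) 1 one_ne_zero) hAO
        · by_cases hb : b = 0
          · rw [hb, hu0, map_one, mul_one] at h
            exact mul_inv_eq_iff_eq_mul.1 h
          · exact absurd (hB b hb (h ▸ hx) 1 one_ne_zero) hBO
      have hperf : commutator G = ⊤ := by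
        refine (Normal.eq_bot_or_eq_top (H := commutator G) inferInstance).resolve_left fun h => ?_
        have hc : ∀ a b : G, a * b = b * a := fun a b => by
          have := commutator_mem_commutator (mem_top a) (mem_top b) (H₁ := ⊤) (H₂ := ⊤)
          rw [← _root_.commutator_def, h, mem_bot] at this
          exact commutatorElement_eq_one_iff_mul_comm.1 this
        have hcomm : ∀ a b : PSL2, a * b = b * a := fun a b => hinj (by
          rw [map_mul, map_mul, hc])
        obtain ⟨c, -, -, he⟩ := hdiag 1 (1 + 1 + 1 + 1 + 1) one_ne_zero (by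
          rw [h2', zero_add, h2', zero_add]; exact one_ne_zero)
        obtain ⟨x, -, hx⟩ := Finset.exists_mem_notMem_of_card_lt_card
          (s := ({0, 1} : Finset F)) (t := Finset.univ) (by
            rw [Finset.card_univ]
            have := (Finset.card_le_two : ({0, 1} : Finset F).card ≤ 2)
            omega)
        simp only [Finset.mem_insert, Finset.mem_singleton, not_or] at hx
        obtain ⟨c, -, -, he⟩ := hdiag 1 x one_ne_zero hx.1
        rw [hc c, mul_inv_cancel_right] at he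
        exact hx.2 (huinj (hinj he)).symm
      have hfoc : (P : Subgroup G) = ⁅(P : Subgroup G), normalizer ((P : Subgroup G) : Set G)⁆ := by
        rw [← Cfsg.Lib.Fusion.focal_eq_commutator_normalizer, ← commutator_inf_eq_focalSubgroup,
          hperf, top_inf_eq]
      rw [hPS, ← hN] at hfoc
      let Q : Sylow 2 N := P.subtype (hPS ▸ le_normalizer)
      have hQ : (Q : Subgroup N) = S.subgroupOf N := by rw [← hPS]; rfl
      haveI : IsMulCommutative (Q : Subgroup N) := ⟨⟨fun a b => Subtype.ext (Subtype.ext (by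
        have ha : ((a : N) : G) ∈ S := mem_subgroupOf.1 (hQ ▸ a.2)
        have hb : ((b : N) : G) ∈ S := mem_subgroupOf.1 (hQ ▸ b.2)
        simpa using habS _ ha _ hb))⟩⟩
      have hz : (⟨t, le_normalizer htS⟩ : N) ∈ (Q : Subgroup N) ⊓ commutator N ⊓ center N := by
        refine ⟨⟨hQ ▸ mem_subgroupOf.2 htS, ?_⟩, mem_center_iff.2 fun g => Subtype.ext (hcen g g.2)⟩
        have h1 : ⁅S, N⁆ ≤ (commutator N).map N.subtype := by
          rw [_root_.commutator_def, map_commutator, ← MonoidHom.range_eq_map, N.range_subtype]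
          exact commutator_mono le_normalizer le_rfl
        obtain ⟨y, hy, hye⟩ := h1 (hfoc ▸ htS)
        rwa [show y = ⟨t, le_normalizer htS⟩ from Subtype.ext hye] at hy
      rw [Cfsg.Lib.Fusion.inf_commutator_inf_center_eq_bot_sylow Q, mem_bot] at hz
      rw [show t = 1 from congrArg Subtype.val hz, orderOf_one] at ht
      omega
  refine false_of_hyp S t U htS hsq habS hodd (by omega)
    (fun ⟨b, h⟩ => htφ _ h) ?_ ?_ ?_ htrans
  · intro x hx y hy
    rcases hmS x hx with ⟨a, rfl⟩ | ⟨a, rfl⟩ <;> rcases hmS y hy with ⟨b, rfl⟩ | ⟨b, rfl⟩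
    · exact iff_of_true ⟨a + b, by simp only [← humul, map_mul]⟩
        (iff_of_true ⟨a, rfl⟩ ⟨b, rfl⟩)
    · refine iff_of_false ?_ fun h => hnU b (h.1 ⟨a, rfl⟩)
      simp only
      rw [← mul_assoc, hφt, mul_assoc, ← map_mul, humul]
      exact hnU _
    · refine iff_of_false ?_ fun h => hnU a (h.2 ⟨b, rfl⟩)
      simp only
      rw [mul_assoc, ← map_mul, humul]
      exact hnU _
    · refine iff_of_true ⟨a + b, ?_⟩ (iff_of_false (hnU a) (hnU b))
      simp only [← humul, map_mul]
      symm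
      calc t * φ (u a) * (t * φ (u b)) = t * (φ (u a) * t) * φ (u b) := by group
        _ = t * t * (φ (u a) * φ (u b)) := by rw [hφt]; group
        _ = _ := by rw [htt, one_mul]
  · rintro m hm hmt _ ⟨b, rfl⟩
    rcases hmS _ ((mem_normalizer_iff.1 hm _).1 ⟨b, Or.inl rfl⟩) with h | ⟨b', h⟩
    · exact h
    · exfalso
      obtain ⟨l, rfl | rfl⟩ := hshape m hmt
      · rw [← map_inv, ← map_mul, ← map_mul] at h
        exact htx _ _ h.symm
      · have e' : t * φ l * φ (u b) * (t * φ l)⁻¹ = φ (l * u b * l⁻¹) := by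
          rw [map_mul, map_mul, map_inv]
          calc t * φ l * φ (u b) * (t * φ l)⁻¹
              = t * (φ l * φ (u b) * (φ l)⁻¹) * t⁻¹ := by group
            _ = φ l * φ (u b) * (φ l)⁻¹ := by
              rw [← map_inv, ← map_mul, ← map_mul, ← hφt, mul_inv_cancel_right]
        rw [e'] at h
        exact htx _ _ h.symm
  · rintro _ ⟨a, rfl⟩ _ ⟨b, rfl⟩ h1 h2
    exact hdiag a b (hne0 h1) (hne0 h2)

end Cfsg.Lib.Walter8.Even
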