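import Cfsg.Agent.Lib.Char.InvolutionSum

/-!
# The facts about `PSL₂(q)`, `q ≡ 3, 5 (mod 8)`, used for centralizers `2 × PSL₂(q)`

The two congruences are treated together: `σ = ±1` with `4T = q + σ` and `Q = σ q ≡ 3 (mod 8)`.
All numerical data are polynomials in `Q`.
-/

set_option autoImplicit false
set_option linter.unusedSectionVars false
set_option linter.style.haveILetI false

namespace Cfsg.Lib.Walter8

open Cfsg Cfsg.Lib.Char
open scoped ComplexConjugate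

universe u

/-- Distinguished elements of `PSL₂(q)` and its three nontrivial characters in the principal
two-block. -/
structure LModel (L : Type u) [Group L] where
  p : ℕ
  q : ℕ
  T : ℕ
  σ : ℤ
  p_prime : p.Prime
  q_eq : ∃ a : ℕ, Odd a ∧ q = p ^ a
  q_ge : 11 ≤ q
  sign : (σ = 1 ∧ q % 8 = 3) ∨ (σ = -1 ∧ q % 8 = 5)
  hT : 4 * (T : ℤ) = q + σ
  y : L
  z : L
  i : L
  r : L
  card_L : 2 * Nat.card L = q * (q * q - 1)
  orderOf_y : orderOf y = T
  z_sq : z * z = 1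
  z_ne : z ≠ 1
  y_z : y * z = z * y
  cent_y : ∀ x ∈ Subgroup.zpowers y, x ≠ 1 → ∀ l : L, l * x = x * l →
    l ∈ Subgroup.zpowers y ∨ l * z ∈ Subgroup.zpowers y
  card_cent_z : Nat.card (Subgroup.centralizer ({z} : Set L)) = 4 * T
  i_sq : i * i = 1
  i_z : i * z = z * i
  i_y : i * y * i⁻¹ = y⁻¹
  cent_z : ∀ l : L, l * z = z * l → ∃ s ∈ Subgroup.zpowers y,
    l = s ∨ l = s * z ∨ l = s * i ∨ l = s * z * i
  involutions_conj : ∀ x : L, x * x = 1 → x ≠ 1 → ∃ l : L, l * z * l⁻¹ = x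
  r_cube : r ^ 3 = 1
  r_z : r * z * r⁻¹ ≠ z
  r_comm : r * z * r⁻¹ * z = z * (r * z * r⁻¹)
  r_cycle : r * (r * z * r⁻¹) * r⁻¹ = z * (r * z * r⁻¹)
  cent_four : ∀ l : L, l * z = z * l → l * (r * z * r⁻¹) = r * z * r⁻¹ * l →
    l = 1 ∨ l = z ∨ l = r * z * r⁻¹ ∨ l = z * (r * z * r⁻¹)
  st : IrrCharacter L
  eta : IrrCharacter L
  eta' : IrrCharacter L
  eta_ne : eta ≠ eta'
  st_one : (st : L → ℂ) 1 = q
  eta_one : 2 * (eta : L → ℂ) 1 = q - σ
  eta'_one : 2 * (eta' : L → ℂ) 1 = q - σ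
  st_even : ∀ l : L, l ^ (2 * T) = 1 → l ≠ 1 → (st : L → ℂ) l = -σ
  eta_even : ∀ l : L, l ^ (2 * T) = 1 → l ≠ 1 →
    (l ^ T = 1 → (eta : L → ℂ) l = -σ ∧ (eta' : L → ℂ) l = -σ) ∧
    (l ^ T ≠ 1 → (eta : L → ℂ) l = σ ∧ (eta' : L → ℂ) l = σ)
  rel_odd : ∀ l : L, ¬ 2 ∣ orderOf l →
    (σ : ℂ) * (st : L → ℂ) l = 1 + σ * (eta : L → ℂ) l + σ * (eta' : L → ℂ) l
  galois : ∀ k : ℕ, k.Coprime (Nat.card L) → ¬ IsSquare (k : ZMod p) →
    ∀ l : L, (eta : L → ℂ) (l ^ k) = (eta' : L → ℂ) l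

namespace LModel

variable {L : Type u} [Group L] (D : LModel L)
include D

/-- The signed field order. -/
def Q : ℤ := D.σ * D.q

/-- Half of `Q - 1`. -/
def h : ℤ := (D.Q - 1) / 2

theorem σ_cases : D.σ = 1 ∨ D.σ = -1 := D.sign.imp And.left And.left

theorem σ_sq : D.σ * D.σ = 1 := by rcases D.σ_cases with e | e <;> rw [e] <;> norm_num

theorem σC_sq : (D.σ : ℂ) * D.σ = 1 := by rw [← Int.cast_mul, D.σ_sq, Int.cast_one]

theorem Q_mod : D.Q % 8 = 3 := by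
  rcases D.sign with ⟨e, h⟩ | ⟨e, h⟩ <;> rw [Q, e] <;> omega

theorem Q_eq : D.Q = 2 * D.h + 1 := by have := D.Q_mod; rw [h]; omega

theorem h_mod : D.h % 4 = 1 := by have := D.Q_mod; rw [h]; omega

theorem four_T : 4 * D.σ * D.T = D.Q + 1 := by
  rw [Q, mul_assoc, mul_left_comm, D.hT, mul_add, D.σ_sq]

theorem four_T' : 4 * D.σ * D.T = 2 * (D.h + 1) := by rw [D.four_T, D.Q_eq]; ring

theorem q_eq_σQ : (D.q : ℤ) = D.σ * D.Q := by rw [Q, ← mul_assoc, D.σ_sq, one_mul]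

theorem T_facts : D.T % 2 = 1 ∧ 3 ≤ D.T := by
  have h1 := D.hT
  have h2 := D.q_ge
  rcases D.sign with ⟨e, h⟩ | ⟨e, h⟩ <;> rw [e] at h1 <;> omega

theorem q_ne : D.q ≠ 0 := by have := D.q_ge; omega

theorem z'_sq : D.r * D.z * D.r⁻¹ * (D.r * D.z * D.r⁻¹) = 1 := by
  rw [show D.r * D.z * D.r⁻¹ * (D.r * D.z * D.r⁻¹) = D.r * (D.z * D.z) * D.r⁻¹ by group, D.z_sq]
  group

theorem y_pow : D.y ^ D.T = 1 := D.orderOf_y ▸ pow_orderOf_eq_one D.y

theorem pow_T_of_mem {s : L} (hs : s ∈ Subgroup.zpowers D.y) : s ^ D.T = 1 := by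
  obtain ⟨m, rfl⟩ := Subgroup.mem_zpowers_iff.mp hs
  rw [← zpow_natCast, ← zpow_mul, mul_comm, zpow_mul, zpow_natCast, D.y_pow, one_zpow]

theorem comm_z {s : L} (hs : s ∈ Subgroup.zpowers D.y) : Commute s D.z := by
  obtain ⟨m, rfl⟩ := Subgroup.mem_zpowers_iff.mp hs
  exact Commute.zpow_left D.y_z m

theorem i_inv {s : L} (hs : s ∈ Subgroup.zpowers D.y) : D.i * s * D.i⁻¹ = s⁻¹ := by
  obtain ⟨m, rfl⟩ := Subgroup.mem_zpowers_iff.mp hs
  rw [← conj_zpow, D.i_y, inv_zpow]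

theorem si_sq {s : L} (hs : s ∈ Subgroup.zpowers D.y) : s * D.i * (s * D.i) = 1 := by
  calc s * D.i * (s * D.i) = s * (D.i * s * D.i⁻¹) * (D.i * D.i) := by group
    _ = 1 := by rw [D.i_inv hs, D.i_sq, mul_inv_cancel, one_mul]

theorem szi_sq {s : L} (hs : s ∈ Subgroup.zpowers D.y) :
    s * D.z * D.i * (s * D.z * D.i) = 1 := by
  calc s * D.z * D.i * (s * D.z * D.i) = s * (D.z * D.i) * s * D.z * D.i := by group
    _ = s * (D.i * D.z) * s * D.z * D.i := by rw [D.i_z]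
    _ = s * D.i * (D.z * s) * D.z * D.i := by group
    _ = s * D.i * (s * D.z) * D.z * D.i := by rw [(D.comm_z hs).eq]
    _ = s * D.i * s * (D.z * D.z) * D.i := by group
    _ = s * D.i * (s * D.i) := by rw [D.z_sq]; group
    _ = 1 := D.si_sq hs

theorem pow_two_T_of_sq {x : L} (h : x * x = 1) : x ^ (2 * D.T) = 1 := by
  rw [pow_mul, sq, h, one_pow]

theorem pow_two_T_of_cent {l : L} (hl : l * D.z = D.z * l) : l ^ (2 * D.T) = 1 := by
  obtain ⟨s, hs, e⟩ := D.cent_z l hl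
  rcases e with rfl | rfl | rfl | rfl
  · rw [pow_mul', D.pow_T_of_mem hs, one_pow]
  · rw [(D.comm_z hs).mul_pow, D.pow_two_T_of_sq D.z_sq, mul_one, pow_mul', D.pow_T_of_mem hs,
      one_pow]
  · exact D.pow_two_T_of_sq (D.si_sq hs)
  · exact D.pow_two_T_of_sq (D.szi_sq hs)

theorem odd_of_pow_T {l : L} (h : l ^ D.T = 1) : ¬ 2 ∣ orderOf l := fun h2 => by
  have := h2.trans (orderOf_dvd_of_pow_eq_one h)
  have := D.T_facts.1
  omega

/-- An element of even order is a `2T`-th root of one, not a `T`-th one. -/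
theorem pow_of_even [Finite L] {l : L} (h : 2 ∣ orderOf l) :
    l ^ (2 * D.T) = 1 ∧ l ^ D.T ≠ 1 := by
  refine ⟨?_, fun e => D.odd_of_pow_T e h⟩
  obtain ⟨m, hm⟩ := h
  have hpos := orderOf_pos l
  have hx1 : l ^ m ≠ 1 := pow_ne_one_of_lt_orderOf (by omega) (by omega)
  have hx2 : l ^ m * l ^ m = 1 := by
    rw [← pow_add, show m + m = orderOf l by omega, pow_orderOf_eq_one]
  obtain ⟨c, hc⟩ := D.involutions_conj _ hx2 hx1
  have hcz : c⁻¹ * l * c * D.z = D.z * (c⁻¹ * l * c) := by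
    have e : D.z = c⁻¹ * l ^ m * c := by rw [← hc]; group
    rw [e]
    calc c⁻¹ * l * c * (c⁻¹ * l ^ m * c) = c⁻¹ * (l * l ^ m) * c := by group
      _ = c⁻¹ * (l ^ m * l) * c := by rw [(Commute.self_pow l m).eq]
      _ = c⁻¹ * l ^ m * c * (c⁻¹ * l * c) := by group
  have h' := D.pow_two_T_of_cent hcz
  calc l ^ (2 * D.T) = (c * (c⁻¹ * l * c) * c⁻¹) ^ (2 * D.T) := by group
    _ = 1 := by rw [conj_pow, h']; group

theorem ne_one_of_even {l : L} (h : 2 ∣ orderOf l) : l ≠ 1 := by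
  rintro rfl
  rw [orderOf_one] at h
  omega

theorem orderOf_z : orderOf D.z = 2 :=
  orderOf_eq_prime (by rw [sq, D.z_sq]) D.z_ne

theorem z_pow_T : D.z ^ D.T ≠ 1 := fun e => D.odd_of_pow_T e (by rw [D.orderOf_z])

/-- The values of the basic characters at the odd torus. -/
theorem val_torus {s : L} (hs : s ∈ Subgroup.zpowers D.y) (hs1 : s ≠ 1) :
    (D.st : L → ℂ) s = -D.σ ∧ (D.eta : L → ℂ) s = -D.σ ∧ (D.eta' : L → ℂ) s = -D.σ := by
  have h2 : s ^ (2 * D.T) = 1 := by rw [pow_mul', D.pow_T_of_mem hs, one_pow]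
  exact ⟨D.st_even s h2 hs1, (D.eta_even s h2 hs1).1 (D.pow_T_of_mem hs)⟩

/-- The values of the basic characters at elements of even order. -/
theorem val_even [Finite L] {l : L} (h : 2 ∣ orderOf l) :
    (D.st : L → ℂ) l = -D.σ ∧ (D.eta : L → ℂ) l = D.σ ∧ (D.eta' : L → ℂ) l = D.σ := by
  obtain ⟨h2, hT⟩ := D.pow_of_even h
  exact ⟨D.st_even l h2 (D.ne_one_of_even h), (D.eta_even l h2 (D.ne_one_of_even h)).2 hT⟩

theorem val_z [Finite L] :
    (D.st : L → ℂ) D.z = -D.σ ∧ (D.eta : L → ℂ) D.z = D.σ ∧ (D.eta' : L → ℂ) D.z = D.σ :=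
  D.val_even (by rw [D.orderOf_z])

theorem eta_one' : (D.eta : L → ℂ) 1 = D.σ * D.h ∧ (D.eta' : L → ℂ) 1 = D.σ * D.h := by
  have e : (D.q : ℂ) - D.σ = 2 * (D.σ * D.h) := by
    have : (D.q : ℤ) - D.σ = 2 * (D.σ * D.h) := by rw [D.q_eq_σQ, D.Q_eq]; ring
    exact_mod_cast this
  constructor
  · linear_combination (1 / 2 : ℂ) * D.eta_one + (1 / 2 : ℂ) * e
  · linear_combination (1 / 2 : ℂ) * D.eta'_one + (1 / 2 : ℂ) * e

theorem h_ne : D.h ≠ 0 := by have := D.h_mod; omega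

/-- The principal projective characters. -/
noncomputable def Phi (j : Fin 3) (l : L) : ℂ :=
  ![1 + D.σ * (D.st : L → ℂ) l, D.σ * ((D.eta : L → ℂ) l + (D.st : L → ℂ) l),
    D.σ * ((D.eta' : L → ℂ) l + (D.st : L → ℂ) l)] j

/-- The principal Brauer characters, extended to all elements. -/
noncomputable def phi (j : Fin 3) (l : L) : ℂ :=
  ![1, D.σ * (D.eta : L → ℂ) l, D.σ * (D.eta' : L → ℂ) l] j

theorem Phi_isGeneralized (j : Fin 3) : IsGeneralizedCharacter L (D.Phi j) := by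
  have h1 := IsCharacter.isGeneralized (isCharacter_one (G := L))
  have hs := D.st.2.isGeneralized
  have he := D.eta.2.isGeneralized
  have he' := D.eta'.2.isGeneralized
  fin_cases j
  · exact h1.add (hs.intCast_smul D.σ)
  · exact (he.add hs).intCast_smul D.σ
  · exact (he'.add hs).intCast_smul D.σ

theorem Phi_isClassFunction (j : Fin 3) : IsClassFunction L (D.Phi j) :=
  (D.Phi_isGeneralized j).isClassFunction

theorem Phi_even [Finite L] {l : L} (h : 2 ∣ orderOf l) (j : Fin 3) : D.Phi j l = 0 := by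
  obtain ⟨a, b, c⟩ := D.val_even h
  fin_cases j <;> simp [Phi, a, b, c, D.σC_sq]

theorem Phi_torus {s : L} (hs : s ∈ Subgroup.zpowers D.y) (hs1 : s ≠ 1) (j : Fin 3) :
    D.Phi j s = ![(0 : ℂ), -2, -2] j := by
  obtain ⟨a, b, c⟩ := D.val_torus hs hs1
  have := D.σC_sq
  fin_cases j <;> simp [Phi, a, b, c] <;> grind

theorem phi_torus {s : L} (hs : s ∈ Subgroup.zpowers D.y) (hs1 : s ≠ 1) (j : Fin 3) :
    D.phi j s = ![(1 : ℂ), -1, -1] j := by
  obtain ⟨-, b, c⟩ := D.val_torus hs hs1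
  fin_cases j <;> simp [phi, b, c, D.σC_sq]

theorem Phi_one (j : Fin 3) :
    D.Phi j 1 = ![2 * ((D.h : ℂ) + 1), 3 * D.h + 1, 3 * D.h + 1] j := by
  obtain ⟨a, b⟩ := D.eta_one'
  have hQ : (D.σ : ℂ) * D.q = 2 * D.h + 1 := by exact_mod_cast D.Q_eq
  have := D.σC_sq
  fin_cases j <;> simp [Phi, a, b, D.st_one] <;> grind

theorem phi_one (j : Fin 3) : D.phi j 1 = ![(1 : ℂ), D.h, D.h] j := by
  obtain ⟨a, b⟩ := D.eta_one'
  fin_cases j <;> simp [phi, a, b, ← mul_assoc, D.σC_sq]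

/-- The trivial character differs from the other basic characters. -/
theorem st_ne : (D.st : L → ℂ) ≠ (fun _ => 1) ∧ (D.eta : L → ℂ) ≠ (fun _ => 1) ∧
    (D.eta' : L → ℂ) ≠ (fun _ => 1) ∧ (D.st : L → ℂ) ≠ D.eta ∧ (D.st : L → ℂ) ≠ D.eta' := by
  obtain ⟨a, b⟩ := D.eta_one'
  have hq := D.q_ge
  have key : ∀ n : ℤ, n = D.σ * D.h → n ≠ 1 ∧ n ≠ D.q := by
    intro n hn
    have := D.hT
    have := D.Q_eq
    rw [Q] at this
    rcases D.σ_cases with e | e <;> rw [e] at hn this <;> omega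
  obtain ⟨k1, k2⟩ := key _ rfl
  refine ⟨fun e => ?_, fun e => k1 ?_, fun e => k1 ?_, fun e => k2 ?_, fun e => k2 ?_⟩
  · have e1 := congrFun e 1
    rw [D.st_one] at e1
    have : D.q = 1 := by exact_mod_cast e1
    omega
  · have e1 := congrFun e 1
    rw [a] at e1
    exact_mod_cast e1
  · have e1 := congrFun e 1
    rw [b] at e1
    exact_mod_cast e1
  · have e1 := congrFun e 1
    rw [D.st_one, a] at e1
    exact_mod_cast e1.symm
  · have e1 := congrFun e 1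
    rw [D.st_one, b] at e1
    exact_mod_cast e1.symm

variable [Fintype L]

/-- The duality of projective and Brauer characters. -/
theorem Phi_phi (i j : Fin 3) :
    classInner (D.Phi i) (D.phi j) = if i = j then 1 else 0 := by
  obtain ⟨n1, n2, n3, n4, n5⟩ := D.st_ne
  have ne : (D.eta : L → ℂ) ≠ D.eta' := fun e => D.eta_ne (Subtype.ext e)
  have h1 := isIrrCharacter_one (G := L)
  have hΦ : D.Phi i = ![(fun _ => (1 : ℂ)) + (D.σ : ℂ) • (D.st : L → ℂ),
      (D.σ : ℂ) • ((D.eta : L → ℂ) + (D.st : L → ℂ)),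
      (D.σ : ℂ) • ((D.eta' : L → ℂ) + (D.st : L → ℂ))] i := by
    funext l; fin_cases i <;> simp [Phi, mul_add]
  have hφ : D.phi j = ![(fun _ => (1 : ℂ)), (D.σ : ℂ) • (D.eta : L → ℂ),
      (D.σ : ℂ) • (D.eta' : L → ℂ)] j := by
    funext l; fin_cases j <;> simp [phi]
  rw [hΦ, hφ]
  have hs := D.σC_sq
  fin_cases i <;> fin_cases j <;>
    simp [classInner_add_left, classInner_smul_left, classInner_smul_right,
      classInner_irr_self h1, classInner_irr_self D.eta.2, classInner_irr_self D.eta'.2,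
      classInner_irr_ne D.st.2 h1 n1, classInner_irr_ne D.eta.2 h1 n2,
      classInner_irr_ne D.eta'.2 h1 n3,
      classInner_irr_ne h1 D.eta.2 n2.symm, classInner_irr_ne h1 D.eta'.2 n3.symm,
      classInner_irr_ne D.st.2 D.eta.2 n4, classInner_irr_ne D.st.2 D.eta'.2 n5,
      classInner_irr_ne D.eta.2 D.eta'.2 ne, classInner_irr_ne D.eta'.2 D.eta.2 ne.symm, hs]

/-- The Cartan matrix of the principal block. -/
theorem Phi_Phi (i j : Fin 3) :
    classInner (D.Phi i) (D.Phi j) = if i = j then 2 else 1 := by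
  obtain ⟨n1, n2, n3, n4, n5⟩ := D.st_ne
  have ne : (D.eta : L → ℂ) ≠ D.eta' := fun e => D.eta_ne (Subtype.ext e)
  have h1 := isIrrCharacter_one (G := L)
  have hΦ : ∀ i, D.Phi i = ![(fun _ => (1 : ℂ)) + (D.σ : ℂ) • (D.st : L → ℂ),
      (D.σ : ℂ) • ((D.eta : L → ℂ) + (D.st : L → ℂ)),
      (D.σ : ℂ) • ((D.eta' : L → ℂ) + (D.st : L → ℂ))] i := fun i => by
    funext l; fin_cases i <;> simp [Phi, mul_add]
  rw [hΦ, hΦ]
  have hs := D.σC_sq
  fin_cases i <;> fin_cases j <;>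
    simp [classInner_add_left, classInner_add_right, classInner_smul_left, classInner_smul_right,
      classInner_irr_self h1, classInner_irr_self D.eta.2, classInner_irr_self D.eta'.2,
      classInner_irr_self D.st.2,
      classInner_irr_ne D.st.2 h1 n1, classInner_irr_ne D.eta.2 h1 n2,
      classInner_irr_ne D.eta'.2 h1 n3, classInner_irr_ne h1 D.st.2 n1.symm,
      classInner_irr_ne h1 D.eta.2 n2.symm, classInner_irr_ne h1 D.eta'.2 n3.symm,
      classInner_irr_ne D.st.2 D.eta.2 n4, classInner_irr_ne D.st.2 D.eta'.2 n5,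
      classInner_irr_ne D.eta.2 D.st.2 n4.symm, classInner_irr_ne D.eta'.2 D.st.2 n5.symm,
      classInner_irr_ne D.eta.2 D.eta'.2 ne, classInner_irr_ne D.eta'.2 D.eta.2 ne.symm] <;>
    grind

variable [DecidableEq L]

theorem card_invol : ((involFinset L).card : ℤ) * 2 = D.Q * (D.Q - 1) := by
  classical
  have hset : involFinset L = classFinset D.z := by
    ext x
    rw [mem_involFinset, mem_classFinset]
    constructor
    · rintro ⟨h1, h2⟩
      obtain ⟨l, hl⟩ := D.involutions_conj x h2 h1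
      exact isConj_iff.2 ⟨l, hl⟩
    · intro h
      obtain ⟨l, rfl⟩ := isConj_iff.1 h
      exact mem_involFinset.1 (conj_mem_involFinset l (mem_involFinset.2 ⟨D.z_ne, D.z_sq⟩))
  rw [hset, card_classFinset]
  have h1 := (Subgroup.centralizer ({D.z} : Set L)).card_mul_index
  rw [D.card_cent_z] at h1
  have h2 := D.card_L
  have h3 : (1 : ℕ) ≤ D.q * D.q := by
    have := D.q_ne
    exact Nat.one_le_iff_ne_zero.2 (mul_ne_zero this this)
  rw [← h1] at h2
  zify [h3] at h2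
  have h4 := D.hT
  have hq : (D.q : ℤ) + D.σ ≠ 0 := by have := D.q_ge; rcases D.σ_cases with e | e <;> rw [e] <;> omega
  refine mul_right_cancel₀ hq ?_
  have hQQ : D.Q * (D.Q - 1) = (D.q : ℤ) * (D.q - D.σ) := by
    rw [Q]
    linear_combination (D.q : ℤ) * D.q * D.σ_sq
  rw [hQQ, ← h4]
  linear_combination h2 - (D.q : ℤ) * (D.q - D.σ) * h4 + (D.q : ℤ) * D.σ_sq

theorem sum_invol_char (χ : IrrCharacter L) :
    ∑ x ∈ involFinset L, (χ : L → ℂ) x = ((involFinset L).card : ℂ) * (χ : L → ℂ) D.z := by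
  rw [Finset.sum_congr rfl fun x hx => ?_, Finset.sum_const, nsmul_eq_mul]
  obtain ⟨h1, h2⟩ := mem_involFinset.1 hx
  obtain ⟨l, rfl⟩ := D.involutions_conj x h2 h1
  exact χ.2.isClassFunction _ _

/-- The principal projective characters summed over products of two involutions. -/
theorem pair_Phi (j : Fin 3) :
    4 * ∑ x ∈ involFinset L, ∑ y ∈ involFinset L, D.Phi j (x * y) =
      ![(D.Q : ℂ) * (D.Q - 1) ^ 2 * (D.Q + 1), (D.Q : ℂ) * (D.Q - 1) * (3 * D.Q - 1),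
        (D.Q : ℂ) * (D.Q - 1) * (3 * D.Q - 1)] j := by
  obtain ⟨za, zb, zc⟩ := D.val_z
  obtain ⟨ea, eb⟩ := D.eta_one'
  set n : ℂ := ((involFinset L).card : ℂ) with hn'
  have key : ∀ χ : IrrCharacter L, ∑ x ∈ involFinset L, ∑ y ∈ involFinset L, (χ : L → ℂ) (x * y) =
      (n * (χ : L → ℂ) D.z) ^ 2 / (χ : L → ℂ) 1 := fun χ => by
    rw [sum_involFinset_pair χ.2, D.sum_invol_char χ]
  have h1 : ∑ x ∈ involFinset L, ∑ _y ∈ involFinset L, (1 : ℂ) = n ^ 2 := by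
    simp [hn', sq]
  have hs := D.σC_sq
  have hQ : (D.Q : ℂ) = 2 * D.h + 1 := by exact_mod_cast D.Q_eq
  have hn : n * 2 = (D.Q : ℂ) * ((D.Q : ℂ) - 1) := by
    rw [hn']
    exact_mod_cast D.card_invol
  have hq : (D.q : ℂ) = D.σ * D.Q := by exact_mod_cast D.q_eq_σQ
  have hQ0 : (D.Q : ℂ) ≠ 0 := by
    have := D.Q_mod
    exact Int.cast_ne_zero.2 (by omega)
  have hh0 : (D.h : ℂ) ≠ 0 := Int.cast_ne_zero.2 D.h_ne
  have hσ0 : (D.σ : ℂ) ≠ 0 := fun e => by rw [e, zero_mul] at hs; exact zero_ne_one hs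
  fin_cases j <;>
    simp only [Phi, Fin.zero_eta, Fin.mk_one, Fin.reduceFinMk, Matrix.cons_val_zero,
      Matrix.cons_val_one, Matrix.cons_val, mul_add, Finset.sum_add_distrib, ← Finset.mul_sum, h1,
      key, za, zb, zc, ea, eb, D.st_one, hq] <;>
    field_simp <;> grind

end LModel

end Cfsg.Lib.Walter8
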