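import Cfsg.Agent.Lib.ReeType.Model

/-!
# The subgroups of `PSL₂(q)`, `q ≡ 3, 5 (mod 8)`, used for centralizers `2 × PSL₂(q)`
-/

set_option autoImplicit false
set_option linter.unusedSectionVars false
set_option linter.style.haveILetI false

namespace Cfsg.Lib.Walter8

open Cfsg.Lib.Dickson Cfsg.Lib.Dickson.KleinClasses Cfsg.Lib.ReeType

/-- Distinguished elements of `PSL₂(q)`: the odd part `⟨y⟩` of the torus whose order is even, its involution `z`,
an involution `i` inverting it, and an element `r` cycling a four-group. -/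
structure GData (L : Type*) [Group L] (q T : ℕ) where
  y : L
  z : L
  i : L
  r : L
  card_L : 2 * Nat.card L = q * (q * q - 1)
  orderOf_y : orderOf y = T
  z_sq : z * z = 1
  z_ne : z ≠ 1
  y_z : y * z = z * y
  cent_y : ∀ x ∈ Subgroup.zpowers y, x ≠ 1 → ∀ l : L, l * x = x * l →
    l ∈ Subgroup.zpowers y ∨ l * z ∈ Subgroup.zpowers y
  card_cent_z : Nat.card (Subgroup.centralizer ({z} : Set L)) = 4 * T
  i_sq : i * i = 1
  i_z : i * z = z * i
  i_y : i * y * i⁻¹ = y⁻¹
  cent_z : ∀ l : L, l * z = z * l → ∃ s ∈ Subgroup.zpowers y,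
    l = s ∨ l = s * z ∨ l = s * i ∨ l = s * z * i
  involutions_conj : ∀ x : L, x * x = 1 → x ≠ 1 → ∃ l : L, l * z * l⁻¹ = x
  r_cube : r ^ 3 = 1
  r_z : r * z * r⁻¹ ≠ z
  r_comm : r * z * r⁻¹ * z = z * (r * z * r⁻¹)
  r_cycle : r * (r * z * r⁻¹) * r⁻¹ = z * (r * z * r⁻¹)
  cent_four : ∀ l : L, l * z = z * l → l * (r * z * r⁻¹) = r * z * r⁻¹ * l →
    l = 1 ∨ l = z ∨ l = r * z * r⁻¹ ∨ l = z * (r * z * r⁻¹)

variable {F : Type*} [Field F] [Fintype F]

local notation "SL2" => Matrix.SpecialLinearGroup (Fin 2) F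
local notation "PSL2" => Matrix.ProjectiveSpecialLinearGroup (Fin 2) F

theorem exists_GData (p : ℕ) [Fact p.Prime] [CharP F p] (hq : 11 ≤ Fintype.card F) {σ : ℤ} {T : ℕ}
    (hs : (σ = 1 ∧ Fintype.card F % 8 = 3) ∨ (σ = -1 ∧ Fintype.card F % 8 = 5))
    (hT : 4 * (T : ℤ) = Fintype.card F + σ) : Nonempty (GData PSL2 (Fintype.card F) T) := by
  classical
  set q := Fintype.card F with hqdef
  have hodd : q % 2 = 1 := by omega
  have hT2 : T % 2 = 1 := by omega
  have hT3 : 3 ≤ T := by omega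
  have hgcd : Nat.gcd 2 (q - 1) = 2 := Nat.gcd_eq_left (by omega)
  have hpT : ¬ p ∣ T := by
    intro h
    have h1 : (p : ℤ) ∣ 4 * (T : ℤ) := dvd_mul_of_dvd_right (Int.natCast_dvd_natCast.2 h) 4
    have h2 : (p : ℤ) ∣ (q : ℤ) :=
      Int.natCast_dvd_natCast.2 ((CharP.cast_eq_zero_iff F p q).1 (FiniteField.cast_card_eq_zero F))
    rw [hT] at h1
    have h3 : (p : ℤ) ∣ σ := (dvd_add_right h2).1 h1
    have h4 : (p : ℤ) ∣ 1 := by
      rcases hs with ⟨e, -⟩ | ⟨e, -⟩ <;> rw [e] at h3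
      · exact h3
      · exact dvd_neg.1 h3
    exact (Fact.out : p.Prime).not_dvd_one (by exact_mod_cast h4)
  have hcard : 2 * Nat.card PSL2 = q * (q * q - 1) := by
    have h := Cfsg.Lib.Linear.Two.card_PSL_two (F := F)
    rw [← hqdef, hgcd, sq] at h
    exact h
  -- centralizers of semisimple elements of odd order
  have hss : ∀ x : PSL2, x ^ 2 ≠ 1 → ¬ p ∣ orderOf x →
      Nat.card (Subgroup.centralizer ({x} : Set PSL2)) = 2 * T ∨
      ∃ T' : ℕ, (T' = 2 * T - 1 ∨ T' = 2 * T + 1) ∧ orderOf x ∣ T' := by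
    intro x h1 h2
    have h := card_centralizer_semisimple (F := F) (by omega) p h1 h2
    rw [← hqdef, hgcd] at h
    rcases hs with ⟨e, -⟩ | ⟨e, -⟩ <;> rw [e] at hT
    · rw [show (q + 1) / 2 = 2 * T by omega, show (q - 1) / 2 = 2 * T - 1 by omega] at h
      rcases h with ⟨h, -⟩ | ⟨-, h⟩
      exacts [Or.inl h, Or.inr ⟨_, Or.inl rfl, h⟩]
    · rw [show (q + 1) / 2 = 2 * T + 1 by omega, show (q - 1) / 2 = 2 * T by omega] at h
      rcases h with ⟨-, h⟩ | ⟨h, -⟩
      exacts [Or.inr ⟨_, Or.inr rfl, h⟩, Or.inl h]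
  have hinvC : ∀ x : PSL2, x * x = 1 → x ≠ 1 →
      Nat.card (Subgroup.centralizer ({x} : Set PSL2)) = 4 * T := by
    intro x hx hx1
    have h := card_centralizer_involution hodd (by omega) (by rw [sq, hx]) hx1
    rcases hs with ⟨e, h8⟩ | ⟨e, h8⟩ <;> rw [e] at hT
    · rw [h.2 (by omega)]; omega
    · rw [h.1 (by omega)]; omega
  -- the torus of even order
  obtain ⟨y₀, hy₀⟩ : 2 * T ∈ Set.range (orderOf : PSL2 → ℕ) := by
    rw [Cfsg.Lib.Spec.psl_two_spectrum p (by omega), ← hqdef, hgcd]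
    rcases hs with ⟨e, -⟩ | ⟨e, -⟩ <;> rw [e] at hT
    · exact Or.inr (Or.inr (by rw [show (q + 1) / 2 = 2 * T by omega]))
    · exact Or.inr (Or.inl (by rw [show (q - 1) / 2 = 2 * T by omega]))
  set y := y₀ ^ 2 with hy
  set z := y₀ ^ T with hz
  have hordy : orderOf y = T := by
    rw [hy, orderOf_pow, hy₀, Nat.gcd_eq_right (dvd_mul_right 2 T)]; omega
  have hordz : orderOf z = 2 := by
    rw [hz, orderOf_pow, hy₀, Nat.gcd_eq_right (dvd_mul_left T 2)]
    rw [Nat.mul_div_cancel _ (by omega)]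
  have hzsq : z * z = 1 := by
    have := pow_orderOf_eq_one z
    rwa [hordz, sq] at this
  have hz1 : z ≠ 1 := fun e => by rw [e, orderOf_one] at hordz; omega
  have hcy : ∀ x ∈ Subgroup.zpowers y, x ≠ 1 → ∀ l : PSL2, l * x = x * l →
      l ∈ Subgroup.zpowers y₀ := by
    intro x hx hx1 l hl
    have hdvd : orderOf x ∣ T := hordy ▸ orderOf_dvd_of_mem_zpowers hx
    have h2 : x ^ 2 ≠ 1 := fun h => by
      rcases (Nat.dvd_prime Nat.prime_two).mp (orderOf_dvd_of_pow_eq_one h) with e | e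
      · exact hx1 (orderOf_eq_one_iff.mp e)
      · rw [e] at hdvd; omega
    refine mem_zpowers_of_card ((Subgroup.zpowers_le.mpr (Subgroup.pow_mem _
      (Subgroup.mem_zpowers y₀) 2)) hx) ?_ hl
    rcases hss x h2 (fun h => hpT (h.trans hdvd)) with h | ⟨T', hT', h⟩
    · rw [h, hy₀]
    · have h' : orderOf x ∣ 2 * T := hdvd.trans (dvd_mul_left T 2)
      have h1 : orderOf x ∣ 1 := by
        rcases hT' with rfl | rfl
        · simpa [show 2 * T - (2 * T - 1) = 1 by omega] using Nat.dvd_sub h' h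
        · simpa using Nat.dvd_sub h h'
      exact absurd (orderOf_eq_one_iff.mp (Nat.dvd_one.mp h1)) hx1
  have hsplit : ∀ l ∈ Subgroup.zpowers y₀, l ∈ Subgroup.zpowers y ∨ l * z ∈ Subgroup.zpowers y := by
    intro l hl
    obtain ⟨m, rfl⟩ := Subgroup.mem_zpowers_iff.mp hl
    rcases Int.even_or_odd m with ⟨k, rfl⟩ | ⟨k, rfl⟩
    · refine Or.inl ⟨k, ?_⟩
      show y ^ k = y₀ ^ (k + k)
      rw [hy, ← zpow_natCast, ← zpow_mul]; congr 1; push_cast; ring
    · refine Or.inr ⟨k + ((T + 1) / 2 : ℕ), ?_⟩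
      show y ^ (k + (((T + 1) / 2 : ℕ) : ℤ)) = y₀ ^ (2 * k + 1) * z
      rw [hy, hz, ← zpow_natCast y₀ 2, ← zpow_natCast y₀ T, ← zpow_mul, ← zpow_add]
      congr 1; push_cast; omega
  have hzC : Nat.card (Subgroup.centralizer ({z} : Set PSL2)) = 4 * T := hinvC z hzsq hz1
  -- no elements of order four
  have hklein : ∃ V : Subgroup PSL2, IsKleinFour V := by
    by_contra h
    haveI : IsEmpty {V : Subgroup PSL2 // IsKleinFour V} := ⟨fun V => h ⟨V.1, V.2⟩⟩
    have := card_klein (F := F) hodd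
    rw [Nat.card_of_isEmpty, mul_zero] at this
    exact (Nat.card_pos).ne this
  have hno4 : ∀ x : PSL2, x ^ 4 = 1 → x * x = 1 := by
    intro x hx
    haveI : Fact (Nat.Prime 2) := ⟨Nat.prime_two⟩
    obtain ⟨V, hV⟩ := hklein
    haveI := hV
    have hV2 : IsPGroup 2 V := IsPGroup.of_card (n := 2) hV.card_four
    obtain ⟨S, hS⟩ := hV2.exists_le_sylow
    have hx2 : IsPGroup 2 (Subgroup.zpowers x) := by
      obtain ⟨j, -, hj⟩ := (Nat.dvd_prime_pow Nat.prime_two).mp
        (orderOf_dvd_of_pow_eq_one (show x ^ 2 ^ 2 = 1 by simpa using hx))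
      exact IsPGroup.of_card (n := j) (by rw [Nat.card_zpowers, hj])
    obtain ⟨R, hR⟩ := hx2.exists_le_sylow
    obtain ⟨g, rfl⟩ := MulAction.exists_smul_eq PSL2 S R
    have hSV : (S : Subgroup PSL2) = V := by
      refine (Subgroup.eq_of_le_of_card_ge hS ?_).symm
      obtain ⟨j, hj⟩ := IsPGroup.iff_card.mp S.isPGroup'
      rw [hV.card_four, hj]
      by_contra hlt
      push Not at hlt
      have h8 : 8 ∣ Nat.card (S : Subgroup PSL2) := by
        rw [hj, show (8 : ℕ) = 2 ^ 3 by norm_num]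
        exact pow_dvd_pow 2 (by
          by_contra hh; push Not at hh
          interval_cases j <;> norm_num at hlt)
      have h16 : 16 ∣ q * (q * q - 1) := by
        rw [← hcard]
        exact Nat.mul_dvd_mul_left 2 (h8.trans (Subgroup.card_subgroup_dvd_card _))
      have h16' : 16 ∣ q * q - 1 := Nat.Coprime.dvd_of_dvd_mul_left
        (Nat.Coprime.pow_left 4 ((Nat.prime_two.coprime_iff_not_dvd).mpr (by omega))) h16
      rcases hs with ⟨-, h8⟩ | ⟨-, h8⟩
      · obtain ⟨c, hc⟩ : ∃ c, q = 8 * c + 3 := ⟨q / 8, by omega⟩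
        rw [hc, show (8 * c + 3) * (8 * c + 3) = 16 * (4 * c * c + 3 * c) + 9 by ring] at h16'
        omega
      · obtain ⟨c, hc⟩ : ∃ c, q = 8 * c + 5 := ⟨q / 8, by omega⟩
        rw [hc, show (8 * c + 5) * (8 * c + 5) = 16 * (4 * c * c + 5 * c + 1) + 9 by ring] at h16'
        omega
    have hmem := hR (Subgroup.mem_zpowers x)
    rw [Sylow.coe_subgroup_smul, hSV] at hmem
    obtain ⟨v, hv, rfl⟩ := hmem
    have hvv : v * v = 1 := congrArg Subtype.val (IsKleinFour.mul_self (⟨v, hv⟩ : V))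
    simp only [MulDistribMulAction.toMonoidEnd_apply, MulDistribMulAction.toMonoidHom_apply, MulAut.smul_def, MulAut.conj_apply]
    calc g * v * g⁻¹ * (g * v * g⁻¹) = g * (v * v) * g⁻¹ := by group
      _ = 1 := by rw [hvv]; group
  -- an involution inverting the nonsplit torus
  have hy₀C : Subgroup.zpowers y₀ ≤ Subgroup.centralizer ({z} : Set PSL2) := by
    rw [Subgroup.zpowers_le, Subgroup.mem_centralizer_singleton_iff]
    exact (Commute.self_pow y₀ T).eq
  obtain ⟨i, hiC, hi0⟩ : ∃ i ∈ Subgroup.centralizer ({z} : Set PSL2), i ∉ Subgroup.zpowers y₀ := by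
    by_contra h
    push Not at h
    have := Subgroup.card_le_of_le (show Subgroup.centralizer ({z} : Set PSL2) ≤ _ from h)
    rw [hzC, Nat.card_zpowers, hy₀] at this
    omega
  have hidx : ((Subgroup.zpowers y₀).subgroupOf (Subgroup.centralizer ({z} : Set PSL2))).index = 2 := by
    have h := ((Subgroup.zpowers y₀).subgroupOf (Subgroup.centralizer ({z} : Set PSL2))).card_mul_index
    rw [Nat.card_congr (Subgroup.subgroupOfEquivOfLe hy₀C).toEquiv, Nat.card_zpowers, hy₀, hzC] at h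
    exact Nat.eq_of_mul_eq_mul_left (show 0 < 2 * T by omega) (by omega)
  haveI := Subgroup.normal_of_index_eq_two hidx
  have hnorm : ∀ l ∈ Subgroup.centralizer ({z} : Set PSL2), ∀ x ∈ Subgroup.zpowers y₀,
      l * x * l⁻¹ ∈ Subgroup.zpowers y₀ := fun l hl x hx =>
    Subgroup.mem_subgroupOf.mp (this.conj_mem ⟨x, hy₀C hx⟩ (Subgroup.mem_subgroupOf.mpr hx) ⟨l, hl⟩)
  have hmul : ∀ l ∈ Subgroup.centralizer ({z} : Set PSL2), l ∉ Subgroup.zpowers y₀ →
      l * i ∈ Subgroup.zpowers y₀ := by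
    intro l hl hl0
    have h := (Subgroup.mul_mem_iff_of_index_two hidx (a := ⟨l, hl⟩) (b := ⟨i, hiC⟩)).mpr
      ⟨fun h => absurd (Subgroup.mem_subgroupOf.mp h) hl0, fun h => absurd (Subgroup.mem_subgroupOf.mp h) hi0⟩
    exact Subgroup.mem_subgroupOf.mp h
  have hyy₀ : y ∈ Subgroup.zpowers y₀ := Subgroup.pow_mem _ (Subgroup.mem_zpowers y₀) 2
  have hy1 : y ≠ 1 := fun e => by rw [e, orderOf_one] at hordy; omega
  have hTodd_eq_one : ∀ v ∈ Subgroup.zpowers y, v * v = 1 → v = 1 := by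
    intro v hv h
    rcases (Nat.dvd_prime Nat.prime_two).mp (orderOf_dvd_of_pow_eq_one (show v ^ 2 = 1 by rw [sq]; exact h)) with e | e
    · exact orderOf_eq_one_iff.mp e
    · have := orderOf_dvd_of_mem_zpowers hv
      rw [e, hordy] at this
      omega
  have hi_iy : i * y * i⁻¹ = y⁻¹ := by
    have hy' : i * y * i⁻¹ ∈ Subgroup.zpowers y := by
      rcases hsplit _ (hnorm i hiC y hyy₀) with h | h
      · exact h
      · exfalso
        have h1 : orderOf (i * y * i⁻¹) ∣ T := by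
          rw [← MulAut.conj_apply i y, MulEquiv.orderOf_eq, hordy]
        have h2 : orderOf (i * y * i⁻¹ * z) ∣ T := hordy ▸ orderOf_dvd_of_mem_zpowers h
        have hzT : z ^ T = z := by
          rw [show T = 2 * (T / 2) + 1 by omega, pow_succ, pow_mul, sq, hzsq, one_pow, one_mul]
        have hcomm : Commute (i * y * i⁻¹) z :=
          Subgroup.mem_centralizer_singleton_iff.mp (hy₀C (hnorm i hiC y hyy₀))
        have := orderOf_dvd_iff_pow_eq_one.mp h2
        rw [hcomm.mul_pow, orderOf_dvd_iff_pow_eq_one.mp h1, one_mul, hzT] at this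
        exact hz1 this
    have hcomm : ∀ s ∈ Subgroup.zpowers y₀, ∀ s' ∈ Subgroup.zpowers y₀, s * s' = s' * s := fun s hs s' hs' => by
      obtain ⟨k, rfl⟩ := Subgroup.mem_zpowers_iff.mp hs
      obtain ⟨k', rfl⟩ := Subgroup.mem_zpowers_iff.mp hs'
      exact (Commute.zpow_zpow_self y₀ k k').eq
    by_contra hne
    have hv : i * y * i⁻¹ * y ∈ Subgroup.zpowers y := mul_mem hy' (Subgroup.mem_zpowers y)
    have hv1 : i * y * i⁻¹ * y ≠ 1 := fun h => hne (eq_inv_of_mul_eq_one_left h)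
    refine hi0 (hcy _ hv hv1 i ?_)
    have hii : i * i ∈ Subgroup.zpowers y₀ := hmul i hiC hi0
    have h2 : i * i * y = y * (i * i) := hcomm _ hii _ hyy₀
    have h3 : i * y * i⁻¹ * y = y * (i * y * i⁻¹) := hcomm _ (hnorm i hiC y hyy₀) _ hyy₀
    calc i * (i * y * i⁻¹ * y) = (i * i * y) * (i * i)⁻¹ * i * y := by group
      _ = y * i * y := by rw [h2]; group
      _ = y * (i * y * i⁻¹) * i := by group
      _ = i * y * i⁻¹ * y * i := by rw [h3]
  have hisq : i * i = 1 := by
    refine hno4 i ?_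
    have hii : i * i ∈ Subgroup.zpowers y₀ := hmul i hiC hi0
    have h4 : (i * i) ^ 2 ∈ Subgroup.zpowers y := by
      obtain ⟨k, hk⟩ := Subgroup.mem_zpowers_iff.mp hii
      refine ⟨k, ?_⟩
      show y ^ k = (i * i) ^ 2
      rw [← hk, hy, ← zpow_natCast, ← zpow_mul, ← zpow_natCast, ← zpow_mul, mul_comm]
    have hfix : i * ((i * i) ^ 2) * i⁻¹ = (i * i) ^ 2 :=
      mul_inv_eq_iff_eq_mul.mpr (((Commute.refl i).mul_right (Commute.refl i)).pow_right 2).eq
    obtain ⟨k, hk⟩ := Subgroup.mem_zpowers_iff.mp h4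
    rw [← hk, ← MulAut.conj_apply, map_zpow, MulAut.conj_apply, hi_iy, inv_zpow, inv_eq_iff_mul_eq_one, hk] at hfix
    rw [show i ^ 4 = (i * i) ^ 2 by simp [pow_succ, mul_assoc]]
    exact hTodd_eq_one _ h4 hfix
  have hiz : i * z = z * i := Subgroup.mem_centralizer_singleton_iff.mp hiC
  -- the four-group
  have hi1 : i ≠ 1 := fun e => hi0 (e ▸ Subgroup.one_mem _)
  have hiz' : i ≠ z := fun e => hi0 (e ▸ Subgroup.pow_mem _ (Subgroup.mem_zpowers y₀) T)
  set V := fourGroup z i (by rw [sq, hzsq]) (by rw [sq, hisq]) hiz with hVdef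
  haveI hVK : IsKleinFour V := isKleinFour_fourGroup (by rw [sq, hzsq]) (by rw [sq, hisq]) hiz hz1 hi1 hiz'
  obtain ⟨⟨r, hrN⟩, hr⟩ := exists_prime_orderOf_dvd_card'
    (G := Subgroup.normalizer (V : Set PSL2)) 3 (card_normalizer_klein hodd V).2
  rw [Subgroup.orderOf_mk] at hr
  have hr3 : r ^ 3 = 1 := hr ▸ pow_orderOf_eq_one r
  have hzV : z ∈ V := Or.inr (Or.inl rfl)
  have hvsq : ∀ v ∈ V, v * v = 1 := fun v hv => congrArg Subtype.val (IsKleinFour.mul_self (⟨v, hv⟩ : V))
  have hrne : ∀ x ∈ V, x ≠ 1 → r * x * r⁻¹ ≠ x := by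
    intro x hx hx1 h
    haveI : Finite V := IsKleinFour.instFinite
    have hrV : r ∈ V := centralizer_klein hodd V (Subgroup.mem_centralizer_iff.mpr fun v hv => ?_)
    · have h2 := hvsq r hrV
      rw [pow_succ, sq, h2, one_mul] at hr3
      rw [hr3, orderOf_one] at hr
      omega
    · have hxr : Commute r x := mul_inv_eq_iff_eq_mul.mp h
      by_cases hv1 : v = 1
      · rw [hv1, one_mul, mul_one]
      by_cases hvx : v = x
      · rw [hvx]; exact hxr.symm.eq
      set w := r * v * r⁻¹ with hw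
      have hwV : w ∈ V := (Subgroup.mem_normalizer_iff.mp hrN v).mp hv
      have hw1 : w ≠ 1 := fun e => hv1 (conj_eq_one_iff.mp e)
      have hwx : w ≠ x := fun e => hvx (mul_left_cancel (mul_right_cancel (e.trans h.symm)))
      by_cases hwv : w = v
      · exact (mul_inv_eq_iff_eq_mul.mp hwv).symm
      exfalso
      have hwe : w = x * v := congrArg Subtype.val (IsKleinFour.eq_mul_of_ne_all (G := V) (x := ⟨x, hx⟩)
        (y := ⟨v, hv⟩) (z := ⟨w, hwV⟩) (fun e => hx1 (congrArg Subtype.val e))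
        (fun e => hv1 (congrArg Subtype.val e)) (fun e => hvx (congrArg Subtype.val e).symm)
        (fun e => hw1 (congrArg Subtype.val e)) (fun e => hwx (congrArg Subtype.val e))
        (fun e => hwv (congrArg Subtype.val e)))
      have h2 : r * w * r⁻¹ = v := by
        calc r * w * r⁻¹ = (r * x * r⁻¹) * (r * v * r⁻¹) := by rw [hwe]; group
          _ = x * (x * v) := by rw [h, ← hw, hwe]
          _ = v := by rw [← mul_assoc, hvsq x hx, one_mul]
      refine hwv ?_
      calc w = r * (r * w * r⁻¹) * r⁻¹ := by rw [h2]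
        _ = r ^ 3 * v * (r ^ 3)⁻¹ := by
          rw [hw, show r ^ 3 = r * r * r by simp [pow_succ]]; group
        _ = v := by rw [hr3]; group
  set z' := r * z * r⁻¹ with hz'
  have hz'V : z' ∈ V := (Subgroup.mem_normalizer_iff.mp hrN z).mp hzV
  set z'' := r * z' * r⁻¹ with hz''
  have hz''V : z'' ∈ V := (Subgroup.mem_normalizer_iff.mp hrN z').mp hz'V
  have hcommV : ∀ s ∈ V, ∀ s' ∈ V, s * s' = s' * s := fun s hs s' hs' => by
    have h := fun (v : PSL2) (hv : v ∈ V) =>
      inv_eq_of_mul_eq_one_right (congrArg Subtype.val (IsKleinFour.mul_self (⟨v, hv⟩ : V)) : v * v = 1)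
    calc s * s' = (s * s')⁻¹ := (h _ (mul_mem hs hs')).symm
      _ = s' * s := by rw [mul_inv_rev, h s hs, h s' hs']
  have hz'1 : z' ≠ 1 := fun e => hz1 (conj_eq_one_iff.mp e)
  have hz'sq : z' * z' = 1 := congrArg Subtype.val (IsKleinFour.mul_self (⟨z', hz'V⟩ : V))
  have hcyc : z'' = z * z' := by
    have h0 : z'' ≠ 1 := fun e => hz'1 (conj_eq_one_iff.mp e)
    have h1 : z'' ≠ z' := hrne z' hz'V hz'1
    have h2 : z'' ≠ z := fun e => hrne z hzV hz1 (by
      calc r * z * r⁻¹ = r * z'' * r⁻¹ := by rw [e]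
        _ = r ^ 3 * z * (r ^ 3)⁻¹ := by
          rw [hz'', hz', show r ^ 3 = r * r * r by simp [pow_succ]]; group
        _ = z := by rw [hr3]; group)
    haveI : Finite V := IsKleinFour.instFinite
    have hle := IsKleinFour.eq_mul_of_ne_all (G := V) (x := ⟨z, hzV⟩) (y := ⟨z', hz'V⟩)
      (z := ⟨z'', hz''V⟩) (fun e => hz1 (congrArg Subtype.val e))
      (fun e => hz'1 (congrArg Subtype.val e)) (fun e => hrne z hzV hz1 (congrArg Subtype.val e).symm)
      (fun e => h0 (congrArg Subtype.val e)) (fun e => h2 (congrArg Subtype.val e))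
      (fun e => h1 (congrArg Subtype.val e))
    exact congrArg Subtype.val hle
  refine ⟨{
    y := y, z := z, i := i, r := r
    card_L := hcard
    orderOf_y := hordy, z_sq := hzsq, z_ne := hz1
    y_z := Subgroup.mem_centralizer_singleton_iff.mp (hy₀C hyy₀)
    cent_y := fun x hx hx1 l hl => hsplit l (hcy x hx hx1 l hl)
    card_cent_z := hzC, i_sq := hisq, i_z := hiz, i_y := hi_iy
    cent_z := ?_, involutions_conj := ?_
    r_cube := hr3, r_z := hrne z hzV hz1
    r_comm := hcommV _ hz'V _ hzV, r_cycle := hcyc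
    cent_four := ?_ }⟩
  · intro l hl
    have hlC : l ∈ Subgroup.centralizer ({z} : Set PSL2) := Subgroup.mem_centralizer_singleton_iff.mpr hl
    by_cases hl0 : l ∈ Subgroup.zpowers y₀
    · rcases hsplit l hl0 with h | h
      · exact ⟨l, h, Or.inl rfl⟩
      · exact ⟨l * z, h, Or.inr (Or.inl (by rw [mul_assoc, hzsq, mul_one]))⟩
    · rcases hsplit _ (hmul l hlC hl0) with h | h
      · exact ⟨l * i, h, Or.inr (Or.inr (Or.inl (by rw [mul_assoc, hisq, mul_one])))⟩
      · exact ⟨l * i * z, h, Or.inr (Or.inr (Or.inr (by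
          rw [mul_assoc (l * i) z z, hzsq, mul_one, mul_assoc, hisq, mul_one])))⟩
  · intro x hx hx1
    obtain ⟨c, hc⟩ := exists_conj_involution hodd (x := x) (y := z) (by rw [sq, hx]) hx1 (by rw [sq, hzsq]) hz1
    exact ⟨c, by rw [← hc]; group⟩
  · intro l hl hl'
    haveI : Finite V := IsKleinFour.instFinite
    have hlV : l ∈ V := centralizer_klein hodd V (Subgroup.mem_centralizer_iff.mpr fun v hv => by
      rcases hv with hv | hv | hv | hv <;> rw [hv]
      · rw [one_mul, mul_one]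
      · exact hl.symm
      all_goals
        have hiV : i = z' ∨ i = z * z' := by
          by_contra hne
          push Not at hne
          have := IsKleinFour.eq_mul_of_ne_all (G := V) (x := ⟨z, hzV⟩) (y := ⟨z', hz'V⟩)
            (z := ⟨i, Or.inr (Or.inr (Or.inl rfl))⟩) (fun e => hz1 (congrArg Subtype.val e))
            (fun e => hz'1 (congrArg Subtype.val e)) (fun e => hrne z hzV hz1 (congrArg Subtype.val e).symm)
            (fun e => hi1 (congrArg Subtype.val e)) (fun e => hiz' (congrArg Subtype.val e))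
            (fun e => hne.1 (congrArg Subtype.val e))
          exact hne.2 (congrArg Subtype.val this)
        have hli : Commute l i := by
          rcases hiV with e | e <;> rw [e]
          · exact hl'
          · exact (Commute.mul_right hl hl')
      · exact hli.symm.eq
      · exact ((Commute.mul_right hl hli).symm).eq)
    by_cases h1 : l = 1
    · exact Or.inl h1
    by_cases h2 : l = z
    · exact Or.inr (Or.inl h2)
    by_cases h3 : l = z'
    · exact Or.inr (Or.inr (Or.inl h3))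
    refine Or.inr (Or.inr (Or.inr ?_))
    exact congrArg Subtype.val (IsKleinFour.eq_mul_of_ne_all (G := V) (x := ⟨z, hzV⟩) (y := ⟨z', hz'V⟩)
      (z := ⟨l, hlV⟩) (fun e => hz1 (congrArg Subtype.val e))
      (fun e => hz'1 (congrArg Subtype.val e)) (fun e => hrne z hzV hz1 (congrArg Subtype.val e).symm)
      (fun e => h1 (congrArg Subtype.val e)) (fun e => h2 (congrArg Subtype.val e))
      (fun e => h3 (congrArg Subtype.val e)))

end Cfsg.Lib.Walter8
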