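import Cfsg.Agent.Lib.Walter8.ModelChars
import Cfsg.Agent.Lib.Walter8.ModelGroup
import Cfsg.Agent.Lib.Walter8.Model
import Cfsg.Agent.Lib.Char.Quotient

/-!
# `PSL₂(q)`, `q ≡ 3, 5 (mod 8)`, is a model for centralizers `2 × PSL₂(q)`
-/

set_option autoImplicit false
set_option linter.unusedSectionVars false
set_option linter.style.haveILetI false

namespace Cfsg.Lib.Walter8

open Cfsg Cfsg.Lib.Char Cfsg.Lib.TwoDim Matrix
open scoped MatrixGroups

universe u v

/-- Transport of a model along an isomorphism. -/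
noncomputable def LModel.map {L : Type u} [Group L] {P : Type v} [Group P] (D : LModel P) (e : L ≃* P) :
    LModel L :=
  have hmem : ∀ {x : L} {a : P}, x ∈ Subgroup.zpowers (e.symm a) ↔ e x ∈ Subgroup.zpowers a := by
    intro x a
    simp only [Subgroup.mem_zpowers_iff, ← map_zpow, MulEquiv.symm_apply_eq]
  have hiff : ∀ {x : L} {a : P}, x = e.symm a ↔ e x = a := fun {x a} => by rw [MulEquiv.eq_symm_apply]
  { p := D.p, q := D.q, T := D.T, σ := D.σ, p_prime := D.p_prime, q_eq := D.q_eq, q_ge := D.q_ge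
    sign := D.sign, hT := D.hT
    y := e.symm D.y, z := e.symm D.z, i := e.symm D.i, r := e.symm D.r
    card_L := by rw [Nat.card_congr e.toEquiv]; exact D.card_L
    orderOf_y := by rw [MulEquiv.orderOf_eq]; exact D.orderOf_y
    z_sq := by rw [← map_mul, D.z_sq, map_one]
    z_ne := fun h => D.z_ne (by simpa using congrArg e h)
    y_z := by rw [← map_mul, D.y_z, map_mul]
    cent_y := fun x hx hx1 l hl => by
      rw [hmem, hmem, map_mul, e.apply_symm_apply]
      exact D.cent_y (e x) (hmem.1 hx) (fun h => hx1 (e.map_eq_one_iff.1 h)) (e l)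
        (by rw [← map_mul, hl, map_mul])
    card_cent_z := by
      rw [← D.card_cent_z]
      exact Nat.card_congr (e.toEquiv.subtypeEquiv fun l => by
        show l ∈ Subgroup.centralizer {e.symm D.z} ↔ e l ∈ Subgroup.centralizer {D.z}
        rw [Subgroup.mem_centralizer_singleton_iff, Subgroup.mem_centralizer_singleton_iff,
          ← e.injective.eq_iff, map_mul, map_mul, e.apply_symm_apply])
    i_sq := by rw [← map_mul, D.i_sq, map_one]
    i_z := by rw [← map_mul, D.i_z, map_mul]
    i_y := by rw [← map_inv, ← map_mul, ← map_mul, D.i_y, map_inv]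
    cent_z := fun l hl => by
      obtain ⟨s, hs, h⟩ := D.cent_z (e l)
        (by simpa using congrArg e hl)
      refine ⟨e.symm s, hmem.2 (by rwa [e.apply_symm_apply]), ?_⟩
      rw [← map_mul, ← map_mul, ← map_mul]
      exact h.imp hiff.2 (Or.imp hiff.2 (Or.imp hiff.2 hiff.2))
    involutions_conj := fun x hx hx1 => by
      obtain ⟨l, hl⟩ := D.involutions_conj (e x) (by rw [← map_mul, hx, map_one])
        (fun h => hx1 (e.map_eq_one_iff.1 h))
      exact ⟨e.symm l, by rw [← map_inv, ← map_mul, ← map_mul, hl, e.symm_apply_apply]⟩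
    r_cube := by rw [← map_pow, D.r_cube, map_one]
    r_z := fun h => D.r_z (by simpa using congrArg e h)
    r_comm := by simp only [← map_inv, ← map_mul, D.r_comm]
    r_cycle := by simp only [← map_inv, ← map_mul, D.r_cycle]
    cent_four := fun l hl hl' => by
      simp only [← map_inv, ← map_mul, hiff]
      rw [← e.map_eq_one_iff]
      refine D.cent_four (e l) (by simpa using congrArg e hl) ?_
      simpa [map_mul, map_inv] using congrArg e hl'
    st := ⟨fun l => (D.st : P → ℂ) (e l), D.st.2.comp_surjective e.toMonoidHom e.surjective⟩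
    eta := ⟨fun l => (D.eta : P → ℂ) (e l), D.eta.2.comp_surjective e.toMonoidHom e.surjective⟩
    eta' := ⟨fun l => (D.eta' : P → ℂ) (e l), D.eta'.2.comp_surjective e.toMonoidHom e.surjective⟩
    eta_ne := fun h => D.eta_ne (Subtype.ext (funext fun a => by
      simpa using congrFun (congrArg Subtype.val h) (e.symm a)))
    st_one := (congrArg (D.st : P → ℂ) (map_one e)).trans D.st_one
    eta_one := by
      show 2 * (D.eta : P → ℂ) (e 1) = _
      rw [map_one]; exact D.eta_one
    eta'_one := by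
      show 2 * (D.eta' : P → ℂ) (e 1) = _
      rw [map_one]; exact D.eta'_one
    st_even := fun l hl hl1 => D.st_even (e l) (by rw [← map_pow, hl, map_one])
      (fun h => hl1 (e.map_eq_one_iff.1 h))
    eta_even := fun l hl hl1 => by
      have h := D.eta_even (e l) (by rw [← map_pow, hl, map_one]) (fun h => hl1 (e.map_eq_one_iff.1 h))
      rw [← map_pow, ne_eq, e.map_eq_one_iff] at h
      exact h
    rel_odd := fun l hl => D.rel_odd (e l) (by rwa [MulEquiv.orderOf_eq])
    galois := fun k hk hk' l => by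
      show (D.eta : P → ℂ) (e (l ^ k)) = _
      rw [map_pow]
      exact D.galois k (by rwa [Nat.card_congr e.toEquiv] at hk) hk' (e l) }

theorem LModel.map_q {L : Type u} [Group L] {P : Type v} [Group P] (D : LModel P) (e : L ≃* P) :
    (D.map e).q = D.q := rfl

variable {F : Type v} [Field F] [Fintype F]

local notation "PSL2" => Matrix.ProjectiveSpecialLinearGroup (Fin 2) F

/-- A number which is not a square modulo `p` is not a square in a field of order `p` to an odd power. -/
theorem not_isSquare_cast (p a : ℕ) [Fact p.Prime] [CharP F p] (ha : Odd a) (hF : Fintype.card F = p ^ a)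
    (hp : p ≠ 2) {k : ℕ} (hk : ¬ IsSquare (k : ZMod p)) : ¬ IsSquare (k : F) := by
  have hk0 : (k : ZMod p) ≠ 0 := fun e => hk (e ▸ IsSquare.zero)
  let f := ZMod.castHom (dvd_refl p) F
  have hcast : (k : F) = f (k : ZMod p) := (map_natCast f k).symm
  have hkF : (k : F) ≠ 0 := by rw [hcast]; exact (map_ne_zero f).2 hk0
  have he : (k : F) ^ (p / 2) = -1 := by
    rcases ZMod.pow_div_two_eq_neg_one_or_one p hk0 with e | e
    · exact absurd ((ZMod.euler_criterion p hk0).2 e) hk
    · rw [hcast, ← map_pow, e, map_neg, map_one]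
  rintro ⟨s, hs⟩
  have hs0 : s ≠ 0 := fun e => hkF (by rw [hs, e, zero_mul])
  have hpo : p % 2 = 1 := ((Fact.out : p.Prime).eq_two_or_odd).resolve_left hp
  have hsp : s ^ p = -s := by
    rw [show p = 2 * (p / 2) + 1 by omega, pow_succ, pow_mul, sq, ← hs, he, neg_one_mul]
  have hiter : ∀ n : ℕ, s ^ p ^ n = (-1) ^ n * s := by
    intro n
    induction n with
    | zero => simp
    | succ n ih =>
      rw [pow_succ, pow_mul, ih, mul_pow, hsp, pow_right_comm, (Nat.odd_iff.2 hpo).neg_one_pow, pow_succ]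
      ring
  have h := FiniteField.pow_card s
  rw [hF, hiter, ha.neg_one_pow, neg_one_mul] at h
  have h2 : (2 : F) ≠ 0 := Ring.two_ne_zero (by rw [ringChar.eq F p]; exact hp)
  exact hs0 (mul_left_cancel₀ h2 (by linear_combination -h))

theorem exists_LModel_psl (hq : 11 ≤ Fintype.card F) (h8 : Fintype.card F % 8 = 3 ∨ Fintype.card F % 8 = 5) :
    ∃ D : LModel PSL2, D.q = Fintype.card F := by
  classical
  obtain ⟨p, hchar⟩ := CharP.exists F
  obtain ⟨a, hp, hpa⟩ := FiniteField.card F p
  haveI := Fact.mk hp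
  have hp2 : p ≠ 2 := by
    rintro rfl
    have := (FiniteField.even_card_iff_char_two (F := F)).1 (ringChar.eq F 2)
    omega
  have haodd : Odd (a : ℕ) := by
    by_contra hev
    obtain ⟨b, hb⟩ := Nat.not_odd_iff_even.1 hev
    have hpo : p % 2 = 1 := (hp.eq_two_or_odd).resolve_left hp2
    have hsq : Fintype.card F = p ^ b * p ^ b := by rw [hpa, hb, pow_add]
    obtain ⟨c, hc⟩ : ∃ c, p ^ b = 2 * c + 1 := ⟨p ^ b / 2, by
      have := Nat.pow_mod p b 2
      rw [hpo, one_pow] at this
      omega⟩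
    have hcc : 2 ∣ c * (c + 1) := (Nat.even_mul_succ_self c).two_dvd
    rw [hc, show (2 * c + 1) * (2 * c + 1) = 4 * (c * (c + 1)) + 1 by ring] at hsq
    omega
  obtain ⟨σ, T, hs, hT, hB⟩ : ∃ (σ : ℤ) (T : ℕ), ((σ = 1 ∧ Fintype.card F % 8 = 3) ∨
      (σ = -1 ∧ Fintype.card F % 8 = 5)) ∧ 4 * (T : ℤ) = Fintype.card F + σ ∧ Nonempty (BlockChar F σ T) := by
    rcases h8 with h | h
    · exact ⟨1, (Fintype.card F + 1) / 4, Or.inl ⟨rfl, h⟩, by omega, exists_blockChar_three (by omega)⟩
    · exact ⟨-1, (Fintype.card F - 1) / 4, Or.inr ⟨rfl, h⟩, by omega, exists_blockChar_five (by omega)⟩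
  obtain ⟨B⟩ := hB
  obtain ⟨G⟩ := exists_GData p hq hs hT
  have hch : ringChar F ≠ 2 := by rw [ringChar.eq F p]; exact hp2
  have h2 : (2 : F) ≠ 0 := Ring.two_ne_zero hch
  have hTodd : T % 2 = 1 := by omega
  -- the characters
  have hχn := trivial_on_center (χ := B.χ)
    ((B.split.apply_neg (ε := 1) (by rw [one_mul]; exact B.neg)).trans (one_mul _))
  have hψn := trivial_on_center (χ := B.ψ)
    ((B.split.symm.apply_neg (ε := 1) (by rw [one_mul]; exact B.neg)).trans (one_mul _))
  have hSn := trivial_on_center (stR_neg_one (F := F))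
  obtain ⟨st, hst, est⟩ := exists_deflate_irr (Subgroup.center SL(2, F)) irr_stR hSn
  obtain ⟨et, het, eet⟩ := exists_deflate_irr (Subgroup.center SL(2, F)) B.split.irr hχn
  obtain ⟨et', het', eet'⟩ := exists_deflate_irr (Subgroup.center SL(2, F)) B.split.irr' hψn
  have hlift : ∀ (g : SL(2, F)) (n : ℕ), ((g : PSL2)) ^ n = 1 → g ^ (2 * n) = 1 := by
    intro g n h
    rw [← QuotientGroup.mk_pow, QuotientGroup.eq_one_iff] at h
    rcases center_cases h with e | e <;> rw [mul_comm, pow_mul, e]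
    · exact one_pow 2
    · exact neg_one_sq
  have hone : ∀ g : SL(2, F), (g : PSL2) ≠ 1 → g ≠ 1 ∧ g ≠ -1 := fun g h =>
    ⟨fun e => h ((QuotientGroup.eq_one_iff g).2 (e ▸ one_mem _)), fun e => h ((QuotientGroup.eq_one_iff g).2
      (e ▸ Subgroup.mem_center_iff.2 fun x => by rw [mul_neg, neg_mul, mul_one, one_mul]))⟩
  have hT' : ∀ g : SL(2, F), ((g : PSL2)) ^ T = 1 ↔ g ^ (2 * T) = 1 := fun g => by
    refine ⟨hlift g T, fun h => ?_⟩
    rw [← QuotientGroup.mk_pow, QuotientGroup.eq_one_iff]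
    rcases pm_one_of_mul_self h2 (g := g ^ T) (by rw [← pow_add, ← two_mul, h]) with e | e <;> rw [e]
    · exact one_mem _
    · exact Subgroup.mem_center_iff.2 fun x => by rw [mul_neg, neg_mul, mul_one, one_mul]
  have heven : ∀ g : SL(2, F), (g : PSL2) ^ (2 * T) = 1 → (g : PSL2) ≠ 1 → stR F g = -σ ∧
      ((g : PSL2) ^ T = 1 → B.χ g = -σ ∧ B.ψ g = -σ) ∧ ((g : PSL2) ^ T ≠ 1 → B.χ g = σ ∧ B.ψ g = σ) := by
    intro g hg hg1
    obtain ⟨hs', ht, e1, e2, e3⟩ := B.even g (by rw [show 4 * T = 2 * (2 * T) by ring]; exact hlift g _ hg)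
      (hone g hg1).1 (hone g hg1).2
    have r1 := B.split.regular hch hs' ht
    have r2 := B.split.symm.regular hch hs' ht
    refine ⟨e1, fun h => ?_, fun h => ?_⟩
    · rw [hT'] at h
      rw [e2 h] at r1 r2
      exact ⟨mul_left_cancel₀ two_ne_zero (r1.trans (by ring)), mul_left_cancel₀ two_ne_zero (r2.trans (by ring))⟩
    · rw [ne_eq, hT'] at h
      rw [e3 h] at r1 r2
      exact ⟨mul_left_cancel₀ two_ne_zero r1, mul_left_cancel₀ two_ne_zero r2⟩
  refine ⟨{
    p := p, q := Fintype.card F, T := T, σ := σ, p_prime := hp, q_eq := ⟨a, haodd, hpa⟩, q_ge := hq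
    sign := hs, hT := hT
    y := G.y, z := G.z, i := G.i, r := G.r, card_L := G.card_L, orderOf_y := G.orderOf_y
    z_sq := G.z_sq, z_ne := G.z_ne, y_z := G.y_z, cent_y := G.cent_y, card_cent_z := G.card_cent_z
    i_sq := G.i_sq, i_z := G.i_z, i_y := G.i_y, cent_z := G.cent_z, involutions_conj := G.involutions_conj
    r_cube := G.r_cube, r_z := G.r_z, r_comm := G.r_comm, r_cycle := G.r_cycle, cent_four := G.cent_four
    st := ⟨st, hst⟩, eta := ⟨et, het⟩, eta' := ⟨et', het'⟩
    eta_ne := fun h => B.split.ne (funext fun g => by rw [← eet, ← eet', show et = et' from congrArg Subtype.val h])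
    st_one := (est 1).trans stR_one
    eta_one := ?_, eta'_one := ?_, st_even := ?_, eta_even := ?_, rel_odd := ?_, galois := ?_ }, rfl⟩
  · show 2 * et ((1 : SL(2, F)) : PSL2) = _
    rw [eet, B.split.apply_one, B.apply_one]
  · show 2 * et' ((1 : SL(2, F)) : PSL2) = _
    rw [eet', B.split.symm.apply_one, B.apply_one]
  · intro l hl hl1
    obtain ⟨g, rfl⟩ := QuotientGroup.mk_surjective l
    exact (est g).trans (heven g hl hl1).1
  · intro l hl hl1
    obtain ⟨g, rfl⟩ := QuotientGroup.mk_surjective l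
    show (_ → et g = _ ∧ et' g = _) ∧ (_ → et g = _ ∧ et' g = _)
    rw [eet, eet']
    exact (heven g hl hl1).2
  · intro l hl
    obtain ⟨g, rfl⟩ := QuotientGroup.mk_surjective l
    show (σ : ℂ) * st g = 1 + σ * et g + σ * et' g
    rw [est, eet, eet', add_assoc, ← mul_add, ← Pi.add_apply, ← B.split.eq]
    exact B.rel g _ (Nat.not_even_iff_odd.1 fun e => hl e.two_dvd) (hlift g _ (pow_orderOf_eq_one _))
  · intro k hk hk' l
    obtain ⟨g, rfl⟩ := QuotientGroup.mk_surjective l
    have hcardSL : Nat.card SL(2, F) = 2 * Nat.card PSL2 := by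
      rw [Cfsg.Lib.Linear.card_SL_eq_gcd_mul_card_PSL (ι := Fin 2), Fintype.card_fin,
        Nat.gcd_eq_left (show 2 ∣ Fintype.card F - 1 by omega)]
    have hev : 2 ∣ Nat.card PSL2 := by
      have h1 : orderOf G.z = 2 := orderOf_eq_prime (by rw [sq, G.z_sq]) G.z_ne
      have h' := orderOf_dvd_natCard G.z
      rwa [h1] at h'
    have hk2 : k.Coprime 2 := hk.coprime_dvd_right hev
    have hko : Odd k := Nat.coprime_two_right.1 hk2
    show et ((g : PSL2) ^ k) = et' g
    rw [← QuotientGroup.mk_pow, eet, eet']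
    exact swap_pow B.split hch B.hν B.neg B.rational (by rw [hcardSL]; exact hk2.mul_right hk) hko
      (not_isSquare_cast p a haodd hpa hp2 hk') g

/-- `PSL₂(q)`, `q ≡ 3, 5 (mod 8)`, carries a model. -/
theorem exists_LModel {F : Type*} [Field F] [Fintype F] {L : Type u} [Group L]
    (e : L ≃* Matrix.ProjectiveSpecialLinearGroup (Fin 2) F) (hq : 11 ≤ Fintype.card F)
    (h8 : Fintype.card F % 8 = 3 ∨ Fintype.card F % 8 = 5) : ∃ D : LModel L, D.q = Fintype.card F := by
  obtain ⟨D, hD⟩ := exists_LModel_psl (F := F) hq h8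
  exact ⟨D.map e, hD⟩

end Cfsg.Lib.Walter8
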