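import Cfsg.Agent.Lib.Fusion.Abelian
import Cfsg.Agent.Lib.AbTwo.Assembly
import Cfsg.Agent.Lib.Dickson.Solvable
import Cfsg.Agent.Lib.SelfNormNA.Converse
import Cfsg.Agent.S0276
import Cfsg.Agent.S2507

/-!
# No simple group with abelian Sylow two-subgroups has an involution centralizer `2 × A₄`

All involutions are fused in the normalizer of the Sylow two-subgroup, so all their centralizers
are solvable and the group is `PSL₂(q)`, whose Sylow two-subgroups or class sizes do not fit.
-/

set_option autoImplicit false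
set_option linter.unusedSectionVars false
set_option linter.style.haveILetI false

namespace Cfsg.Lib.Walter8.Three

open Subgroup

/-- The centralizer. -/
abbrev M4 := Multiplicative (ZMod 2) × alternatingGroup (Fin 4)

/-- A three-cycle. -/
def cy : M4 := (1, ⟨Equiv.swap 0 1 * Equiv.swap 1 2, Equiv.Perm.mem_alternatingGroup.2 (by decide)⟩)

/-- An involution of the alternating part. -/
def dbl : alternatingGroup (Fin 4) :=
  ⟨Equiv.swap 0 1 * Equiv.swap 2 3, Equiv.Perm.mem_alternatingGroup.2 (by decide)⟩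

/-- The involutions. -/
def el : Fin 7 → M4 :=
  ![(Multiplicative.ofAdd 1, 1), (1, dbl), cy * (1, dbl) * cy⁻¹, cy * cy * (1, dbl) * (cy * cy)⁻¹,
    (Multiplicative.ofAdd 1, dbl), cy * (Multiplicative.ofAdd 1, dbl) * cy⁻¹,
    cy * cy * (Multiplicative.ofAdd 1, dbl) * (cy * cy)⁻¹]

/-- The action of the three-cycle on the involutions. -/
def nxt : Fin 7 → Fin 7 := ![0, 2, 3, 1, 5, 6, 4]

theorem el_all : ∀ m : M4, m * m = 1 → m = 1 ∨ ∃ i, el i = m := by decide +kernel

theorem el_sq : ∀ i, el i * el i = 1 ∧ el i ≠ 1 := by decide +kernel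

theorem el_inj : ∀ i j, el i = el j → i = j := by decide +kernel

theorem el_nxt : ∀ i, cy * el i * cy⁻¹ = el (nxt i) := by decide +kernel

theorem orbit_key : ∀ s : Finset (Fin 7), 0 ∈ s → (∀ i ∈ s, nxt i ∈ s) → Odd s.card → s ≠ {0} →
    ∀ i, i ∈ s := by decide +kernel

theorem center_cases : ∀ m : M4, (∀ n, n * m = m * n) → m = 1 ∨ m = el 0 := by decide +kernel

theorem pow_eight : ∀ m : M4, m ^ 8 = 1 → m * m = 1 := by decide +kernel

theorem card_sq : (Finset.univ.filter fun m : M4 => m * m = 1).card = 8 := by decide +kernel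

theorem comm_witness : ∃ m n : M4, m * n ≠ n * m := by decide +kernel

theorem card_M4 : Fintype.card M4 = 24 := by decide +kernel

theorem isSolvable_M4 : Group.IsSolvable M4 := by
  haveI := Cfsg.Lib.Dickson.isSolvable_alternating_four
  infer_instance

/-- No centralizer `2 × A₄`. -/
theorem false_of_four {G : Type*} [Group G] [Finite G] [IsSimpleGroup G]
    (hab : ∀ P : Sylow 2 G, ∀ a b : P, a * b = b * a) (t : G) (ht : orderOf t = 2)
    (e : centralizer ({t} : Set G) ≃* M4) : False := by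
  classical
  haveI : Fact (Nat.Prime 2) := ⟨Nat.prime_two⟩
  haveI := Fintype.ofFinite G
  have ht1 : t ≠ 1 := fun h => by rw [h, orderOf_one] at ht; omega
  set C := centralizer ({t} : Set G) with hC
  have htC : t ∈ C := mem_centralizer_singleton_iff.2 rfl
  have he0 : e ⟨t, htC⟩ = el 0 := by
    rcases center_cases (e ⟨t, htC⟩) (fun n => by
      obtain ⟨x, rfl⟩ := e.surjective n
      rw [← map_mul, ← map_mul]
      congr 1
      exact Subtype.ext (mem_centralizer_singleton_iff.1 x.2)) with h | h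
    · exact absurd (congrArg Subtype.val (e.map_eq_one_iff.1 h)) ht1
    · exact h
  have hna : ¬ IsMulCommutative G := fun h => by
    obtain ⟨m, n, hmn⟩ := comm_witness
    obtain ⟨x, rfl⟩ := e.surjective m
    obtain ⟨y, rfl⟩ := e.surjective n
    exact hmn (by rw [← map_mul, ← map_mul]; exact congrArg e (Subtype.ext (h.is_comm.comm (x : G) y)))
  have hperf : commutator G = ⊤ :=
    (Normal.eq_bot_or_eq_top (H := commutator G) inferInstance).resolve_left fun h => hna ⟨⟨fun a b => by
      have := Subgroup.commutator_mem_commutator (mem_top a) (mem_top b) (H₁ := ⊤) (H₂ := ⊤)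
      rw [← _root_.commutator_def, h, mem_bot] at this
      exact commutatorElement_eq_one_iff_mul_comm.1 this⟩⟩
  have hcardC : Nat.card C = 24 := by
    rw [Nat.card_congr e.toEquiv, Nat.card_eq_fintype_card, card_M4]
  -- the Sylow two-subgroup
  obtain ⟨P, hP0⟩ := (IsPGroup.of_card (n := 1) (by rw [Nat.card_zpowers, ht, pow_one]) :
    IsPGroup 2 (zpowers t)).exists_le_sylow
  have htP : t ∈ (P : Subgroup G) := hP0 (mem_zpowers t)
  haveI : IsMulCommutative (P : Subgroup G) := ⟨⟨hab P⟩⟩
  have hcomm : ∀ x ∈ (P : Subgroup G), ∀ y ∈ (P : Subgroup G), x * y = y * x := fun x hx y hy =>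
    congrArg Subtype.val (hab P ⟨x, hx⟩ ⟨y, hy⟩)
  have hPC : (P : Subgroup G) ≤ C := fun x hx => mem_centralizer_singleton_iff.2 (hcomm x hx t htP)
  have hP8 : Nat.card (P : Subgroup G) = 8 := by
    obtain ⟨k, hk⟩ := IsPGroup.iff_card.1 P.2
    have h2 : 2 ^ k ∣ 2 ^ 3 := (Nat.Coprime.pow_left k (by norm_num : Nat.Coprime 2 3)).dvd_of_dvd_mul_right
      (by have := card_dvd_of_le hPC; rw [hk, hcardC] at this; norm_num; exact this)
    have h3 : 2 ^ 3 ∣ 2 ^ k := by
      rw [← hk]
      refine P.pow_dvd_card_of_pow_dvd_card (dvd_trans ?_ (card_subgroup_dvd_card C))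
      rw [hcardC]; norm_num
    rw [hk]; exact (Nat.dvd_antisymm h2 h3).trans (by norm_num)
  have hsq : ∀ x ∈ (P : Subgroup G), x * x = 1 := by
    intro x hx
    have h8 : (⟨x, hPC hx⟩ : C) ^ 8 = 1 := by
      refine Subtype.ext ?_
      show x ^ 8 = 1
      rw [← hP8]
      exact congrArg Subtype.val (pow_card_eq_one' (x := (⟨x, hx⟩ : (P : Subgroup G))))
    have h := pow_eight _ (by rw [← map_pow, h8, map_one] : e ⟨x, hPC hx⟩ ^ 8 = 1)
    rw [← map_mul] at h
    exact congrArg Subtype.val (e.map_eq_one_iff.1 h)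
  have hmem : ∀ m : M4, m * m = 1 → (e.symm m : G) ∈ (P : Subgroup G) := by
    let f : ↥(P : Subgroup G) → {m : M4 // m * m = 1} := fun x => ⟨e ⟨x, hPC x.2⟩, by
      rw [← map_mul, show (⟨x, hPC x.2⟩ : C) * ⟨x, hPC x.2⟩ = 1 from Subtype.ext (hsq x x.2), map_one]⟩
    have hf : Function.Injective f := fun a b h =>
      Subtype.ext (congrArg (fun c : C => (c : G)) (e.injective (congrArg Subtype.val h)))
    have hb : Function.Bijective f := (Nat.bijective_iff_injective_and_card f).2 ⟨hf, by
      rw [hP8, Nat.card_eq_fintype_card, Fintype.card_subtype, card_sq]⟩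
    intro m hm
    obtain ⟨x, hx⟩ := hb.2 ⟨m, hm⟩
    rw [← show e ⟨x, hPC x.2⟩ = m from congrArg Subtype.val hx, e.symm_apply_apply]
    exact x.2
  set N := normalizer ((P : Subgroup G) : Set G) with hN
  have hcyN : (e.symm cy : G) ∈ N := by
    have h : ∀ c : C, ∀ x ∈ (P : Subgroup G), (c : G) * x * (c : G)⁻¹ ∈ (P : Subgroup G) := by
      intro c x hx
      have h := hmem (e c * e ⟨x, hPC hx⟩ * (e c)⁻¹) (by
        rw [← map_inv, ← map_mul, ← map_mul, ← map_mul, show c * ⟨x, hPC hx⟩ * c⁻¹ * (c * ⟨x, hPC hx⟩ * c⁻¹) = 1 by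
          rw [show c * ⟨x, hPC hx⟩ * c⁻¹ * (c * ⟨x, hPC hx⟩ * c⁻¹) = c * (⟨x, hPC hx⟩ * ⟨x, hPC hx⟩) * c⁻¹ by group,
            show (⟨x, hPC hx⟩ : C) * ⟨x, hPC hx⟩ = 1 from Subtype.ext (hsq x hx), mul_one, mul_inv_cancel],
          map_one])
      rwa [← map_inv, ← map_mul, ← map_mul, e.symm_apply_apply] at h
    refine mem_normalizer_iff.2 fun x => ⟨h _ x, fun hx => ?_⟩
    have h' := h (e.symm cy)⁻¹ _ hx
    simpa [mul_assoc] using h'
  -- the orbit of `t`
  set O : Set G := {y | ∃ n ∈ N, n * t * n⁻¹ = y} with hO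
  have hOP : ∀ y ∈ O, y ∈ (P : Subgroup G) ∧ y ≠ 1 := by
    rintro _ ⟨n, hn, rfl⟩
    exact ⟨(mem_normalizer_iff.1 hn t).1 htP, fun h => ht1 (conj_eq_one_iff.1 h)⟩
  set s : Finset (Fin 7) := Finset.univ.filter fun i => (e.symm (el i) : G) ∈ O with hs
  have hs0 : (e.symm (el 0) : G) = t := by rw [← he0, e.symm_apply_apply]
  have hOs : O = (fun i => (e.symm (el i) : G)) '' (s : Set (Fin 7)) := by
    ext y
    simp only [hs, Finset.coe_filter, Finset.mem_univ, true_and, Set.mem_image, Set.mem_setOf_eq]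
    refine ⟨fun hy => ?_, fun ⟨i, hi, h⟩ => h ▸ hi⟩
    obtain ⟨hyP, hy1⟩ := hOP y hy
    rcases el_all (e ⟨y, hPC hyP⟩) (by
      rw [← map_mul, show (⟨y, hPC hyP⟩ : C) * ⟨y, hPC hyP⟩ = 1 from Subtype.ext (hsq y hyP), map_one]) with
      h | ⟨i, hi⟩
    · exact absurd (congrArg Subtype.val (e.map_eq_one_iff.1 h)) hy1
    · refine ⟨i, ?_, ?_⟩ <;> rw [hi, e.symm_apply_apply]
      exact hy
  have hmove : s ≠ {0} := by
    intro hs1
    have hno : ∀ n ∈ N, n * t * n⁻¹ = t := fun n hn => by
      have : n * t * n⁻¹ ∈ O := ⟨n, hn, rfl⟩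
      rw [hOs, hs1] at this
      obtain ⟨i, hi, h⟩ := this
      rw [Finset.coe_singleton, Set.mem_singleton_iff] at hi
      rw [← h, hi]
      exact hs0
    have hfoc : (P : Subgroup G) = ⁅(P : Subgroup G), N⁆ := by
      rw [← Cfsg.Lib.Fusion.focal_eq_commutator_normalizer, ← commutator_inf_eq_focalSubgroup,
        hperf, top_inf_eq]
    let Q : Sylow 2 N := P.subtype (le_normalizer)
    haveI : IsMulCommutative (Q : Subgroup N) := ⟨⟨fun a b => Subtype.ext (Subtype.ext (by
      have h := hcomm ((a : N) : G) a.2 ((b : N) : G) b.2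
      push_cast at h ⊢
      exact h))⟩⟩
    have hz : (⟨t, le_normalizer htP⟩ : N) ∈ (Q : Subgroup N) ⊓ commutator N ⊓ center N := by
      refine ⟨⟨htP, ?_⟩, mem_center_iff.2 fun n => Subtype.ext ?_⟩
      · have h1 : ⁅(P : Subgroup G), N⁆ ≤ (commutator N).map N.subtype := by
          rw [_root_.commutator_def, map_commutator, ← MonoidHom.range_eq_map, N.range_subtype]
          exact commutator_mono le_normalizer le_rfl
        obtain ⟨y, hy, hye⟩ := h1 (hfoc ▸ htP)
        rwa [show y = ⟨t, le_normalizer htP⟩ from Subtype.ext hye] at hy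
      · show (n : G) * t = t * n
        calc (n : G) * t = (n * t * (n : G)⁻¹) * n := by group
          _ = t * n := by rw [hno n n.2]
    rw [Cfsg.Lib.Fusion.inf_commutator_inf_center_eq_bot_sylow Q, mem_bot] at hz
    exact ht1 (congrArg Subtype.val hz)
  have hnxt : ∀ i ∈ s, nxt i ∈ s := by
    intro i hi
    simp only [hs, Finset.mem_filter, Finset.mem_univ, true_and] at hi ⊢
    obtain ⟨n, hn, hne⟩ := hi
    refine ⟨(e.symm cy : G) * n, mul_mem hcyN hn, ?_⟩
    rw [← el_nxt, map_mul, map_mul, map_inv, Subgroup.coe_mul, Subgroup.coe_mul, Subgroup.coe_inv, ← hne]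
    group
  have hodd : Odd s.card := by
    let N' : Subgroup (ConjAct G) := N.comap ConjAct.ofConjAct.toMonoidHom
    have horb : MulAction.orbit N' t = O := by
      ext y
      simp only [MulAction.mem_orbit_iff]
      constructor
      · rintro ⟨⟨c, hc⟩, rfl⟩
        exact ⟨ConjAct.ofConjAct c, hc, rfl⟩
      · rintro ⟨n, hn, rfl⟩
        exact ⟨⟨ConjAct.toConjAct n, hn⟩, rfl⟩
    have hcardO : Nat.card (MulAction.orbit N' t) = s.card := by
      rw [horb, hOs, Nat.card_coe_set_eq, Set.ncard_image_of_injective _ (fun i j h =>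
        el_inj i j (e.symm.injective (Subtype.ext h))), Set.ncard_coe_finset]
    have h1 := MulAction.card_orbit_mul_card_stabilizer_eq_card_group N' t
    simp only [← Nat.card_eq_fintype_card] at h1
    have hN' : Nat.card N' = Nat.card N :=
      Nat.card_congr ⟨fun a => ⟨ConjAct.ofConjAct a.1, a.2⟩, fun a => ⟨ConjAct.toConjAct a.1, a.2⟩,
        fun a => rfl, fun a => rfl⟩
    have h2 : 8 ∣ Nat.card (MulAction.stabilizer N' t) := by
      rw [← hP8]
      refine Subgroup.card_dvd_of_injective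
        { toFun := fun a : (P : Subgroup G) => (⟨⟨ConjAct.toConjAct (a : G), le_normalizer a.2⟩, by
            show (a : G) * t * (a : G)⁻¹ = t
            rw [hcomm a a.2 t htP]; group⟩ : MulAction.stabilizer N' t)
          map_one' := rfl
          map_mul' := fun a b => rfl } fun a b h => ?_
      exact Subtype.ext (congrArg (fun z : MulAction.stabilizer N' t => ConjAct.ofConjAct z.1.1) h)
    rw [hcardO, hN'] at h1
    rw [← Nat.not_even_iff_odd]
    intro hev
    have h16 : 16 ∣ Nat.card G := by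
      refine dvd_trans ?_ (card_subgroup_dvd_card N)
      rw [← h1, show 16 = 2 * 8 from rfl]
      exact Nat.mul_dvd_mul hev.two_dvd h2
    have := P.pow_dvd_card_of_pow_dvd_card (n := 4) (show 2 ^ 4 ∣ Nat.card G from h16)
    rw [hP8] at this
    norm_num at this
  have hall := orbit_key s (by
    simp only [hs, Finset.mem_filter, Finset.mem_univ, true_and, hs0]
    exact ⟨1, one_mem _, by group⟩) hnxt hodd hmove
  -- all centralizers of involutions are solvable
  have hconj : ∀ x : G, orderOf x = 2 → ∃ g : G, g * t * g⁻¹ = x := by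
    intro x hx
    obtain ⟨Q, hQ⟩ := (IsPGroup.of_card (n := 1) (by rw [Nat.card_zpowers, hx, pow_one]) :
      IsPGroup 2 (zpowers x)).exists_le_sylow
    obtain ⟨g, hg⟩ := MulAction.exists_smul_eq G Q P
    have h1 := smul_mem_pointwise_smul x (MulAut.conj g) (Q : Subgroup G) (hQ (mem_zpowers x))
    have hy : g * x * g⁻¹ ∈ (P : Subgroup G) := by rw [← hg]; exact h1
    rcases el_all (e ⟨g * x * g⁻¹, hPC hy⟩) (by
      rw [← map_mul, show (⟨_, hPC hy⟩ : C) * ⟨_, hPC hy⟩ = 1 from Subtype.ext (hsq _ hy), map_one]) with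
      h | ⟨i, hi⟩
    · have h' : g * x * g⁻¹ = 1 := congrArg Subtype.val (e.map_eq_one_iff.1 h)
      rw [conj_eq_one_iff.1 h', orderOf_one] at hx
      omega
    · have hiO := hall i
      simp only [hs, Finset.mem_filter, Finset.mem_univ, true_and, hi, e.symm_apply_apply] at hiO
      obtain ⟨n, -, hn⟩ := hiO
      refine ⟨g⁻¹ * n, ?_⟩
      rw [show g⁻¹ * n * t * (g⁻¹ * n)⁻¹ = g⁻¹ * (n * t * n⁻¹) * g by group, hn]
      group
  have hH : Cfsg.Lib.AbTwo.Hyp G := by
    refine ⟨fun S => ⟨⟨hab S⟩⟩, fun x hx => ?_⟩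
    obtain ⟨g, rfl⟩ := hconj x hx
    haveI := isSolvable_M4
    have hmap : centralizer ({g * t * g⁻¹} : Set G) = C.map (MulAut.conj g).toMonoidHom := by
      ext y
      rw [mem_map_equiv, mem_centralizer_singleton_iff, hC, mem_centralizer_singleton_iff]
      simp only [MulAut.conj_symm_apply]
      constructor
      · intro h
        calc g⁻¹ * y * g * t = g⁻¹ * (y * (g * t * g⁻¹)) * g := by group
          _ = t * (g⁻¹ * y * g) := by rw [h]; group
      · intro h
        calc y * (g * t * g⁻¹) = g * (g⁻¹ * y * g * t) * g⁻¹ := by group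
          _ = g * t * g⁻¹ * y := by rw [h]; group
    let e' : centralizer ({g * t * g⁻¹} : Set G) ≃* M4 :=
      (MulEquiv.subgroupCongr hmap).trans
        ((C.equivMapOfInjective _ (MulAut.conj g).injective).symm.trans e)
    exact Group.isSolvable_of_isSolvable_injective (f := e'.toMonoidHom) e'.injective
  obtain ⟨F, _, _, hgood, ⟨ψ⟩⟩ := Cfsg.Lib.AbTwo.goodPSL_of_simple hna hH
  rcases hgood with ⟨h8, -⟩ | ⟨n, hn, hcard⟩
  · obtain ⟨R⟩ : Nonempty (Sylow 2 (Matrix.ProjectiveSpecialLinearGroup (Fin 2) F)) := inferInstance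
    have h4 := (Cfsg.Agent.S0276.result rfl h8 R).card_four
    have h2 : 2 ^ 3 ∣ Nat.card (Matrix.ProjectiveSpecialLinearGroup (Fin 2) F) := by
      have h := card_subgroup_dvd_card C
      rw [Nat.card_congr e.toEquiv, Nat.card_eq_fintype_card, card_M4, Nat.card_congr ψ.toEquiv] at h
      exact dvd_trans (by norm_num) h
    have := R.pow_dvd_card_of_pow_dvd_card h2
    rw [h4] at this
    norm_num at this
  · haveI : CharP F 2 := by
      obtain ⟨p, hp⟩ := CharP.exists F
      haveI := hp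
      obtain ⟨m, hp', hm⟩ := FiniteField.card F p
      have h2 : 2 ∣ p ^ (m : ℕ) := by rw [← hm, hcard]; exact dvd_pow_self 2 (by omega)
      exact (Nat.prime_dvd_prime_iff_eq Nat.prime_two hp').1 (Nat.prime_two.dvd_of_dvd_pow h2) ▸ hp
    have hq4 : 4 ≤ Fintype.card F := by
      rw [hcard]; exact (Nat.pow_le_pow_right (by norm_num) hn : 2 ^ 2 ≤ 2 ^ n)
    have hev : Fintype.card F % 2 = 0 := Cfsg.Lib.SelfNormNA.even_card_char_two
    have hcG : Nat.card G = Fintype.card F * (Fintype.card F ^ 2 - 1) := by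
      rw [Nat.card_congr ψ.toEquiv, Cfsg.Lib.SelfNormNA.card_psl_char_two]
    set x := ψ t
    have hxC : Nat.card (centralizer ({x} : Set (Matrix.ProjectiveSpecialLinearGroup (Fin 2) F))) = 24 := by
      rw [← hcardC]
      exact (Nat.card_congr (ψ.toEquiv.subtypeEquiv fun g => by
        show g ∈ centralizer ({t} : Set G) ↔ ψ g ∈ centralizer ({ψ t} : Set _)
        rw [mem_centralizer_singleton_iff, mem_centralizer_singleton_iff, ← map_mul, ← map_mul,
          ψ.injective.eq_iff])).symm
    have hclass : (centralizer ({x} : Set (Matrix.ProjectiveSpecialLinearGroup (Fin 2) F))).index * 24 =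
        Fintype.card F * (Fintype.card F ^ 2 - 1) := by
      rw [← hcG, ← hxC, mul_comm, card_mul_index, Nat.card_congr ψ.toEquiv]
    have hmemr := Cfsg.Agent.S2507.result (F := F) (Nat.dvd_of_mod_eq_zero hev) hq4 ▸
      Set.mem_range_self (f := fun g : Matrix.ProjectiveSpecialLinearGroup (Fin 2) F =>
        (centralizer ({g} : Set (Matrix.ProjectiveSpecialLinearGroup (Fin 2) F))).index) x
    simp only [Set.mem_insert_iff, Set.mem_singleton_iff] at hmemr
    obtain ⟨c, hc⟩ : ∃ c, Fintype.card F = c + 4 := ⟨Fintype.card F - 4, by omega⟩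
    have hq1 : Fintype.card F ^ 2 - 1 = (c + 3) * (c + 5) := by
      rw [hc, show (c + 4) ^ 2 = (c + 3) * (c + 5) + 1 by ring, Nat.add_sub_cancel]
    rw [hq1] at hclass hmemr
    rw [hc, show c + 4 - 1 = c + 3 by omega] at hmemr
    rw [hc] at hclass hev hcard
    rcases hmemr with h | h | h | h <;> rw [h] at hclass
    · nlinarith
    · have : c + 5 = 24 := mul_left_cancel₀ (show (c + 4) * (c + 3) ≠ 0 by positivity) (by linarith)
      omega
    · have : c + 4 = 24 := mul_right_cancel₀ (show (c + 3) * (c + 5) ≠ 0 by positivity) (by linarith)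
      have h3 : 3 ∣ 2 ^ n := by rw [← hcard, this]; norm_num
      exact absurd (Nat.prime_three.dvd_of_dvd_pow h3) (by norm_num)
    · have : c + 3 = 24 := mul_left_cancel₀ (show (c + 4) * (c + 5) ≠ 0 by positivity) (by linarith)
      omega

end Cfsg.Lib.Walter8.Three
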