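import Cfsg.Agent.Lib.Walter8.Shape
import Cfsg.Agent.Lib.Char.Galois
import Mathlib.Data.Nat.ChineseRemainder
import Mathlib.FieldTheory.Finite.Basic

/-!
# Power maps exchanging the last two columns

For `k` prime to the group order and not a square modulo `p` the map `g ↦ g ^ k` fixes the first
column and exchanges the other two, so it permutes the rows.
-/

set_option autoImplicit false
set_option linter.unusedSectionVars false
set_option linter.style.haveILetI false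

namespace Cfsg.Lib.Walter8

open Subgroup Cfsg Cfsg.Lib.Char
open scoped ComplexConjugate

universe u

namespace LModel

variable {L : Type u} [Group L] (D : LModel L)
include D

theorem p_facts : D.p ≠ 2 ∧ ¬ D.p ∣ D.T ∧ D.p ∣ D.q ∧ D.q % 2 = 1 := by
  obtain ⟨a, ha, hq⟩ := D.q_eq
  have hq8 := D.sign.imp And.right And.right
  have hp2 : D.p ≠ 2 := by
    intro e
    rw [e] at hq
    have : 2 ∣ D.q := hq ▸ dvd_pow_self 2 (by rcases ha with ⟨b, rfl⟩; omega)
    omega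
  have hpq : D.p ∣ D.q := hq ▸ dvd_pow_self _ (by rcases ha with ⟨b, rfl⟩; omega)
  refine ⟨hp2, fun h => ?_, hpq, by omega⟩
  have h1 : (D.p : ℤ) ∣ D.q + D.σ := by
    rw [← D.hT]
    exact Dvd.dvd.mul_left (Int.natCast_dvd_natCast.2 h) 4
  have h2 : (D.p : ℤ) ∣ 1 := by
    have h3 := h1.sub (Int.natCast_dvd_natCast.2 hpq)
    rw [add_sub_cancel_left] at h3
    have := h3.mul_right D.σ
    rwa [D.σ_sq] at this
  exact D.p_prime.one_lt.ne' (Nat.dvd_one.1 (Int.natCast_dvd_natCast.1 (by exact_mod_cast h2)))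

variable [Finite L]

theorem p_dvd_card : D.p ∣ Nat.card L := by
  obtain ⟨hp2, -, hpq, -⟩ := D.p_facts
  have h : D.p ∣ 2 * Nat.card L := by rw [D.card_L]; exact hpq.mul_right _
  exact (D.p_prime.coprime_iff_not_dvd.2 fun h' =>
    hp2 ((Nat.prime_dvd_prime_iff_eq D.p_prime Nat.prime_two).1 h')).dvd_of_dvd_mul_left h

variable {k : ℕ} (hk : k.Coprime (Nat.card L)) (hns : ¬ IsSquare (k : ZMod D.p))
include hk hns

theorem galois' (l : L) : (D.eta' : L → ℂ) (l ^ k) = (D.eta : L → ℂ) l := by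
  haveI := Fact.mk D.p_prime
  have hpc := D.p_dvd_card
  have h1 : 1 < Nat.card L := lt_of_lt_of_le D.p_prime.one_lt (Nat.le_of_dvd Nat.card_pos hpc)
  obtain ⟨m, hm⟩ := Nat.exists_mul_mod_eq_one_of_coprime hk h1
  have hmod : k * m ≡ 1 [MOD Nat.card L] := by rw [Nat.ModEq, hm.2, Nat.mod_eq_of_lt h1]
  have hmL : m.Coprime (Nat.card L) := by
    refine Nat.coprime_of_mul_modEq_one k ?_
    rwa [mul_comm]
  have hmns : ¬ IsSquare (m : ZMod D.p) := fun hs => hns (by
    have e : (k : ZMod D.p) * m = 1 := by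
      have := (ZMod.natCast_eq_natCast_iff _ _ _).2 (hmod.of_dvd hpc)
      simpa using this
    obtain ⟨r, hr⟩ := hs
    refine ⟨r⁻¹, ?_⟩
    have hr0 : r ≠ 0 := by rintro rfl; rw [hr] at e; simp at e
    rw [hr] at e
    field_simp
    linear_combination e)
  rw [← D.galois m hmL hmns, ← pow_mul]
  congr 1
  conv_rhs => rw [← pow_one l]
  rw [pow_eq_pow_iff_modEq.2 (hmod.of_dvd (orderOf_dvd_natCard l))]

theorem st_pow (l : L) : (D.st : L → ℂ) (l ^ k) = (D.st : L → ℂ) l := by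
  have ho : orderOf (l ^ k) = orderOf l :=
    (Nat.Coprime.coprime_dvd_left (orderOf_dvd_natCard l) hk.symm).orderOf_pow
  by_cases h : 2 ∣ orderOf l
  · rw [(D.val_even h).1, (D.val_even (by rw [ho]; exact h)).1]
  · have h1 := D.rel_odd l h
    have h2 := D.rel_odd (l ^ k) (by rw [ho]; exact h)
    rw [D.galois k hk hns, D.galois' hk hns] at h2
    have hs := D.σC_sq
    linear_combination (D.σ : ℂ) * h2 - (D.σ : ℂ) * h1 -
      ((D.st : L → ℂ) (l ^ k) - (D.st : L → ℂ) l) * hs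

theorem Phi_pow (j : Fin 3) (l : L) :
    D.Phi j (l ^ k) = D.Phi (Equiv.swap 1 2 j) l := by
  fin_cases j <;>
    simp [Phi, Equiv.swap_apply_def, D.st_pow hk hns, D.galois k hk hns, D.galois' hk hns]

end LModel

namespace Setup

variable {G L : Type u} [Group G] [Group L] [Fintype G] {S : Setup G L}

/-- The twist of an irreducible character by a power map. -/
def pw {k : ℕ} (hk : k.Coprime (Nat.card G)) (χ : IrrCharacter G) : IrrCharacter G :=
  ⟨fun g => (χ : G → ℂ) (g ^ k), isIrrCharacter_comp_pow hk χ.2⟩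

theorem pw_apply {k : ℕ} (hk : k.Coprime (Nat.card G)) (χ : IrrCharacter G) (g : G) :
    (pw hk χ : G → ℂ) g = (χ : G → ℂ) (g ^ k) := rfl

theorem pw_injective {k : ℕ} (hk : k.Coprime (Nat.card G)) :
    Function.Injective (pw (G := G) hk) := fun χ χ' h => Subtype.ext (funext fun g => by
  obtain ⟨y, rfl⟩ := (powCoprime hk.symm).surjective g
  exact congrFun (congrArg Subtype.val h) y)

theorem pw_one {k : ℕ} (hk : k.Coprime (Nat.card G)) (χ : IrrCharacter G) :
    (pw hk χ : G → ℂ) 1 = (χ : G → ℂ) 1 := by rw [pw_apply, one_pow]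

theorem pw_t {k : ℕ} (hk : k.Coprime (Nat.card G)) (χ : IrrCharacter G) :
    (pw hk χ : G → ℂ) S.t = (χ : G → ℂ) S.t := by
  rw [pw_apply]
  have ho : orderOf S.t = 2 := orderOf_eq_prime (by rw [sq, S.t_sq]) S.t_ne
  refine congrArg _ ?_
  conv_rhs => rw [← pow_one S.t]
  rw [pow_eq_pow_iff_modEq, ho]
  have hc := Nat.Coprime.coprime_dvd_left (ho ▸ orderOf_dvd_natCard S.t) hk.symm
  rcases Nat.mod_two_eq_zero_or_one k with h | h
  · exact absurd (Nat.eq_one_of_dvd_coprimes hc dvd_rfl (Nat.dvd_of_mod_eq_zero h)) (by norm_num)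
  · exact h

variable {k : ℕ} (hk : k.Coprime (Nat.card G)) (hns : ¬ IsSquare (k : ZMod S.D.p))
include hk hns

theorem coprime_L : k.Coprime (Nat.card L) := by
  haveI := S.finite_L
  refine hk.coprime_dvd_right ?_
  rw [← Nat.card_congr (MonoidHom.ofInjective S.inj).symm.toEquiv]
  exact card_subgroup_dvd_card _

theorem W_pow (j : Fin 3) (g : G) : S.W j (g ^ k) = S.W (Equiv.swap 1 2 j) g := by
  classical
  haveI := S.finite_L
  simp only [W, indFun]
  congr 1
  refine Finset.sum_congr rfl fun x _ => ?_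
  have e : x⁻¹ * g ^ k * x = (x⁻¹ * g * x) ^ k := by
    rw [show x⁻¹ * g * x = x⁻¹ * g * (x⁻¹)⁻¹ by group, conj_pow]; group
  rw [e]
  set w := x⁻¹ * g * x
  by_cases hw : w ∈ S.C
  · rw [extendByZero_of_mem _ _ (pow_mem hw k), extendByZero_of_mem _ _ hw,
      show (⟨w ^ k, pow_mem hw k⟩ : S.C) = ⟨w, hw⟩ ^ k from rfl, Wloc, Wloc, map_pow, map_pow,
      S.D.Phi_pow (coprime_L hk hns) hns, Units.val_pow_eq_pow_val]
    congr 2
    have hodd : Odd k := by
      rw [Nat.odd_iff]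
      rcases Nat.mod_two_eq_zero_or_one k with h | h
      · have h2 : 2 ∣ Nat.card G :=
          (orderOf_eq_prime (show S.t ^ 2 = 1 by rw [sq, S.t_sq]) S.t_ne) ▸ orderOf_dvd_natCard S.t
        exact absurd (Nat.eq_one_of_dvd_coprimes hk (Nat.dvd_of_mod_eq_zero h) h2) (by norm_num)
      · exact h
    rcases S.sgnC_cases ⟨w, hw⟩ with h | h <;> rw [h]
    · exact one_pow k
    · exact hodd.neg_one_pow
  · have hw' : w ^ k ∉ S.C := fun h => hw (by
      have hc : (orderOf w).Coprime k :=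
        Nat.Coprime.coprime_dvd_left (orderOf_dvd_natCard w) hk.symm
      obtain ⟨m, hm⟩ := exists_pow_eq_self_of_coprime hc.symm
      rw [← hm]
      exact pow_mem h m)
    rw [extendByZero_of_notMem _ _ hw', extendByZero_of_notMem _ _ hw]

theorem d_pw (j : Fin 3) (χ : IrrCharacter G) :
    S.d (Equiv.swap 1 2 j) (pw hk χ) = S.d j χ := by
  refine Int.cast_injective (α := ℂ) ?_
  rw [← S.d_spec, ← S.d_spec, classInner, classInner]
  congr 1
  refine Fintype.sum_equiv (powCoprime hk.symm) _ _ fun g => ?_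
  rw [powCoprime_apply, S.W_pow hk hns, pw_apply]

variable {n : ℕ} [NeZero n] {pat : Fin 3 → Fin n → ℤ} (Tb : Table S pat)

/-- The rows are permuted, the last two columns exchanged. -/
theorem Table.exists_pw_row (hp : ∀ j i, pat j i = 0 ∨ pat j i = 1) (i : Fin n) :
    ∃ i', Tb.e i' = pw hk (Tb.e i) ∧ Tb.X i' = Tb.X i ∧
      ∀ j, pat (Equiv.swap 1 2 j) i' = pat j i := by
  obtain ⟨j, hj⟩ := Tb.d_ne i
  have hd : S.d (Equiv.swap 1 2 j) (pw hk (Tb.e i)) ≠ 0 := by
    rw [d_pw hk hns, Tb.d_eq]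
    exact mul_ne_zero (by rcases Tb.sign i with e | e <;> rw [e] <;> norm_num) hj
  obtain ⟨i', hi'⟩ : ∃ i', Tb.e i' = pw hk (Tb.e i) := by
    by_contra hc
    push Not at hc
    exact hd (Tb.d_zero _ _ hc)
  have heq : ∀ j, Tb.ε i' * pat (Equiv.swap 1 2 j) i' = Tb.ε i * pat j i := fun j => by
    rw [← Tb.d_eq, ← Tb.d_eq, hi', d_pw hk hns]
  have hε : Tb.ε i' = Tb.ε i := by
    have := heq j
    rcases hp (Equiv.swap 1 2 j) i' with a | a <;> rcases hp j i with b | b <;>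
      rw [a, b] at this <;> rcases Tb.sign i with e | e <;> rcases Tb.sign i' with e' | e' <;>
      rw [e, e'] at this ⊢ <;> omega
  refine ⟨i', hi', ?_, fun j => ?_⟩
  · rw [Table.X, Table.X, hε]
    congr 1
    have h1 : ((charDegree (Tb.e i' : G → ℂ) : ℕ) : ℂ) = charDegree (Tb.e i : G → ℂ) := by
      rw [← (Tb.e i').2.apply_one_eq_charDegree, ← (Tb.e i).2.apply_one_eq_charDegree, hi', pw_one]
    exact_mod_cast h1
  · have h := heq j
    rw [hε] at h
    exact mul_left_cancel₀ (by rcases Tb.sign i with e | e <;> rw [e] <;> norm_num) h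

/-- The constituents outside the rows stay there. -/
theorem Table.pw_not_row {χ : IrrCharacter G} (h : ∀ i, Tb.e i ≠ χ) (i : Fin n) :
    Tb.e i ≠ pw hk χ := fun e => by
  obtain ⟨j, hj⟩ := Tb.d_ne i
  have h0 := Tb.d_zero (Equiv.swap 1 2 j) χ h
  rw [← d_pw hk hns, Equiv.swap_apply_self, ← e, Tb.d_eq, mul_eq_zero] at h0
  rcases h0 with h0 | h0
  · rcases Tb.sign i with e' | e' <;> rw [e'] at h0 <;> norm_num at h0
  · exact hj h0

end Setup

/-- A residue prime to `n`, not a square modulo `p`, congruent to one modulo `T`, with a given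
residue modulo five. -/
theorem exists_twist {p n T r : ℕ} (hp : p.Prime) (hp2 : p ≠ 2) (hn : n ≠ 0) (hT : T ≠ 0)
    (hpT : ¬ p ∣ T) (h5T : ¬ 5 ∣ T) (hp5 : p ≠ 5) (hr : r.Coprime 5) :
    ∃ k : ℕ, k.Coprime n ∧ ¬ IsSquare (k : ZMod p) ∧ k % T = 1 % T ∧ k % 5 = r % 5 ∧
      k % 6 = (if p = 3 then 5 else 1) := by
  haveI := Fact.mk hp
  obtain ⟨z, hz⟩ := FiniteField.exists_nonsquare (F := ZMod p)
    (by rw [ZMod.ringChar_zmod_n]; exact hp2)
  set m := ordCompl[5] (ordCompl[p] (n * T * 6)) with hm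
  have hn6 : n * T * 6 ≠ 0 := by positivity
  have hm5 : Nat.Coprime m 5 :=
    (Nat.coprime_ordCompl Nat.prime_five (Nat.ordCompl_pos p hn6).ne').symm
  have hmp : Nat.Coprime m p :=
    (Nat.coprime_ordCompl hp hn6).symm.coprime_dvd_left (Nat.ordCompl_dvd _ _)
  have h5p : Nat.Coprime 5 p := (Nat.coprime_primes Nat.prime_five hp).2 hp5.symm
  obtain ⟨a, ha1, ha2⟩ := Nat.chineseRemainder h5p r z.val
  have hcop : Nat.Coprime (5 * p) m := (hm5.symm.mul_left hmp.symm)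
  obtain ⟨k, hk1, hk2⟩ := Nat.chineseRemainder hcop a 1
  have hk5 : k ≡ r [MOD 5] := (hk1.of_dvd (dvd_mul_right _ _)).trans ha1
  have hkp : k ≡ z.val [MOD p] := (hk1.of_dvd (dvd_mul_left _ _)).trans ha2
  have hns : ¬ IsSquare (k : ZMod p) := by
    rw [(ZMod.natCast_eq_natCast_iff _ _ _).2 hkp, ZMod.natCast_zmod_val]
    exact hz
  have hpk : ¬ p ∣ k := fun h => hns (by rw [(ZMod.natCast_eq_zero_iff k p).2 h]; exact ⟨0, by simp⟩)
  have hdvd : ∀ d, d ∣ n * T * 6 → ¬ p ∣ d → ¬ 5 ∣ d → d ∣ m := fun d hd h1 h5 =>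
    Nat.dvd_ordCompl_of_dvd_not_dvd (Nat.dvd_ordCompl_of_dvd_not_dvd hd h1) h5
  refine ⟨k, ?_, hns, ?_, hk5, ?_⟩
  · rw [Nat.coprime_iff_gcd_eq_one]
    by_contra hc
    obtain ⟨l, hl, hld⟩ := Nat.exists_prime_and_dvd hc
    have hlk := hld.trans (Nat.gcd_dvd_left _ _)
    have hln := hld.trans (Nat.gcd_dvd_right _ _)
    by_cases hlp : l = p
    · exact hpk (hlp ▸ hlk)
    by_cases hl5 : l = 5
    · subst hl5
      have : 5 ∣ r := (hk5.dvd_iff dvd_rfl).1 hlk
      exact absurd (Nat.eq_one_of_dvd_coprimes hr this dvd_rfl) (by norm_num)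
    have hlm : l ∣ m := hdvd l (Dvd.dvd.mul_right (hln.mul_right T) 6)
      (fun h => hlp ((Nat.prime_dvd_prime_iff_eq hp hl).1 h).symm)
      (fun h => hl5 ((Nat.prime_dvd_prime_iff_eq Nat.prime_five hl).1 h).symm)
    have h1 : l ∣ 1 := ((hk2.of_dvd hlm).dvd_iff dvd_rfl).1 hlk
    exact hl.one_lt.ne' (Nat.dvd_one.1 h1)
  · exact hk2.of_dvd (hdvd T ((dvd_mul_left T n).mul_right 6) hpT h5T)
  · have h2 : k % 2 = 1 := hk2.of_dvd (hdvd 2 (Dvd.dvd.mul_left (by norm_num) _)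
      (fun h => hp2 ((Nat.prime_dvd_prime_iff_eq hp Nat.prime_two).1 h)) (by norm_num))
    split_ifs with h3
    · subst h3
      have hk3 : k % 3 ≠ 1 := fun h => hns (by
        rw [(ZMod.natCast_eq_natCast_iff k 1 3).2 h]; exact ⟨1, by simp⟩)
      omega
    · have : k % 3 = 1 := hk2.of_dvd (hdvd 3 (Dvd.dvd.mul_left (by norm_num) _)
        (fun h => h3 ((Nat.prime_dvd_prime_iff_eq hp Nat.prime_three).1 h)) (by norm_num))
      omega

/-- The residue when `p` is five. -/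
theorem exists_twist_five {n T : ℕ} (hn : n ≠ 0) (hT : T ≠ 0) (h5T : ¬ 5 ∣ T) :
    ∃ k : ℕ, k.Coprime n ∧ ¬ IsSquare (k : ZMod 5) ∧ k % T = 1 % T ∧ k % 5 = 2 ∧ k % 6 = 1 := by
  set m := ordCompl[5] (n * T * 6) with hm
  have hn6 : n * T * 6 ≠ 0 := by positivity
  have hm5 : Nat.Coprime 5 m := Nat.coprime_ordCompl Nat.prime_five hn6
  obtain ⟨k, hk1, hk2⟩ := Nat.chineseRemainder hm5 2 1
  have hns : ¬ IsSquare (k : ZMod 5) := by
    rw [(ZMod.natCast_eq_natCast_iff _ _ _).2 hk1]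
    decide
  have hdvd : ∀ d, d ∣ n * T * 6 → ¬ 5 ∣ d → d ∣ m := fun d hd h5 =>
    Nat.dvd_ordCompl_of_dvd_not_dvd hd h5
  refine ⟨k, ?_, hns, hk2.of_dvd (hdvd T ((dvd_mul_left T n).mul_right 6) h5T), hk1, ?_⟩
  · rw [Nat.coprime_iff_gcd_eq_one]
    by_contra hc
    obtain ⟨l, hl, hld⟩ := Nat.exists_prime_and_dvd hc
    have hlk := hld.trans (Nat.gcd_dvd_left _ _)
    have hln := hld.trans (Nat.gcd_dvd_right _ _)
    by_cases hl5 : l = 5
    · subst hl5
      have h5 : k % 5 = 2 % 5 := hk1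
      omega
    have hlm : l ∣ m := hdvd l (Dvd.dvd.mul_right (hln.mul_right T) 6)
      (fun h => hl5 ((Nat.prime_dvd_prime_iff_eq Nat.prime_five hl).1 h).symm)
    have h1 : l ∣ 1 := ((hk2.of_dvd hlm).dvd_iff dvd_rfl).1 hlk
    exact hl.one_lt.ne' (Nat.dvd_one.1 h1)
  · exact hk2.of_dvd (hdvd 6 (dvd_mul_left 6 _) (by norm_num))

end Cfsg.Lib.Walter8
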