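import Mathlib.Tactic.Ring
import Mathlib.Tactic.Linarith
import Mathlib.Tactic.Positivity

/-!
# The integer endgame for the principal character values

With `|Q| ≥ 11` and `A ≡ 3 (mod 8)` the two sides differ by a quintic in the distance of `A` from `3` or `-5`
whose sign is constant.
-/

set_option autoImplicit false

namespace Cfsg.Lib.Walter8

/-- A quintic whose low coefficients are positive and whose top part is a positive quadratic is positive. -/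
theorem quintic_pos {a c0 c1 c2 c3 c4 c5 : ℤ} (ha : 0 ≤ a) (h0 : 0 < c0) (h1 : 0 ≤ c1) (h2 : 0 ≤ c2) (h5 : 0 < c5)
    (hd : c4 ^ 2 ≤ 4 * c3 * c5) : 0 < c0 + c1 * a + c2 * a ^ 2 + a ^ 3 * (c3 + c4 * a + c5 * a ^ 2) := by
  have h3 : 0 ≤ c3 + c4 * a + c5 * a ^ 2 := by
    refine nonneg_of_mul_nonneg_right ?_ (show 0 < 4 * c5 by linarith)
    nlinarith [sq_nonneg (2 * c5 * a + c4)]
  have := mul_nonneg h1 ha
  have := mul_nonneg h2 (pow_nonneg ha 2)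
  have := mul_nonneg (pow_nonneg ha 3) h3
  linarith

/-- The difference of the two sides. -/
def endS (Q A : ℤ) : ℤ :=
  ((Q ^ 2 - 1) * (A + 1) * (A - Q ^ 2) - (Q ^ 2 - 7 * Q + 1) * (A - Q) ^ 2) *
      ((Q ^ 2 - 1) * (Q - 1) ^ 2 * A * (A + 1) - Q * (A - 1) * (A - Q) ^ 2) -
    4 * Q * (A - Q) ^ 2 * ((Q ^ 2 - 1) * (Q - 1) ^ 2 * A * (A + 1))

theorem endS_pos_pos {e a : ℤ} (he : 0 ≤ e) (ha : 0 ≤ a) : 0 < -endS (11 + e) (3 + a) := by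
  obtain ⟨c0, h0⟩ : ∃ c : ℤ, c = 8892579840 + 6776619008 * e + 2258586624 * e ^ 2 + 430044672 * e ^ 3 + 51167522
    * e ^ 4 + 3895956 * e ^ 5 + 185400 * e ^ 6 + 5042 * e ^ 7 + 60 * e ^ 8 := ⟨_, rfl⟩
  obtain ⟨c1, h1⟩ : ∃ c : ℤ, c = 6961889280 + 5305980928 * e + 1768446464 * e ^ 2 + 336699016 * e ^ 3 + 40057889
    * e ^ 4 + 3049916 * e ^ 5 + 145145 * e ^ 6 + 3948 * e ^ 7 + 47 * e ^ 8 := ⟨_, rfl⟩
  obtain ⟨c2, h2⟩ : ∃ c : ℤ, c = 1777781760 + 1356048896 * e + 452115596 * e ^ 2 + 86077572 * e ^ 3 + 10238152 *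
    e ^ 4 + 779208 * e ^ 5 + 37068 * e ^ 6 + 1008 * e ^ 7 + 12 * e ^ 8 := ⟨_, rfl⟩
  obtain ⟨c3, h3⟩ : ∃ c : ℤ, c = 145835520 + 112034312 * e + 37528238 * e ^ 2 + 7164756 * e ^ 3 + 853324 * e ^ 4
    + 64968 * e ^ 5 + 3090 * e ^ 6 + 84 * e ^ 7 + 1 * e ^ 8 := ⟨_, rfl⟩
  obtain ⟨c4, h4⟩ : ∃ c : ℤ, c = -526110 - 248336 * e - 46872 * e ^ 2 - 4430 * e ^ 3 - 210 * e ^ 4 - 4 * e ^ 5
    := ⟨_, rfl⟩
  obtain ⟨c5, h5⟩ : ∃ c : ℤ, c = 825 + 152 * e + 7 * e ^ 2 := ⟨_, rfl⟩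
  have key : -endS (11 + e) (3 + a) = c0 + c1 * a + c2 * a ^ 2 + a ^ 3 * (c3 + c4 * a + c5 * a ^ 2) := by
    simp only [endS, h0, h1, h2, h3, h4, h5]; ring
  have hD : 4 * c3 * c5 - c4 ^ 2 = 204465483900 + 197077119840 * e + 85053016920 * e ^ 2 + 21656479656 * e ^ 3 +
    3604723968 * e ^ 4 + 410032640 * e ^ 5 + 32292788 * e ^ 6 + 1739448 * e ^ 7 + 61352 * e ^ 8 + 1280 * e ^ 9 +
    12 * e ^ 10 := by
    simp only [h3, h4, h5]; ring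
  rw [key]
  refine quintic_pos ha (by rw [h0]; positivity) (by rw [h1]; positivity) (by rw [h2]; positivity)
    (by rw [h5]; positivity) (sub_nonneg.1 (hD ▸ ?_))
  positivity

theorem endS_pos_neg {e a : ℤ} (he : 0 ≤ e) (ha : 0 ≤ a) : 0 < endS (11 + e) (-5 - a) := by
  obtain ⟨c0, h0⟩ : ∃ c : ℤ, c = 9874268160 + 7267831808 * e + 2360261888 * e ^ 2 + 441083200 * e ^ 3 + 51815910
    * e ^ 4 + 3914060 * e ^ 5 + 185488 * e ^ 6 + 5038 * e ^ 7 + 60 * e ^ 8 := ⟨_, rfl⟩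
  obtain ⟨c1, h1⟩ : ∃ c : ℤ, c = 7612170240 + 5631491584 * e + 1836155840 * e ^ 2 + 344163656 * e ^ 3 + 40515745
    * e ^ 4 + 3064636 * e ^ 5 + 145337 * e ^ 6 + 3948 * e ^ 7 + 47 * e ^ 8 := ⟨_, rfl⟩
  obtain ⟨c2, h2⟩ : ∃ c : ℤ, c = 1928520960 + 1428913856 * e + 466596804 * e ^ 2 + 87577692 * e ^ 3 + 10322264 *
    e ^ 4 + 781560 * e ^ 5 + 37092 * e ^ 6 + 1008 * e ^ 7 + 12 * e ^ 8 := ⟨_, rfl⟩
  obtain ⟨c3, h3⟩ : ∃ c : ℤ, c = 163199040 + 120078344 * e + 39032622 * e ^ 2 + 7306516 * e ^ 3 + 860044 * e ^ 4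
    + 65096 * e ^ 5 + 3090 * e ^ 6 + 84 * e ^ 7 + 1 * e ^ 8 := ⟨_, rfl⟩
  obtain ⟨c4, h4⟩ : ∃ c : ℤ, c = 559110 + 254416 * e + 47152 * e ^ 2 + 4430 * e ^ 3 + 210 * e ^ 4 + 4 * e ^ 5 :=
    ⟨_, rfl⟩
  obtain ⟨c5, h5⟩ : ∃ c : ℤ, c = 825 + 152 * e + 7 * e ^ 2 := ⟨_, rfl⟩
  have key : endS (11 + e) (-5 - a) = c0 + c1 * a + c2 * a ^ 2 + a ^ 3 * (c3 + c4 * a + c5 * a ^ 2) := by
    simp only [endS, h0, h1, h2, h3, h4, h5]; ring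
  have hD : 4 * c3 * c5 - c4 ^ 2 = 225952839900 + 210990492000 * e + 88931048376 * e ^ 2 + 22259369544 * e ^ 3 +
    3661157280 * e ^ 4 + 413211680 * e ^ 5 + 32392532 * e ^ 6 + 1740792 * e ^ 7 + 61352 * e ^ 8 + 1280 * e ^ 9 +
    12 * e ^ 10 := by
    simp only [h3, h4, h5]; ring
  rw [key]
  refine quintic_pos ha (by rw [h0]; positivity) (by rw [h1]; positivity) (by rw [h2]; positivity)
    (by rw [h5]; positivity) (sub_nonneg.1 (hD ▸ ?_))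
  positivity

theorem endS_neg_pos {e a : ℤ} (he : 0 ≤ e) (ha : 0 ≤ a) : 0 < -endS (-13 - e) (3 + a) := by
  obtain ⟨c0, h0⟩ : ∃ c : ℤ, c = 66406785024 + 39294939136 * e + 10176870144 * e ^ 2 + 1506628800 * e ^ 3 +
    139446722 * e ^ 4 + 8262252 * e ^ 5 + 306024 * e ^ 6 + 6478 * e ^ 7 + 60 * e ^ 8 := ⟨_, rfl⟩
  obtain ⟨c1, h1⟩ : ∃ c : ℤ, c = 52420190208 + 30961699328 * e + 8006492480 * e ^ 2 + 1183850456 * e ^ 3 +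
    109463489 * e ^ 4 + 6480724 * e ^ 5 + 239897 * e ^ 6 + 5076 * e ^ 7 + 47 * e ^ 8 := ⟨_, rfl⟩
  obtain ⟨c2, h2⟩ : ∃ c : ℤ, c = 13493321472 + 7949677888 * e + 2051736428 * e ^ 2 + 302933628 * e ^ 3 +
    27981832 * e ^ 4 + 1655544 * e ^ 5 + 61260 * e ^ 6 + 1296 * e ^ 7 + 12 * e ^ 8 := ⟨_, rfl⟩
  obtain ⟨c3, h3⟩ : ∃ c : ℤ, c = 1144267968 + 670181272 * e + 172209422 * e ^ 2 + 25347372 * e ^ 3 + 2336524 * e
    ^ 4 + 138072 * e ^ 5 + 5106 * e ^ 6 + 108 * e ^ 7 + 1 * e ^ 8 := ⟨_, rfl⟩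
  obtain ⟨c4, h4⟩ : ∃ c : ℤ, c = 1853538 + 676880 * e + 99288 * e ^ 2 + 7310 * e ^ 3 + 270 * e ^ 4 + 4 * e ^ 5
    := ⟨_, rfl⟩
  obtain ⟨c5, h5⟩ : ∃ c : ℤ, c = 1209 + 184 * e + 7 * e ^ 2 := ⟨_, rfl⟩
  have key : -endS (-13 - e) (3 + a) = c0 + c1 * a + c2 * a ^ 2 + a ^ 3 * (c3 + c4 * a + c5 * a ^ 2) := by
    simp only [endS, h0, h1, h2, h3, h4, h5]; ring
  have hD : 4 * c3 * c5 - c4 ^ 2 = 2098076775804 + 1573932252960 * e + 531862987800 * e ^ 2 + 106580252760 * e ^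
    3 + 14021956608 * e ^ 4 + 1265190208 * e ^ 5 + 79269620 * e ^ 6 + 3404616 * e ^ 7 + 95912 * e ^ 8 + 1600 * e
    ^ 9 + 12 * e ^ 10 := by
    simp only [h3, h4, h5]; ring
  rw [key]
  refine quintic_pos ha (by rw [h0]; positivity) (by rw [h1]; positivity) (by rw [h2]; positivity)
    (by rw [h5]; positivity) (sub_nonneg.1 (hD ▸ ?_))
  positivity

theorem endS_neg_neg {e a : ℤ} (he : 0 ≤ e) (ha : 0 ≤ a) : 0 < endS (-13 - e) (-5 - a) := by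
  obtain ⟨c0, h0⟩ : ∃ c : ℤ, c = 67694886912 + 39985610752 * e + 10328708096 * e ^ 2 + 1524335360 * e ^ 3 +
    140618310 * e ^ 4 + 8305204 * e ^ 5 + 306784 * e ^ 6 + 6482 * e ^ 7 + 60 * e ^ 8 := ⟨_, rfl⟩
  obtain ⟨c1, h1⟩ : ∃ c : ℤ, c = 52455211008 + 31059175424 * e + 8039720192 * e ^ 2 + 1188636952 * e ^ 3 +
    109813825 * e ^ 4 + 6493652 * e ^ 5 + 240089 * e ^ 6 + 5076 * e ^ 7 + 47 * e ^ 8 := ⟨_, rfl⟩
  obtain ⟨c2, h2⟩ : ∃ c : ℤ, c = 13263541248 + 7875692800 * e + 2043198948 * e ^ 2 + 302596260 * e ^ 3 +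
    27991064 * e ^ 4 + 1656648 * e ^ 5 + 61284 * e ^ 6 + 1296 * e ^ 7 + 12 * e ^ 8 := ⟨_, rfl⟩
  obtain ⟨c3, h3⟩ : ∃ c : ℤ, c = 1085728512 + 648638872 * e + 169036686 * e ^ 2 + 25113452 * e ^ 3 + 2327884 * e
    ^ 4 + 137944 * e ^ 5 + 5106 * e ^ 6 + 108 * e ^ 7 + 1 * e ^ 8 := ⟨_, rfl⟩
  obtain ⟨c4, h4⟩ : ∃ c : ℤ, c = -1805178 - 669520 * e - 99008 * e ^ 2 - 7310 * e ^ 3 - 270 * e ^ 4 - 4 * e ^ 5
    := ⟨_, rfl⟩
  obtain ⟨c5, h5⟩ : ∃ c : ℤ, c = 1209 + 184 * e + 7 * e ^ 2 := ⟨_, rfl⟩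
  have key : endS (-13 - e) (-5 - a) = c0 + c1 * a + c2 * a ^ 2 + a ^ 3 * (c3 + c4 * a + c5 * a ^ 2) := by
    simp only [endS, h0, h1, h2, h3, h4, h5]; ring
  have hD : 4 * c3 * c5 - c4 ^ 2 = 1991915472348 + 1518708220704 * e + 519548864376 * e ^ 2 + 105054168504 * e ^
    3 + 13908412320 * e ^ 4 + 1260117280 * e ^ 5 + 79143572 * e ^ 6 + 3403272 * e ^ 7 + 95912 * e ^ 8 + 1600 * e
    ^ 9 + 12 * e ^ 10 := by
    simp only [h3, h4, h5]; ring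
  rw [key]
  refine quintic_pos ha (by rw [h0]; positivity) (by rw [h1]; positivity) (by rw [h2]; positivity)
    (by rw [h5]; positivity) (sub_nonneg.1 (hD ▸ ?_))
  positivity

/-- There is no solution with `Q ≡ A ≡ 3 (mod 8)` and `|Q| ≥ 11`. -/
theorem false_of_s {Q A : ℤ} (hQ : Q % 8 = 3) (hQ11 : 11 ≤ |Q|) (hA : A % 8 = 3)
    (h : ((Q ^ 2 - 1) * (A + 1) * (A - Q ^ 2) - (Q ^ 2 - 7 * Q + 1) * (A - Q) ^ 2) *
      ((Q ^ 2 - 1) * (Q - 1) ^ 2 * A * (A + 1) - Q * (A - 1) * (A - Q) ^ 2) =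
        4 * Q * (A - Q) ^ 2 * ((Q ^ 2 - 1) * (Q - 1) ^ 2 * A * (A + 1))) : False := by
  have h0 : endS Q A = 0 := sub_eq_zero.2 h
  obtain ⟨e, he, rfl | rfl⟩ : ∃ e, 0 ≤ e ∧ (Q = 11 + e ∨ Q = -13 - e) := by
    rcases le_abs.1 hQ11 with hq | hq
    · exact ⟨Q - 11, by omega, Or.inl (by omega)⟩
    · exact ⟨-13 - Q, by omega, Or.inr (by omega)⟩
  all_goals
    obtain ⟨a, ha, rfl | rfl⟩ : ∃ a, 0 ≤ a ∧ (A = 3 + a ∨ A = -5 - a) := by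
      rcases le_or_gt 3 A with hq | hq
      · exact ⟨A - 3, by omega, Or.inl (by omega)⟩
      · exact ⟨-5 - A, by omega, Or.inr (by omega)⟩
  · linarith [endS_pos_pos he ha]
  · linarith [endS_pos_neg he ha]
  · linarith [endS_neg_pos he ha]
  · linarith [endS_neg_neg he ha]

end Cfsg.Lib.Walter8
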