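import Mathlib.Analysis.Complex.Basic
import Mathlib.Tactic.LinearCombination
import Mathlib.Tactic.FieldSimp
import Mathlib.Tactic.Ring
import Mathlib.Tactic.IntervalCases

/-!
# The arithmetic of the pair equations when the rotation moves the torus
-/

set_option autoImplicit false
set_option linter.unusedSectionVars false

namespace Cfsg.Lib.Walter8

/-- The pattern `{x, A}`: the order formula and the shape of `Q`. -/
theorem end_xA {Q h N x u u' v v' A B : ℤ} (hQ : Q = 2 * h + 1) (hQ8 : Q % 8 = 3) (hN : N ≠ 0)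
    (hx : x ≠ 0) (hu : u ≠ 0) (hu' : u' ≠ 0) (hA : A ≠ 0)
    (hB : B ≠ 0) (hXP : A - x ≠ 0)
    (d0 : 1 + x + A + B = 0) (d1 : u + u' + A + B = 0)
    (e0 : (N : ℂ) * (1 + 1 / (x : ℂ) + (Q : ℂ) ^ 2 / A + (Q : ℂ) ^ 2 / B) =
      (Q : ℂ) * ((Q : ℂ) - 1) ^ 2 * ((Q : ℂ) + 1))
    (e1 : (N : ℂ) * ((h : ℂ) ^ 2 / u + (h : ℂ) ^ 2 / u' + (Q : ℂ) ^ 2 / A + (Q : ℂ) ^ 2 / B) =
      (Q : ℂ) * ((Q : ℂ) - 1) * (3 * (Q : ℂ) - 1))
    (e2 : (N : ℂ) * ((h : ℂ) ^ 2 / v + (h : ℂ) ^ 2 / v' + (Q : ℂ) ^ 2 / A + (Q : ℂ) ^ 2 / B) =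
      (Q : ℂ) * ((Q : ℂ) - 1) * (3 * (Q : ℂ) - 1))
    (eP : -(1 / (x : ℂ)) + (Q : ℂ) ^ 2 / A - ((Q : ℂ) - 1) ^ 2 / ((A - x : ℤ) : ℂ) = 0)
    (eM : (N : ℂ) * (1 - (h : ℂ) ^ 2 / u - (h : ℂ) ^ 2 / u' - (h : ℂ) ^ 2 / v - (h : ℂ) ^ 2 / v' -
        (Q : ℂ) ^ 2 / B - 9 * ((Q : ℂ) - 1) ^ 2 / ((A - x : ℤ) : ℂ)) =
      (Q : ℂ) * ((Q : ℂ) - 1) * ((Q : ℂ) + 1) ^ 2) :
    N = Q ^ 2 * (Q ^ 2 - Q + 1) ∧ 3 * (u - u') ^ 2 = Q * (Q ^ 2 - 1) ^ 2 ∧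
      x = -(Q ^ 2 - Q + 1) ∧ A = Q * x := by
  have hQ0 : Q ≠ 0 := by omega
  have hQm : Q - 1 ≠ 0 := by omega
  have hQp : Q + 1 ≠ 0 := by omega
  have cx : (x : ℂ) ≠ 0 := Int.cast_ne_zero.2 hx
  have cu : (u : ℂ) ≠ 0 := Int.cast_ne_zero.2 hu
  have cu' : (u' : ℂ) ≠ 0 := Int.cast_ne_zero.2 hu'
  have cA : (A : ℂ) ≠ 0 := Int.cast_ne_zero.2 hA
  have cB : (B : ℂ) ≠ 0 := Int.cast_ne_zero.2 hB
  have cP : ((A - x : ℤ) : ℂ) ≠ 0 := Int.cast_ne_zero.2 hXP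
  have cQ : (Q : ℂ) ≠ 0 := Int.cast_ne_zero.2 hQ0
  -- the exceptional equation
  have hAx : A = Q * x := by
    have h' : ((A - Q * x) * (A - Q * x) : ℤ) = 0 := by
      refine Int.cast_injective (α := ℂ) ?_
      push_cast at cP eP ⊢
      field_simp at eP
      linear_combination -eP
    linarith [mul_self_eq_zero.1 h']
  subst hAx
  obtain rfl : B = -(1 + (1 + Q) * x) := by linarith
  set D := 1 + (1 + Q) * x with hD
  have cD : (D : ℂ) ≠ 0 := fun e => cB (by rw [Int.cast_neg, e, neg_zero])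
  have i0 : N * (x + 1) ^ 2 = Q * (Q - 1) ^ 2 * x * D := by
    have h' : N * ((x + 1 + Q) * D - Q ^ 2 * x) = Q * (Q - 1) ^ 2 * (Q + 1) * (x * D) := by
      refine Int.cast_injective (α := ℂ) ?_
      push_cast at e0 ⊢
      field_simp at e0
      linear_combination e0
    refine mul_left_cancel₀ hQp ?_
    rw [hD] at h' ⊢
    linear_combination h'
  have i3 : N * ((x - 7 * Q + 9) * D - Q ^ 2 * x) =
      Q * (Q - 1) * (Q ^ 2 + 8 * Q - 1) * x * D := by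
    refine Int.cast_injective (α := ℂ) ?_
    have e : (N : ℂ) * (1 + 2 * ((Q : ℂ) ^ 2 / ((Q * x : ℤ) : ℂ)) +
        (Q : ℂ) ^ 2 / ((-(D) : ℤ) : ℂ) - 9 * ((Q : ℂ) - 1) ^ 2 / (((Q * x) - x : ℤ) : ℂ)) =
        (Q : ℂ) * ((Q : ℂ) - 1) * ((Q : ℂ) + 1) ^ 2 +
          2 * ((Q : ℂ) * ((Q : ℂ) - 1) * (3 * (Q : ℂ) - 1)) := by
      linear_combination eM + e1 + e2
    have cm : (Q : ℂ) - 1 ≠ 0 := by exact_mod_cast hQm
    push_cast at e ⊢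
    rw [show (Q : ℂ) * x - x = (x : ℂ) * (Q - 1) by ring] at e
    field_simp at e
    linear_combination e
  have hpoly : (Q * x + 1) * (x + Q ^ 2 - Q + 1) = 0 := by
    have h' : N * (Q * (Q - 1) * (Q + 1) * (-8 * ((Q * x + 1) * (x + Q ^ 2 - Q + 1)))) = 0 := by
      rw [hD] at i0 i3
      linear_combination (Q * (Q - 1) ^ 2 * (Q + 1)) * i3 -
        (Q + 1) * Q * (Q - 1) * (Q ^ 2 + 8 * Q - 1) * i0
    simpa [hN, hQ0, hQm, hQp] using h'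
  have hx' : x = -(Q ^ 2 - Q + 1) := by
    rcases mul_eq_zero.1 hpoly with h1 | h1
    · exfalso
      have h2 : Q ∣ 1 := ⟨-x, by linarith⟩
      rcases Int.isUnit_iff.1 (isUnit_of_dvd_one h2) with e | e <;> omega
    · linarith
  have hN' : N = Q ^ 2 * (Q ^ 2 - Q + 1) := by
    have h' : N * (Q ^ 2 * (Q - 1) ^ 2) = Q ^ 2 * (Q ^ 2 - Q + 1) * (Q ^ 2 * (Q - 1) ^ 2) := by
      rw [hD, hx'] at i0
      linear_combination i0
    exact mul_right_cancel₀ (mul_ne_zero (pow_ne_zero _ hQ0) (pow_ne_zero _ hQm)) h'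
  refine ⟨hN', ?_, hx', rfl⟩
  have hsum : u + u' = 1 + x := by linarith
  -- the product of the two rows of the second column
  have hprod : Q * x * h ^ 2 = 3 * (u * u') := by
    have hB' : -D = Q ^ 3 := by rw [hD, hx']; ring
    rw [hB'] at e1 cB
    have hS : (h : ℂ) ^ 2 / u + (h : ℂ) ^ 2 / u' =
        (h : ℂ) ^ 2 * ((1 + x : ℤ) : ℂ) / ((u : ℂ) * u') := by
      rw [← hsum]; push_cast; field_simp; ring
    rw [hS] at e1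
    have h' : Q ^ 4 * x * (Q - 1) * (Q * (Q * x * h ^ 2 - 3 * (u * u'))) = 0 := by
      refine Int.cast_injective (α := ℂ) ?_
      have hxc : (x : ℂ) = -((Q : ℂ) ^ 2 - Q + 1) := by exact_mod_cast hx'
      rw [hN'] at e1
      push_cast at e1 cA cB ⊢
      field_simp at e1
      rw [hxc] at e1 ⊢
      linear_combination ((Q : ℂ) ^ 4) * e1
    simp only [mul_eq_zero, pow_eq_zero_iff (show (4 : ℕ) ≠ 0 by norm_num), hQ0, hx, hQm,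
      false_or] at h'
    linarith
  have h4 : 4 * h ^ 2 = (Q - 1) ^ 2 := by rw [hQ]; ring
  have hs2 : u + u' = -(Q * (Q - 1)) := by rw [hsum, hx']; ring
  calc 3 * (u - u') ^ 2 = 3 * (u + u') ^ 2 - 4 * (3 * (u * u')) := by ring
    _ = 3 * (-(Q * (Q - 1))) ^ 2 - Q * x * (4 * h ^ 2) := by rw [← hprod, hs2]; ring
    _ = Q * (Q ^ 2 - 1) ^ 2 := by rw [h4, hx']; ring

/-- The pattern `{u, v}`: the order and the remaining equation. -/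
theorem core_uv {Q h N x u u' v v' A B : ℤ} (hQ : Q = 2 * h + 1) (hh : h ≠ 0)
    (hx : x ≠ 0) (hu : u ≠ 0) (hu' : u' ≠ 0) (hv : v ≠ 0)
    (hXP : u + v ≠ 0)
    (d0 : 1 + x + A + B = 0) (d1 : u + u' + A + B = 0) (d2 : v + v' + A + B = 0)
    (e0 : (N : ℂ) * (1 + 1 / (x : ℂ) + (Q : ℂ) ^ 2 / A + (Q : ℂ) ^ 2 / B) =
      (Q : ℂ) * ((Q : ℂ) - 1) ^ 2 * ((Q : ℂ) + 1))
    (e1 : (N : ℂ) * ((h : ℂ) ^ 2 / u + (h : ℂ) ^ 2 / u' + (Q : ℂ) ^ 2 / A + (Q : ℂ) ^ 2 / B) =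
      (Q : ℂ) * ((Q : ℂ) - 1) * (3 * (Q : ℂ) - 1))
    (eP : (h : ℂ) ^ 2 / u + (h : ℂ) ^ 2 / v - 4 * (h : ℂ) ^ 2 / ((u + v : ℤ) : ℂ) = 0)
    (eM : (N : ℂ) * (1 + 1 / (x : ℂ) - (h : ℂ) ^ 2 / u' - (h : ℂ) ^ 2 / v' - (Q : ℂ) ^ 2 / A -
        (Q : ℂ) ^ 2 / B - 36 * (h : ℂ) ^ 2 / ((u + v : ℤ) : ℂ)) =
      (Q : ℂ) * ((Q : ℂ) - 1) * ((Q : ℂ) + 1) ^ 2) :
    u = v ∧ u' = v' ∧ x = u + u' - 1 ∧ ∃ c, N = Q ^ 2 * c ∧ u = -(h * c) ∧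
      c * h ^ 2 * x = (c - h * (4 * h - 5)) * u' * x + c * u' := by
  have ch : (h : ℂ) ≠ 0 := Int.cast_ne_zero.2 hh
  have cx : (x : ℂ) ≠ 0 := Int.cast_ne_zero.2 hx
  have cu : (u : ℂ) ≠ 0 := Int.cast_ne_zero.2 hu
  have cv : (v : ℂ) ≠ 0 := Int.cast_ne_zero.2 hv
  have cu' : (u' : ℂ) ≠ 0 := Int.cast_ne_zero.2 hu'
  have cP : ((u + v : ℤ) : ℂ) ≠ 0 := Int.cast_ne_zero.2 hXP
  have huv : u = v := by
    have h' : ((u - v) * (u - v) : ℤ) = 0 := by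
      refine Int.cast_injective (α := ℂ) ?_
      push_cast at cP eP ⊢
      field_simp at eP
      refine mul_left_cancel₀ (pow_ne_zero 2 ch) ?_
      linear_combination eP
    linarith [mul_self_eq_zero.1 h']
  subst huv
  obtain rfl : u' = v' := by linarith
  refine ⟨rfl, rfl, by linarith, ?_⟩
  have hQc : (Q : ℂ) = 2 * h + 1 := by exact_mod_cast hQ
  have i1 : h * N = -(Q ^ 2 * u) := by
    refine Int.cast_injective (α := ℂ) ?_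
    have e : (N : ℂ) * (2 * ((h : ℂ) ^ 2 / u) - 36 * (h : ℂ) ^ 2 / ((u + u : ℤ) : ℂ)) =
        8 * (Q : ℂ) ^ 2 * ((Q : ℂ) - 1) := by linear_combination eM + 2 * e1 - e0
    push_cast at e cP ⊢
    field_simp at e
    refine mul_left_cancel₀ (mul_ne_zero ch cu) ?_
    rw [hQc] at e ⊢
    linear_combination (-(u : ℂ) / 32) * e
  obtain ⟨c, hc⟩ : h ∣ u := by
    have h1 : h ∣ Q ^ 2 * u := ⟨-N, by linarith⟩
    have h2 : IsCoprime h (Q ^ 2) := IsCoprime.pow_right ⟨-2, 1, by rw [hQ]; ring⟩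
    exact h2.dvd_of_dvd_mul_left h1
  refine ⟨-c, ?_, by rw [hc]; ring, ?_⟩
  · refine mul_left_cancel₀ hh ?_
    rw [i1, hc]; ring
  · have hN' : N = Q ^ 2 * -c := mul_left_cancel₀ hh (by rw [i1, hc]; ring)
    refine Int.cast_injective (α := ℂ) ?_
    have e : (N : ℂ) * ((h : ℂ) ^ 2 / u + (h : ℂ) ^ 2 / u' - 1 - 1 / (x : ℂ)) =
        (Q : ℂ) ^ 2 * ((Q : ℂ) - 1) * (3 - (Q : ℂ)) := by linear_combination e1 - e0
    have cQ : (2 * (h : ℂ) + 1) ≠ 0 := by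
      have hQ0 : Q ≠ 0 := by omega
      rw [hQ] at hQ0
      exact_mod_cast hQ0
    rw [hN', hc] at e
    rw [hc] at cu
    have cc : (c : ℂ) ≠ 0 := fun e' => cu (by rw [Int.cast_mul, e', mul_zero])
    push_cast at e cu ⊢
    rw [hQc] at e
    field_simp at e
    refine mul_left_cancel₀ (pow_ne_zero 2 cQ) ?_
    linear_combination ((2 * (h : ℂ) + 1) ^ 2) * e

/-- The pattern `{s₁, s₂}`: the equation with one unknown. -/
theorem core_s {Q h N s s' A p p' r : ℤ} (hQ : Q = 2 * h + 1) (hQ8 : Q % 8 = 3) (hh : h ≠ 0)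
    (hs : s ≠ 0) (hs' : s' ≠ 0) (hA : A ≠ 0) (hp : p ≠ 0) (hr : r ≠ 0)
    (hXP : s + s' ≠ 0)
    (d0 : 1 + A + p + p' = 0) (d1 : s + A + p + r = 0) (d2 : s' + A + p' + r = 0)
    (e0 : (N : ℂ) * (1 + (Q : ℂ) ^ 2 / A + (1 + (h : ℂ)) ^ 2 / p + (1 + (h : ℂ)) ^ 2 / p') =
      (Q : ℂ) * ((Q : ℂ) - 1) ^ 2 * ((Q : ℂ) + 1))
    (e1 : (N : ℂ) * ((h : ℂ) ^ 2 / s + (Q : ℂ) ^ 2 / A + (1 + (h : ℂ)) ^ 2 / p +
        4 * (h : ℂ) ^ 2 / r) = (Q : ℂ) * ((Q : ℂ) - 1) * (3 * (Q : ℂ) - 1))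
    (eP : (h : ℂ) ^ 2 / s + (h : ℂ) ^ 2 / s' - 4 * (h : ℂ) ^ 2 / ((s + s' : ℤ) : ℂ) = 0)
    (eM : (N : ℂ) * (1 - (Q : ℂ) ^ 2 / A - 8 * (h : ℂ) ^ 2 / r -
        36 * (h : ℂ) ^ 2 / ((s + s' : ℤ) : ℂ)) = (Q : ℂ) * ((Q : ℂ) - 1) * ((Q : ℂ) + 1) ^ 2) :
    ((Q ^ 2 - 1) * (A + 1) * (A - Q ^ 2) - (Q ^ 2 - 7 * Q + 1) * (A - Q) ^ 2) *
        ((Q ^ 2 - 1) * (Q - 1) ^ 2 * A * (A + 1) - Q * (A - 1) * (A - Q) ^ 2) =
      4 * Q * (A - Q) ^ 2 * ((Q ^ 2 - 1) * (Q - 1) ^ 2 * A * (A + 1)) := by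
  have ch : (h : ℂ) ≠ 0 := Int.cast_ne_zero.2 hh
  have cs : (s : ℂ) ≠ 0 := Int.cast_ne_zero.2 hs
  have cs' : (s' : ℂ) ≠ 0 := Int.cast_ne_zero.2 hs'
  have cA : (A : ℂ) ≠ 0 := Int.cast_ne_zero.2 hA
  have cp : (p : ℂ) ≠ 0 := Int.cast_ne_zero.2 hp
  have cr : (r : ℂ) ≠ 0 := Int.cast_ne_zero.2 hr
  have cP : ((s + s' : ℤ) : ℂ) ≠ 0 := Int.cast_ne_zero.2 hXP
  have hQc : (Q : ℂ) = 2 * h + 1 := by exact_mod_cast hQ
  have hss : s = s' := by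
    have h' : ((s - s') * (s - s') : ℤ) = 0 := by
      refine Int.cast_injective (α := ℂ) ?_
      push_cast at cP eP ⊢
      field_simp at eP
      exact mul_left_cancel₀ (pow_ne_zero 2 ch) (by linear_combination eP)
    linarith [mul_self_eq_zero.1 h']
  subst hss
  obtain rfl : p = p' := by linarith
  have hA1 : A + 1 ≠ 0 := fun e => hp (by omega)
  have cA1 : (A : ℂ) + 1 ≠ 0 := by exact_mod_cast hA1
  have hpc : (p : ℂ) = -((A : ℂ) + 1) / 2 := by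
    have : ((2 * p : ℤ) : ℂ) = ((-(A + 1) : ℤ) : ℂ) := by rw [show 2 * p = -(A + 1) by linarith]
    push_cast at this
    linear_combination (1 / 2 : ℂ) * this
  have i0 : N * (A - Q) ^ 2 = Q * (Q - 1) ^ 2 * (Q + 1) * (A * (A + 1)) := by
    refine Int.cast_injective (α := ℂ) ?_
    rw [hpc] at e0
    push_cast
    rw [hQc] at e0 ⊢
    field_simp at e0
    linear_combination e0
  have i1 : h * N = -(Q ^ 2 * s) := by
    refine Int.cast_injective (α := ℂ) ?_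
    have e : (N : ℂ) * (2 * ((h : ℂ) ^ 2 / s) - 36 * (h : ℂ) ^ 2 / ((s + s : ℤ) : ℂ)) =
        8 * (Q : ℂ) ^ 2 * ((Q : ℂ) - 1) := by linear_combination eM + 2 * e1 - e0
    push_cast at e cP ⊢
    field_simp at e
    refine mul_left_cancel₀ (mul_ne_zero ch cs) ?_
    rw [hQc] at e ⊢
    linear_combination (-(s : ℂ) / 32) * e
  have i2 : r * (N * (A - Q ^ 2) + (18 * h * Q ^ 2 - Q * (Q - 1) * (Q + 1) ^ 2) * A) =
      2 * (Q - 1) ^ 2 * N * A := by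
    refine Int.cast_injective (α := ℂ) ?_
    have hN : (h : ℂ) * N = -((Q : ℂ) ^ 2 * s) := by exact_mod_cast i1
    have h36 : (N : ℂ) * (36 * (h : ℂ) ^ 2 / ((s + s : ℤ) : ℂ)) =
        -(18 * (h : ℂ) * (Q : ℂ) ^ 2) := by
      push_cast
      field_simp
      linear_combination (36 : ℂ) * hN
    rw [mul_sub, h36] at eM
    push_cast
    rw [hQc] at eM ⊢
    field_simp at eM
    linear_combination eM
  have i3 : 2 * Q ^ 2 * r = (Q - 1) * N - Q ^ 2 * (A - 1) := by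
    have e : 2 * r = -2 * s - (A - 1) := by linarith
    calc 2 * Q ^ 2 * r = Q ^ 2 * (2 * r) := by ring
      _ = 2 * (h * N) - Q ^ 2 * (A - 1) := by rw [e, i1]; ring
      _ = (Q - 1) * N - Q ^ 2 * (A - 1) := by rw [hQ]; ring
  have hQ0 : Q ≠ 0 := by omega
  have hQm : Q - 1 ≠ 0 := by omega
  have e4 : 4 * h = 2 * (Q - 1) := by omega
  have i4 : (Q ^ 2 - 1) * (Q - 1) ^ 2 * A * (A + 1) - Q * (A - 1) * (A - Q) ^ 2 =
      2 * Q * r * (A - Q) ^ 2 := by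
    refine mul_left_cancel₀ hQ0 ?_
    linear_combination (-(A - Q) ^ 2) * i3 - (Q - 1) * i0
  have i5 : r * ((Q ^ 2 - 1) * (A + 1) * (A - Q ^ 2) - (Q ^ 2 - 7 * Q + 1) * (A - Q) ^ 2) =
      2 * ((Q ^ 2 - 1) * (Q - 1) ^ 2 * A * (A + 1)) := by
    refine mul_left_cancel₀ (mul_ne_zero (mul_ne_zero hQ0 hQm) hA) ?_
    linear_combination ((A - Q) ^ 2) * i2 +
      (2 * (Q - 1) ^ 2 * A - r * (A - Q ^ 2)) * i0 -
      (r * Q ^ 2 * A * (A - Q) ^ 2 * 9) * (by linarith : 2 * h = Q - 1)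
  rw [i4]
  linear_combination (2 * Q * (A - Q) ^ 2) * i5

/-- The pattern `{p₁₂}`. -/
theorem end_r {h T X r t : ℤ} (hT : T ∣ h + 1) (hodd : T % 2 = 1) (h1 : 1 < T)
    (hX : X ≠ 0) (hr : r ≠ 0) (hG : -(r + X) ≠ 0)
    (hXT : T ∣ X - 4) (hrT : T ∣ r - 2) (htT : T ∣ t)
    (eP : 4 * (h : ℂ) ^ 2 / r + (t : ℂ) ^ 2 / X + ((2 * h + t : ℤ) : ℂ) ^ 2 / ((-(r + X) : ℤ) : ℂ) = 0) :
    False := by
  have h' : ((2 * h * X - r * t) * (2 * h * X - r * t) : ℤ) = 0 := by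
    refine Int.cast_injective (α := ℂ) ?_
    have cr : (r : ℂ) ≠ 0 := Int.cast_ne_zero.2 hr
    have cX : (X : ℂ) ≠ 0 := Int.cast_ne_zero.2 hX
    have cG : ((-(r + X) : ℤ) : ℂ) ≠ 0 := Int.cast_ne_zero.2 hG
    have cS : (r : ℂ) + X ≠ 0 := fun e => cG (by push_cast; rw [e, neg_zero])
    push_cast at eP ⊢
    field_simp at eP
    linear_combination eP
  have e := mul_self_eq_zero.1 h'
  have h8 : T ∣ 8 := by
    obtain ⟨a, ha⟩ := hT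
    obtain ⟨b, hb⟩ := hXT
    obtain ⟨c, hc⟩ := htT
    refine ⟨2 * X * a - r * c - 2 * b, ?_⟩
    linear_combination -e + 2 * X * ha - r * hc - 2 * hb
  have hle := Int.le_of_dvd (by norm_num) h8
  interval_cases T <;> omega

end Cfsg.Lib.Walter8
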