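import Cfsg.Agent.Lib.Walter8.Star
import Cfsg.Agent.Lib.Walter8.Endgames
import Cfsg.Agent.Lib.Walter8.EndS

/-!
# Seven rows, the rotation moving the torus

`ψ'` meets the rows in `{s₁, s₂}`, which gives an equation without solutions, or in the double row
of the last two columns, where the star of the outside constituents gives a contradiction.
-/

set_option autoImplicit false
set_option linter.unusedSectionVars false
set_option linter.style.haveILetI false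
set_option linter.unusedSimpArgs false

namespace Cfsg.Lib.Walter8

open Subgroup Cfsg Cfsg.Lib.Char
open scoped ComplexConjugate

universe u

theorem p7₀ (k : Fin 7) : pat7 0 k = ![1, 0, 0, 1, 1, 1, 0] k := rfl

theorem p7₁ (k : Fin 7) : pat7 1 k = ![0, 1, 0, 1, 1, 0, 1] k := rfl

theorem p7₂ (k : Fin 7) : pat7 2 k = ![0, 0, 1, 1, 0, 1, 1] k := rfl

namespace Setup

variable {G L : Type u} [Group G] [Group L] [Fintype G] [IsSimpleGroup G] {S : Setup G L}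
  (Tb : Table S pat7) (R : Rot S) (hna : ¬ IsMulCommutative G) (hR : ¬ R.Triv)
include hna hR

theorem Table.rows7 {lam : S.K →* ℂˣ} (h : IsTor S lam) :
    (∀ k, Tb.mu S.nu lam k = ![0, 1, 1, 0, 0, 0, 0] k) ∨
      ∀ k, Tb.mu S.nu lam k = ![0, 0, 0, 0, 0, 0, 1] k := by
  have c0 := Tb.mu_col R h 0
  have c1 := Tb.mu_col R h 1
  have c2 := Tb.mu_col R h 2
  have hM := (Tb.out_facts R hna hR h sum_bval7).2.2.2
  simp [Fin.sum_univ_seven, p7₀, p7₁, p7₂, Tb.mu_zero h] at c0 c1 c2 hM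
  rcases options7 (s := Tb.mu S.nu lam 1) (s' := Tb.mu S.nu lam 2) (A := Tb.mu S.nu lam 3)
      (p := Tb.mu S.nu lam 4) (p' := Tb.mu S.nu lam 5) (r := Tb.mu S.nu lam 6)
      (by linarith) (by linarith) (by linarith) (by linarith) with
    ⟨e1, e2, e3, e4, e5, e6⟩ | ⟨e1, e2, e3, e4, e5, e6⟩
  · exact Or.inl fun k => by fin_cases k <;> simp [Tb.mu_zero h, e1, e2, e3, e4, e5, e6]
  · exact Or.inr fun k => by fin_cases k <;> simp [Tb.mu_zero h, e1, e2, e3, e4, e5, e6]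

theorem Table.deg7 : 1 + Tb.X 3 + Tb.X 4 + Tb.X 5 = 0 ∧
    Tb.X 1 + Tb.X 3 + Tb.X 4 + Tb.X 6 = 0 ∧ Tb.X 2 + Tb.X 3 + Tb.X 5 + Tb.X 6 = 0 := by
  have e := Tb.degree_eq
  refine ⟨?_, ?_, ?_⟩
  · have e0 := e 0
    simp [Fin.sum_univ_seven, p7₀, p7₁, p7₂, Tb.X_zero] at e0
    linarith
  · have e0 := e 1
    simp [Fin.sum_univ_seven, p7₀, p7₁, p7₂] at e0
    linarith
  · have e0 := e 2
    simp [Fin.sum_univ_seven, p7₀, p7₁, p7₂] at e0
    linarith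

theorem Table.pair7 :
    ((S.C).index : ℂ) * (1 + (S.D.Q : ℂ) ^ 2 / Tb.X 3 + (1 + (S.D.h : ℂ)) ^ 2 / Tb.X 4 +
        (1 + (S.D.h : ℂ)) ^ 2 / Tb.X 5) =
        (S.D.Q : ℂ) * (S.D.Q - 1) ^ 2 * (S.D.Q + 1) ∧
      ((S.C).index : ℂ) * ((S.D.h : ℂ) ^ 2 / Tb.X 1 + (S.D.Q : ℂ) ^ 2 / Tb.X 3 +
        (1 + (S.D.h : ℂ)) ^ 2 / Tb.X 4 + 4 * (S.D.h : ℂ) ^ 2 / Tb.X 6) =
        (S.D.Q : ℂ) * (S.D.Q - 1) * (3 * S.D.Q - 1) := by
  have hQ : (S.D.Q : ℂ) = 1 + S.D.h * 2 := by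
    rw [mul_comm (S.D.h : ℂ), add_comm]; exact_mod_cast S.D.Q_eq
  refine ⟨?_, ?_⟩
  · have e0 := Tb.pair_eq hna 0
    simp [Fin.sum_univ_seven, p7₀, p7₁, p7₂, tval, Tb.X_zero] at e0
    rw [hQ] at e0 ⊢
    linear_combination e0
  · have e0 := Tb.pair_eq hna 1
    simp [Fin.sum_univ_seven, p7₀, p7₁, p7₂, tval] at e0
    rw [hQ] at e0 ⊢
    linear_combination e0

/-- The pattern `{s₁, s₂}`. -/
theorem Table.case_s {lam : S.K →* ℂˣ} (h : IsTor S lam)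
    (hf : ∀ k : S.K, lam k = 1 → S.InV (k : G))
    (hμ : ∀ k, Tb.mu S.nu lam k = ![0, 1, 1, 0, 0, 0, 0] k) : False := by
  classical
  obtain ⟨d0, d1, d2⟩ := Tb.deg7 R hna hR
  obtain ⟨e0, e1⟩ := Tb.pair7 R hna hR
  obtain ⟨f1, -, f3, -⟩ := Tb.out_facts R hna hR h sum_bval7
  have hM : ∑ k, Tb.mu S.nu lam k * Tb.mu S.nu lam k = 2 := by simp [hμ, Fin.sum_univ_seven]
  rw [hM] at f1 f3
  rw [R.card_stab_faithful hR h hf] at f3
  obtain ⟨p1, p2⟩ := Tb.ext_single h (a := S.nu) (by rw [f1]; norm_num)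
  obtain ⟨-, q2⟩ := Tb.ext_single h (a := 1) (by rw [f3]; norm_num)
  obtain ⟨r1, r2⟩ := R.pair_rhs hna hR h
  rw [p2] at r2
  rw [q2] at r1
  have hQ := S.D.Q_eq
  have hX : ∑ k, Tb.mu S.nu lam k * Tb.X k = Tb.X 1 + Tb.X 2 := by
    simp [hμ, Fin.sum_univ_seven]
  have ht : ∑ k, Tb.mu S.nu lam k * tval S pat7 k = 2 * S.D.h := by
    simp [hμ, Fin.sum_univ_seven, tval, p7₀, p7₁, p7₂]; ring
  have hX' : ∑ k, Tb.mu 1 lam k * Tb.X k = Tb.X 1 + Tb.X 2 := by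
    simp [Tb.mu_one R h, hμ, Fin.sum_univ_seven, bval, p7₀, p7₁, p7₂, Tb.X_zero]
    linarith
  have ht' : ∑ k, Tb.mu 1 lam k * tval S pat7 k = -(6 * S.D.h) := by
    simp [Tb.mu_one R h, hμ, Fin.sum_univ_seven, bval, tval, p7₀, p7₁, p7₂]; ring
  rw [hX, ht] at r2
  rw [hX', ht'] at r1
  rw [hX] at p1
  simp [hμ, Fin.sum_univ_seven, tval, p7₀, p7₁, p7₂] at r2
  simp [Tb.mu_one R h, hμ, Fin.sum_univ_seven, bval, tval, p7₀, p7₁, p7₂, Tb.X_zero] at r1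
  have hQc : (S.D.Q : ℂ) = 1 + S.D.h * 2 := by rw [hQ]; push_cast; ring
  have key := core_s (N := ((S.C).index : ℤ)) hQ S.D.Q_mod S.D.h_ne (Tb.X_ne 1) (Tb.X_ne 2)
    (Tb.X_ne 3) (Tb.X_ne 4) (Tb.X_ne 6) p1 d0 d1 d2
    (by rw [Int.cast_natCast]; exact e0) (by rw [Int.cast_natCast]; exact e1)
    (by push_cast; linear_combination r2)
    (by
      rw [Int.cast_natCast]
      push_cast
      rw [hQc] at r1 ⊢
      linear_combination r1)
  have hA := Tb.X_mod_eight hna 3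
  have hA3 : tval S pat7 3 = S.D.Q := by simp [tval, p7₀, p7₁, p7₂, hQ]; ring
  rw [hA3] at hA
  have h11 : 11 ≤ |S.D.Q| := by
    have h13 := R.abs_h hR
    rcases abs_cases S.D.h with ⟨e, he⟩ | ⟨e, he⟩ <;> rcases abs_cases S.D.Q with ⟨e', he'⟩ | ⟨e', he'⟩ <;>
      omega
  exact false_of_s S.D.Q_mod h11 (by have := S.D.Q_mod; omega) key

/-- All characters have the pattern `{p₁₂}` together. -/
theorem Table.all_r {lam : S.K →* ℂˣ} (h : IsTor S lam)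
    (hf : ∀ k : S.K, lam k = 1 → S.InV (k : G))
    (hμ : ∀ k, Tb.mu S.nu lam k = ![0, 0, 0, 0, 0, 0, 1] k) (i : ℕ) (hi : ¬ S.D.T ∣ i) :
    ∀ k, Tb.mu S.nu (lam ^ i) k = ![0, 0, 0, 0, 0, 0, 1] k := by
  classical
  haveI := Fintype.ofFinite S.K
  have hT : IsTor S (lam ^ i) := h.pow hf hi
  refine (Tb.rows7 R hna hR hT).resolve_left fun e => ?_
  have hin := Tb.out_inner S.nu (lam ^ i) S.nu lam
    (c := 2 + (if lam ^ i = lam then 1 else 0) + (if lam ^ i = lam⁻¹ then 1 else 0))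
    (by rw [R.inner_psi'_psi' hna hR hT h]; push_cast; rfl)
  obtain ⟨f1, -, -, -⟩ := Tb.out_facts R hna hR hT sum_bval7
  obtain ⟨g1, -, -, -⟩ := Tb.out_facts R hna hR h sum_bval7
  simp [e, hμ, Fin.sum_univ_seven] at hin f1 g1
  have h0 : 0 ≤ ∑ χ ∈ Tb.out, (S.m S.nu (lam ^ i) χ - S.m S.nu lam χ) *
      (S.m S.nu (lam ^ i) χ - S.m S.nu lam χ) := Finset.sum_nonneg fun χ _ => mul_self_nonneg _
  simp only [mul_sub, sub_mul, Finset.sum_sub_distrib,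
    mul_comm (S.m S.nu lam _) (S.m S.nu (lam ^ i) _)] at h0
  split_ifs at hin <;> omega

/-- The pattern `{p₁₂}`. -/
theorem Table.case_r {lam : S.K →* ℂˣ} (h : IsTor S lam)
    (hf : ∀ k : S.K, lam k = 1 → S.InV (k : G))
    (hμ : ∀ k, Tb.mu S.nu lam k = ![0, 0, 0, 0, 0, 0, 1] k) : False := by
  classical
  have hall := Tb.all_r R hna hR h hf hμ
  obtain ⟨F, hF, f, hf1, ⟨G', hG', hne, hg, hz⟩, hm⟩ := Tb.exists_centre R hna hR h hf hall
  have hT7 := R.seven_le hR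
  obtain ⟨t, ht⟩ := exists_int_t (S := S) F
  obtain ⟨tG, htG⟩ := exists_int_t (S := S) G'
  have hF1 := F.2.apply_one_eq_charDegree
  have hG1 := G'.2.apply_one_eq_charDegree
  have hnuF : S.m S.nu lam F = f := by
    have := (hm 1 (by omega) one_ne_zero).1
    rwa [show lam ^ 1 = lam from MonoidHom.ext fun k => by simp] at this
  have hsum : ∀ (c : ℕ → ℤ) (a : ℤ), c 0 = 0 → (∀ i < S.D.T, i ≠ 0 → c i = a) →
      ∑ i ∈ Finset.range S.D.T, c i = ((S.D.T : ℤ) - 1) * a := by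
    intro c a h0 hc
    rw [← Finset.add_sum_erase _ c (Finset.mem_range.2 (show 0 < S.D.T by omega)), h0, zero_add,
      Finset.sum_congr rfl fun i hi => hc i (by simp at hi; omega) (by simp at hi; omega)]
    rw [Finset.sum_const, nsmul_eq_mul, Finset.card_erase_of_mem (Finset.mem_range.2 (by omega))]
    simp
    rw [Nat.cast_sub (by omega)]
    simp
  have hz0 : lam ^ 0 = 1 := MonoidHom.ext fun k => by simp
  obtain ⟨c1, c2⟩ := R.congr_mod_T h hf F (a := (charDegree (F : G → ℂ) : ℤ)) (v := t)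
    (by rw [hF1]; norm_cast) ht
  rw [hsum _ f (by rw [hz0]; exact m_trivial _ _) fun i hi hi0 => (hm i hi hi0).1] at c1
  rw [hsum _ 0 (by rw [hz0, m_trivial, m_trivial, sub_zero])
    fun i hi hi0 => by rw [(hm i hi hi0).1, (hm i hi hi0).2, sub_self], mul_zero, add_zero] at c2
  obtain ⟨c3, -⟩ := R.congr_mod_T h hf (Tb.e 6) (Tb.apply_one 6) (Tb.apply_t 6)
  have ht6 : tval S pat7 6 = 2 * S.D.h := by simp [tval, p7₀, p7₁, p7₂]; ring
  rw [hsum _ (Tb.ε 6) (by rw [hz0]; exact m_trivial _ _) fun i hi hi0 => by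
      rw [Tb.m_row, hall i (fun hd => absurd (Nat.le_of_dvd (by omega) hd) (by omega)) 6]
      simp, ht6] at c3
  -- the congruences
  have hTh := T_dvd_h (S := S)
  have hX4 : (S.D.T : ℤ) ∣ f * (charDegree (F : G → ℂ) : ℤ) - 4 := by
    obtain ⟨a, ha⟩ := c1
    obtain ⟨b, hb⟩ := c2
    refine ⟨f * (a + b - 4 * f), ?_⟩
    have hff : f * f = 1 := by rcases hf1 with e | e <;> rw [e] <;> norm_num
    linear_combination f * ha + f * hb + 4 * hff
  have hr2 : (S.D.T : ℤ) ∣ Tb.X 6 - 2 := by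
    obtain ⟨a, ha⟩ := c3
    obtain ⟨b, hb⟩ := hTh
    refine ⟨Tb.ε 6 * a + 2 * b - 4, ?_⟩
    linear_combination Tb.ε 6 * ha + 2 * hb -
      (Tb.X 6 - 2 * S.D.h + 4 * ((S.D.T : ℤ) - 1)) * Tb.ε_sq 6
  -- the pair equation
  have out2 : ∀ g : IrrCharacter G → ℂ, ∑ χ ∈ Tb.out, (S.m S.nu lam χ : ℂ) * g χ =
      (f : ℂ) * g F + (S.m S.nu lam G' : ℂ) * g G' := fun g => by
    rw [sum_pair_vec g hF hG' hne.symm hz, hnuF]
  have hε : (Tb.ε 6 : ℂ) * Tb.ε 6 = 1 := by exact_mod_cast Tb.ε_sq 6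
  have hg2 : (S.m S.nu lam G' : ℂ) * S.m S.nu lam G' = 1 := by
    rcases hg with e | e <;> rw [e] <;> norm_num
  have hf2 : (f : ℂ) * f = 1 := by rcases hf1 with e | e <;> rw [e] <;> norm_num
  have e1 := sum_m_one (a := S.nu) h
  rw [Tb.sum_split, out2] at e1
  simp [Tb.apply_one, Tb.m_row, hμ, Fin.sum_univ_seven, hF1, hG1] at e1
  have e2 := sum_m_t (a := S.nu) h
  rw [Tb.sum_split, out2] at e2
  simp [Tb.apply_t, Tb.m_row, hμ, Fin.sum_univ_seven, ht, htG, ht6] at e2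
  have e3 := (R.pair_rhs hna hR h).2
  rw [Tb.sum_split, out2] at e3
  simp [Tb.apply_one, Tb.apply_t, Tb.m_row, hμ, Fin.sum_univ_seven, ht, htG, hF1, hG1, ht6] at e3
  set g := S.m S.nu lam G'
  set r := Tb.X 6
  set dF := (charDegree (F : G → ℂ) : ℤ) with hdF
  set dG := (charDegree (G' : G → ℂ) : ℤ) with hdG
  have hdF0 : dF ≠ 0 := Int.natCast_ne_zero.2 F.2.charDegree_pos.ne'
  have hdG0 : dG ≠ 0 := Int.natCast_ne_zero.2 G'.2.charDegree_pos.ne'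
  have hcF : ((charDegree (F : G → ℂ) : ℕ) : ℂ) = (dF : ℂ) := by rw [hdF]; norm_cast
  have hcG : ((charDegree (G' : G → ℂ) : ℕ) : ℂ) = (dG : ℂ) := by rw [hdG]; norm_cast
  rw [hcF, hcG] at e1 e3
  have s1 : g * dG = -(r + f * dF) := Int.cast_injective (α := ℂ) (by
    push_cast
    linear_combination e1 - (r : ℂ) * hε)
  have s2 : g * tG = -(2 * S.D.h + f * t) := Int.cast_injective (α := ℂ) (by
    push_cast
    linear_combination e2 - 2 * (S.D.h : ℂ) * hε)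
  have hgi : g = 1 ∨ g = -1 := hg
  refine end_r (h := S.D.h) (T := (S.D.T : ℤ)) (X := f * dF) (r := r) (t := f * t) hTh
    (by have := S.D.T_facts.1; omega) (by omega) ?_ (Tb.X_ne 6) ?_ hX4 hr2 (c2.mul_left f) ?_
  · rcases hf1 with e | e <;> rw [e] <;> omega
  · rw [← s1]; rcases hgi with e | e <;> rw [e] <;> omega
  · rw [← s1, show ((2 * S.D.h + f * t : ℤ) : ℂ) = -((g * tG : ℤ) : ℂ) by rw [s2]; push_cast; ring]
    push_cast
    have hg0 : (g : ℂ) ≠ 0 := fun e => by rw [e, zero_mul] at hg2; exact zero_ne_one hg2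
    have hf0 : (f : ℂ) ≠ 0 := fun e => by rw [e, zero_mul] at hf2; exact zero_ne_one hf2
    have cr : (r : ℂ) ≠ 0 := Int.cast_ne_zero.2 (Tb.X_ne 6)
    have cF : (dF : ℂ) ≠ 0 := Int.cast_ne_zero.2 hdF0
    have cG : (dG : ℂ) ≠ 0 := Int.cast_ne_zero.2 hdG0
    have hε0 : (Tb.ε 6 : ℂ) ≠ 0 := fun e => by rw [e, zero_mul] at hε; exact zero_ne_one hε
    field_simp at e3 ⊢
    linear_combination e3 - 4 * (dG : ℂ) * (S.D.h : ℂ) ^ 2 * (dF : ℂ) * hε

include Tb in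
/-- Seven rows do not occur. -/
theorem Table.moves7 : False := by
  obtain ⟨lam, h, hf⟩ := S.exists_faithful
  rcases Tb.rows7 R hna hR h with e | e
  · exact Tb.case_s R hna hR h hf e
  · exact Tb.case_r R hna hR h hf e

end Setup

end Cfsg.Lib.Walter8
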