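import Mathlib.Tactic.Ring
import Mathlib.Tactic.Linarith
import Mathlib.Tactic.Positivity
import Mathlib.Tactic.IntervalCases
import Mathlib.Algebra.Order.Ring.Abs
import Mathlib.Tactic.LinearCombination
import Mathlib.Algebra.Ring.Int.Parity
import Mathlib.Algebra.Order.Group.Int

/-!
# The integer endgame for the two unknown columns

`h = 4w + 1` and `t = 2w + 1` is half of `h + 1`. With `Y = h c`, `M = c - 4 h (h - 1)` and
`k = h (4 h - 5)` the equation reads `(S M - Y) Y = S (S + k)`; both roots lie in one class modulo `8 t`,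
and so does `M`. The two small values of `M` put a sign change between neighbours of that class, and all
others make `S M - Y` too large.
-/

set_option autoImplicit false

namespace Cfsg.Lib.Walter8

theorem eight_dvd_of_odd_mul {w j : ℤ} (h : 8 ∣ (2 * w + 1) * j) : 8 ∣ j := by
  obtain ⟨b, hb⟩ := h
  obtain ⟨d, hd⟩ := Int.even_mul_succ_self w
  exact ⟨(2 * w + 1) * b - d * j, by linear_combination (2 * w + 1) * hb - 4 * j * hd⟩

/-- A monic quadratic with both roots in a lattice has no sign change between neighbours. -/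
theorem no_sign_change {S S' x d : ℤ} (h1 : d ∣ S - x) (h2 : d ∣ S' - x) :
    0 ≤ ((x - S) * (x - S')) * ((x + d - S) * (x + d - S')) := by
  have key : ∀ s : ℤ, d ∣ s - x → 0 ≤ (x - s) * (x + d - s) := by
    rintro s ⟨n, hn⟩
    have e : (x - s) * (x + d - s) = d * d * (n * (n - 1)) := by
      rw [show s = x + d * n by linarith]; ring
    rw [e]
    refine mul_nonneg (mul_self_nonneg d) ?_
    rcases le_or_gt n 0 with hn0 | hn0
    · exact mul_nonneg_of_nonpos_of_nonpos hn0 (by omega)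
    · exact mul_nonneg hn0.le (by omega)
  have := mul_nonneg (key S h1) (key S' h2)
  linarith

/-- The polynomial in the size of `M` stays positive. -/
theorem num_contra {r r0 m m0 B C : ℤ} (hr : r0 ≤ r) (hm : m0 ≤ m) (hr0 : 0 ≤ r0) (_hm0 : 0 ≤ m0)
    (hB : B ≤ 2 * r0 * m0) (hC : B * m0 + C < r0 * m0 ^ 2) (h : r * m ^ 2 ≤ B * m + C) : False := by
  have h1 : r0 * m ^ 2 ≤ r * m ^ 2 := mul_le_mul_of_nonneg_right hr (sq_nonneg m)
  have h2 : 0 ≤ r0 * (m + m0) - B := by nlinarith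
  have h3 := mul_nonneg (sub_nonneg.2 hm) h2
  linarith

/-- The two inequalities coming from a root of absolute value at most `|Y|`. -/
theorem root_bounds {S M R Y k : ℤ} (hR : R = S * M - Y) (heq : R * Y = S * (S + k)) :
    |R| * |Y| ≤ |S| * (|S| + |k|) ∧ |S| * |M| ≤ |R| + |Y| := by
  constructor
  · rw [← abs_mul, heq, abs_mul]
    exact mul_le_mul_of_nonneg_left (abs_add_le S k) (abs_nonneg S)
  · rw [← abs_mul, show S * M = R + Y by linarith]
    exact abs_add_le R Y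

/-- The case of a large `|Y|`. -/
theorem large_Y {s m r y K : ℤ} (hs : 0 ≤ s) (_hr : 0 ≤ r) (hy : 0 < y) (hsy : s ≤ y) (hKy : K ≤ y) (hK : 0 ≤ K)
    (hm : 2 ≤ m) (h1 : r * y ≤ s * (s + K)) (h2 : s * m ≤ r + y) :
    r * (m - 2) ^ 2 ≤ y + K * (m - 2) := by
  have hr2 : r ≤ 2 * s := le_of_mul_le_mul_right (by nlinarith) hy
  have h3 : s * (m - 2) ≤ y := by linarith
  refine le_of_mul_le_mul_right ?_ hy
  have hn : 0 ≤ m - 2 := by linarith
  calc r * (m - 2) ^ 2 * y = r * y * (m - 2) ^ 2 := by ring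
    _ ≤ s * (s + K) * (m - 2) ^ 2 := mul_le_mul_of_nonneg_right h1 (sq_nonneg _)
    _ = s * (m - 2) * (s * (m - 2) + K * (m - 2)) := by ring
    _ ≤ y * (y + K * (m - 2)) :=
        mul_le_mul h3 (by linarith) (by positivity) hy.le
    _ = (y + K * (m - 2)) * y := by ring

/-- The case of a small `|Y|`: the root is tiny. -/
theorem small_Y {s m r y K : ℤ} (hy : 0 < y) (hs : 0 ≤ s) (hsy : s ≤ y) (hKy : y < K) (h1 : r * y ≤ s * (s + K))
    (h2 : s * m ≤ r + y) : s * m < 3 * K := by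
  have hr : r ≤ y + K := by
    refine le_of_mul_le_mul_right ?_ hy
    have h3 : s * (s + K) ≤ y * (y + K) := mul_le_mul hsy (by linarith) (by linarith) hy.le
    linarith
  linarith

/-- A root of absolute value at most four is impossible. -/
theorem no_tiny_root {w S b : ℤ} (hw : 13 ≤ |4 * w + 1|) (hb : S - 3 = (2 * w + 1) * b) (hS : 4 ∣ S - 1)
    (hs : |S| ≤ 4) : False := by
  obtain ⟨hs1, hs2⟩ := abs_le.1 hs
  rcases eq_or_ne b 0 with rfl | hb0
  · rw [mul_zero] at hb; omega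
  · have h7 : |2 * w + 1| ≤ |S - 3| := by
      rw [hb, abs_mul]
      exact le_mul_of_one_le_right (abs_nonneg _) (Int.one_le_abs hb0)
    rcases abs_cases (S - 3) with ⟨e, h3⟩ | ⟨e, h3⟩ <;> rw [e] at h7 <;>
      rcases abs_cases (2 * w + 1) with ⟨e', h2⟩ | ⟨e', h2⟩ <;> rw [e'] at h7 <;>
      rcases abs_cases (4 * w + 1) with ⟨e'', h4⟩ | ⟨e'', h4⟩ <;> rw [e''] at hw <;> omega

/-- There is no root of absolute value at most `|Y|` when `M` is large. -/
theorem no_small_root {w c S b : ℤ} (hw : 13 ≤ |4 * w + 1|) (hc : 0 < c) (hb : S - 3 = (2 * w + 1) * b)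
    (hS : 4 ∣ S - 1) (hM : |c - 4 * (4 * w + 1) * (4 * w)| ≥ 6 * |4 * w + 1| - 1 ∨
      (4 * w + 1 < 0 ∧ |c - 4 * (4 * w + 1) * (4 * w)| ≥ 6 * |4 * w + 1| - 11))
    (hR : 8 * |2 * w + 1| ≤ 2 * |S * (c - 4 * (4 * w + 1) * (4 * w)) - (4 * w + 1) * c + 12|)
    (heq : (S * (c - 4 * (4 * w + 1) * (4 * w)) - (4 * w + 1) * c) * ((4 * w + 1) * c) =
      S * (S + (4 * w + 1) * (4 * (4 * w + 1) - 5)))
    (hSY : |S| ≤ |(4 * w + 1) * c|) : False := by
  obtain ⟨h1, h2⟩ := root_bounds rfl heq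
  have hw' := hw
  generalize hH : 4 * w + 1 = h at hw hM hR heq hSY h1 h2
  generalize hMd : c - 4 * h * (4 * w) = M at hM hR heq h1 h2
  generalize hRd : S * M - h * c = R at hR heq h1 h2
  have hR12 : |R + 12| ≤ |R| + 12 := (abs_add_le R 12).trans_eq (by norm_num)
  have hS0 : 0 ≤ |S| := abs_nonneg S
  have hyY : |h * c| = |h| * c := by rw [abs_mul, abs_of_pos hc]
  rw [hyY] at hSY h1 h2
  have hk : |h * (4 * h - 5)| = |h| * |4 * h - 5| := abs_mul _ _
  rw [hk] at h1
  have hy : 0 < |h| * c := mul_pos (by linarith) hc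
  rcases lt_abs.1 (show 12 < |h| by linarith) with hpos | hneg
  · -- `h` positive
    rw [abs_of_pos (show 0 < h by linarith)] at hw hM hyY hSY h1 h2 hy
    rw [abs_of_pos (show 0 < 2 * w + 1 by linarith)] at hR
    rw [abs_of_pos (show 0 < 4 * h - 5 by linarith)] at h1
    have hM' : |M| ≥ 6 * h - 1 := by
      rcases hM with e | ⟨e, -⟩
      · exact e
      · linarith
    rcases le_or_gt (h * (4 * h - 5)) (h * c) with hK | hK
    · have h3 := large_Y hS0 (abs_nonneg R) hy hSY hK (by nlinarith) (by linarith) h1 h2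
      have hc' : c ≤ |M| + 4 * h * (h - 1) := by
        have := le_abs_self M
        have : 4 * h * (4 * w) = 4 * h * (h - 1) := by rw [show 4 * w = h - 1 by linarith]
        linarith
      refine num_contra (r := |R|) (r0 := 2 * h - 10) (m := |M| - 2) (m0 := 6 * h - 3)
        (B := h * (4 * h - 4)) (C := h * (2 + 4 * h * (h - 1))) (by linarith) (by linarith) (by linarith) (by linarith)
        (by nlinarith) ?_ ?_
      · obtain ⟨e, he, rfl⟩ : ∃ e, 0 ≤ e ∧ h = 13 + e := ⟨h - 13, by linarith, by ring⟩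
        nlinarith [pow_nonneg he 2, pow_nonneg he 3]
      · have := mul_le_mul_of_nonneg_left hc' (show 0 ≤ h by linarith)
        linarith
    · have h3 := small_Y hy hS0 hSY hK h1 h2
      have hc' : c < 4 * h - 5 := lt_of_mul_lt_mul_left hK (by linarith)
      have hM'' : 4 * h * (h - 1) - (4 * h - 5) ≤ |M| := by
        have := neg_le_abs M
        have : 4 * h * (4 * w) = 4 * h * (h - 1) := by rw [show 4 * w = h - 1 by linarith]
        linarith
      have hs4 : |S| ≤ 4 := by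
        by_contra hlt
        have hsq : 13 * h ≤ h * h := mul_le_mul_of_nonneg_right hw (by linarith)
        have h5 : 5 * (4 * h * (h - 1) - (4 * h - 5)) ≤ |S| * |M| :=
          mul_le_mul (by omega) hM'' (by linarith) hS0
        linarith
      exact no_tiny_root hw' hb hS hs4
  · -- `h` negative
    rw [abs_of_neg (show h < 0 by linarith)] at hw hM hyY hSY h1 h2 hy
    rw [abs_of_neg (show 2 * w + 1 < 0 by linarith)] at hR
    rw [abs_of_neg (show 4 * h - 5 < 0 by linarith)] at h1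
    have h15 : 15 ≤ -h := by omega
    have hM' : |M| ≥ -(6 * h) - 11 := by
      rcases hM with e | ⟨-, e⟩ <;> linarith
    rcases le_or_gt (-h * -(4 * h - 5)) (-h * c) with hK | hK
    · have h3 := large_Y hS0 (abs_nonneg R) hy hSY hK (by nlinarith) (by linarith) h1 h2
      have hc' : c ≤ |M| + 4 * h * (h - 1) := by
        have := le_abs_self M
        have : 4 * h * (4 * w) = 4 * h * (h - 1) := by rw [show 4 * w = h - 1 by linarith]
        linarith
      refine num_contra (r := |R|) (r0 := -(2 * h) - 14) (m := |M| - 2) (m0 := -(6 * h) - 13)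
        (B := -h * (-(4 * h) + 6)) (C := -h * (2 + 4 * h * (h - 1))) (by linarith) (by linarith) (by linarith) (by linarith)
        (by nlinarith) ?_ ?_
      · obtain ⟨e, he, rfl⟩ : ∃ e, 0 ≤ e ∧ h = -15 - e := ⟨-15 - h, by linarith, by ring⟩
        nlinarith [pow_nonneg he 2, pow_nonneg he 3]
      · have := mul_le_mul_of_nonneg_left hc' (show 0 ≤ -h by linarith)
        linarith
    · have h3 := small_Y hy hS0 hSY hK h1 h2
      have hc' : c < -(4 * h - 5) := lt_of_mul_lt_mul_left hK (by linarith)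
      have hM'' : 4 * h * (h - 1) + (4 * h - 5) ≤ |M| := by
        have := neg_le_abs M
        have : 4 * h * (4 * w) = 4 * h * (h - 1) := by rw [show 4 * w = h - 1 by linarith]
        linarith
      have hs4 : |S| ≤ 4 := by
        by_contra hlt
        have hsq : 15 * (-h) ≤ -h * -h := mul_le_mul_of_nonneg_right h15 (by linarith)
        have h5 : 5 * (4 * h * (h - 1) + (4 * h - 5)) ≤ |S| * |M| :=
          mul_le_mul (by omega) hM'' (by linarith) hS0
        linarith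
      exact no_tiny_root hw' hb hS hs4

/-- The value of the quadratic at `x` after substituting `h` and `M`. -/
def endF (h M x : ℤ) : ℤ :=
  x ^ 2 - (h * (M + 4 * h * (h - 1)) * M - h * (4 * h - 5)) * x + (h * (M + 4 * h * (h - 1))) ^ 2

theorem endF_sign_first {h : ℤ} (hh : h % 4 = 1) (h13 : 13 ≤ |h|) :
    endF h (2 * h - 3) (2 * h ^ 2 - h) * endF h (2 * h - 3) (2 * h ^ 2 - h + 4 * (h + 1)) < 0 := by
  rcases le_abs.1 h13 with hp | hn
  · obtain ⟨e, he, rfl⟩ : ∃ e, 0 ≤ e ∧ h = 13 + 4 * e := ⟨(h - 13) / 4, by omega, by omega⟩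
    refine mul_neg_of_pos_of_neg ?_ ?_ <;> simp only [endF] <;> ring_nf <;>
      nlinarith [pow_nonneg he 2, pow_nonneg he 3, pow_nonneg he 4, pow_nonneg he 5]
  · obtain ⟨e, he, rfl⟩ : ∃ e, 0 ≤ e ∧ h = -15 - 4 * e := ⟨(-15 - h) / 4, by omega, by omega⟩
    refine mul_neg_of_neg_of_pos ?_ ?_ <;> simp only [endF] <;> ring_nf <;>
      nlinarith [pow_nonneg he 2, pow_nonneg he 3, pow_nonneg he 4, pow_nonneg he 5]

/-- The neighbours in the class of the roots, for the second small value of `M`. -/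
def endX (h j : ℤ) : ℤ := 3 * h + 6 - 2 * (h + 1) * (h - j)

theorem endF_sign_second {h : ℤ} (hh : h % 4 = 1) (h13 : 13 ≤ |h|) :
    endF h (-2 * h - 7) (endX h 3) * endF h (-2 * h - 7) (endX h 5) < 0 ∨
      endF h (-2 * h - 7) (endX h 5) * endF h (-2 * h - 7) (endX h 7) < 0 := by
  rcases le_abs.1 h13 with hp | hn
  · obtain ⟨e, he, rfl⟩ : ∃ e, 0 ≤ e ∧ h = 13 + 4 * e := ⟨(h - 13) / 4, by omega, by omega⟩
    refine Or.inl (mul_neg_of_neg_of_pos ?_ ?_) <;> simp only [endF, endX] <;> ring_nf <;>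
      nlinarith [pow_nonneg he 2, pow_nonneg he 3, pow_nonneg he 4, pow_nonneg he 5]
  · obtain ⟨e, he, rfl⟩ : ∃ e, 0 ≤ e ∧ h = -15 - 4 * e := ⟨(-15 - h) / 4, by omega, by omega⟩
    rcases le_or_gt 9 e with h9 | h9
    · obtain ⟨d, hd, rfl⟩ : ∃ d, 0 ≤ d ∧ e = 9 + d := ⟨e - 9, by omega, by omega⟩
      refine Or.inl (mul_neg_of_pos_of_neg ?_ ?_) <;> simp only [endF, endX] <;> ring_nf <;>
        nlinarith [pow_nonneg hd 2, pow_nonneg hd 3, pow_nonneg hd 4, pow_nonneg hd 5]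
    · refine Or.inr ?_
      interval_cases e <;> norm_num [endF, endX]

/-- There is no solution. -/
theorem false_of_uv {h c S : ℤ} (hh : h % 4 = 1) (h13 : 13 ≤ |h|) (hc0 : 0 < c) (hc8 : c % 8 = 7)
    (hcT : h + 1 ∣ 2 * (c - 3)) (hS8 : (S - h) % 8 = 0) (hST : h + 1 ∣ 2 * (S - 3))
    (heq : S ^ 2 - (h * c * (c - 4 * h * (h - 1)) - h * (4 * h - 5)) * S + (h * c) ^ 2 = 0) : False := by
  obtain ⟨w, rfl⟩ : ∃ w, h = 4 * w + 1 := ⟨h / 4, by omega⟩
  obtain ⟨u, hu⟩ : ∃ u, c = 8 * u + 7 := ⟨c / 8, by omega⟩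
  obtain ⟨v, hv⟩ : ∃ v, S = 4 * w + 1 + 8 * v := ⟨(S - (4 * w + 1)) / 8, by omega⟩
  obtain ⟨a, ha⟩ : 2 * w + 1 ∣ c - 3 := by
    obtain ⟨n, hn⟩ := hcT
    exact ⟨n, by linarith⟩
  obtain ⟨b, hb⟩ : 2 * w + 1 ∣ S - 3 := by
    obtain ⟨n, hn⟩ := hST
    exact ⟨n, by linarith⟩
  -- the other root
  obtain ⟨S', hS'⟩ : ∃ S', S' = ((4 * w + 1) * c * (c - 4 * (4 * w + 1) * (4 * w)) -
      (4 * w + 1) * (4 * (4 * w + 1) - 5)) - S := ⟨_, rfl⟩
  obtain ⟨m, hm⟩ : ∃ m, m = u - 2 * w * (4 * w + 1) := ⟨_, rfl⟩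
  obtain ⟨M, hMd⟩ : ∃ M, M = c - 4 * (4 * w + 1) * (4 * w) := ⟨_, rfl⟩
  have hM8 : M = 8 * m + 7 := by rw [hMd, hu, hm]; ring
  obtain ⟨v', hv'⟩ : ∃ v', S' = 4 * w + 1 + 8 * v' :=
    ⟨(4 * w + 1) * (8 * u * m + 7 * u + 7 * m) + 2 * (4 * w + 1) * (3 - w) - v, by
      rw [hS', ← hMd, hM8, hu, hv]; ring⟩
  obtain ⟨b', hb'⟩ : 2 * w + 1 ∣ S' - 3 :=
    ⟨2 * c * M - a * M - 3 * (a - 8 * (4 * w + 1 - 2)) - 2 * (4 * (4 * w + 1) - 9) - b, by
      rw [hS', ← hMd, show S = 3 + (2 * w + 1) * b by linarith, hMd, show c = 3 + (2 * w + 1) * a by linarith]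
      ring⟩
  have hprod : S * S' = ((4 * w + 1) * c) ^ 2 := by
    rw [hS']; linear_combination -heq
  have heq' : ∀ T : ℤ, (T = S ∨ T = S') →
      (T * M - (4 * w + 1) * c) * ((4 * w + 1) * c) = T * (T + (4 * w + 1) * (4 * (4 * w + 1) - 5)) := by
    intro T hT
    rcases hT with e | e <;> rw [e, hMd]
    · linear_combination -heq
    · linear_combination hprod - S' * hS'
  -- the class of `M`
  obtain ⟨j, hj⟩ : 8 * (2 * w + 1) ∣ M - (2 * (4 * w + 1) - 3) := by
    have e1 : M - (2 * (4 * w + 1) - 3) = (2 * w + 1) * (a - 8 * (4 * w + 1 - 2) - 4) := by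
      rw [hMd, show c = 3 + (2 * w + 1) * a by linarith]; ring
    obtain ⟨j, hj⟩ := eight_dvd_of_odd_mul (w := w) (j := a - 8 * (4 * w + 1 - 2) - 4)
      ⟨m - w + 1, by rw [← e1, hM8]; ring⟩
    exact ⟨j, by rw [e1, hj]; ring⟩
  have hlat : ∀ (T bT vT x n : ℤ), T - 3 = (2 * w + 1) * bT → T = 4 * w + 1 + 8 * vT →
      x = 2 * (4 * w + 1) ^ 2 - (4 * w + 1) ∨ x = 3 * (4 * w + 1) + 6 + 8 * (2 * w + 1) * n →
      8 * (2 * w + 1) ∣ T - x := by
    intro T bT vT x n h1 h2 hx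
    rcases hx with rfl | rfl
    · have e1 : T - (2 * (4 * w + 1) ^ 2 - (4 * w + 1)) = (2 * w + 1) * (bT - 2 * (2 * (4 * w + 1) - 3)) := by
        rw [show T = 3 + (2 * w + 1) * bT by linarith]; ring
      obtain ⟨i, hi⟩ := eight_dvd_of_odd_mul (w := w) (j := bT - 2 * (2 * (4 * w + 1) - 3))
        ⟨vT - (4 * w + 1) * w, by rw [← e1, h2]; ring⟩
      exact ⟨i, by rw [e1, hi]; ring⟩
    · have e1 : T - (3 * (4 * w + 1) + 6) = (2 * w + 1) * (bT - 6) := by
        rw [show T = 3 + (2 * w + 1) * bT by linarith]; ring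
      obtain ⟨i, hi⟩ := eight_dvd_of_odd_mul (w := w) (j := bT - 6) ⟨vT - w - 1, by rw [← e1, h2]; ring⟩
      exact ⟨i - n, by linear_combination e1 + (2 * w + 1) * hi⟩
  have hF : ∀ x, endF (4 * w + 1) M x = (x - S) * (x - S') := by
    intro x
    have hc : M + 4 * (4 * w + 1) * (4 * w + 1 - 1) = c := by rw [hMd]; ring
    rw [endF, hc]
    linear_combination x * hS' - x * (4 * w + 1) * c * hMd - hprod
  have hsign : ∀ x n, (x = 2 * (4 * w + 1) ^ 2 - (4 * w + 1) ∨
      x = 3 * (4 * w + 1) + 6 + 8 * (2 * w + 1) * n) →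
      0 ≤ endF (4 * w + 1) M x * endF (4 * w + 1) M (x + 8 * (2 * w + 1)) := by
    intro x n hx
    rw [hF, hF]
    exact no_sign_change (hlat S b v x n hb hv hx) (hlat S' b' v' x n hb' hv' hx)
  rcases eq_or_ne j 0 with rfl | hj0
  · have h1 := endF_sign_first hh h13
    have h2 := hsign _ 0 (Or.inl rfl)
    rw [show M = 2 * (4 * w + 1) - 3 by linarith] at h2
    rw [show 4 * (4 * w + 1 + 1) = 8 * (2 * w + 1) by ring] at h1
    linarith
  rcases eq_or_ne j (-1) with rfl | hj1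
  · have hM2 : M = -2 * (4 * w + 1) - 7 := by linarith
    rcases endF_sign_second hh h13 with h1 | h1
    · have h2 := hsign (endX (4 * w + 1) 3) (1 - 2 * w) (Or.inr (by rw [endX]; ring))
      rw [hM2, show endX (4 * w + 1) 3 + 8 * (2 * w + 1) = endX (4 * w + 1) 5 by rw [endX, endX]; ring] at h2
      linarith
    · have h2 := hsign (endX (4 * w + 1) 5) (2 - 2 * w) (Or.inr (by rw [endX]; ring))
      rw [hM2, show endX (4 * w + 1) 5 + 8 * (2 * w + 1) = endX (4 * w + 1) 7 by rw [endX, endX]; ring] at h2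
      linarith
  have hMbig : |M| ≥ 6 * |4 * w + 1| - 1 ∨ (4 * w + 1 < 0 ∧ |M| ≥ 6 * |4 * w + 1| - 11) := by
    have e := hj
    rcases lt_abs.1 (show 12 < |4 * w + 1| by linarith) with hp | hn
    · left
      rw [abs_of_pos (show 0 < 4 * w + 1 by linarith)]
      rcases (show 1 ≤ j ∨ j ≤ -2 by omega) with hj2 | hj2
      · have := mul_le_mul_of_nonneg_left hj2 (show 0 ≤ 8 * (2 * w + 1) by linarith)
        linarith [le_abs_self M]
      · have := mul_le_mul_of_nonneg_left hj2 (show 0 ≤ 8 * (2 * w + 1) by linarith)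
        linarith [neg_le_abs M]
    · refine Or.inr ⟨by linarith, ?_⟩
      rw [abs_of_neg (show 4 * w + 1 < 0 by linarith)]
      rcases (show 1 ≤ j ∨ j ≤ -2 by omega) with hj2 | hj2
      · have := mul_le_mul_of_nonpos_left hj2 (show 8 * (2 * w + 1) ≤ 0 by linarith)
        linarith [neg_le_abs M]
      · have := mul_le_mul_of_nonpos_left hj2 (show 8 * (2 * w + 1) ≤ 0 by linarith)
        linarith [le_abs_self M]
  have hkill : ∀ T bT vT : ℤ, (T = S ∨ T = S') → T - 3 = (2 * w + 1) * bT → T = 4 * w + 1 + 8 * vT →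
      |T| ≤ |(4 * w + 1) * c| → False := by
    intro T bT vT hT h1 h2 hle
    obtain ⟨R, hR⟩ : ∃ R, R = T * M - (4 * w + 1) * c := ⟨_, rfl⟩
    have hR8 : R = 8 * ((4 * w + 1) * m + 7 * vT + 8 * vT * m - (4 * w + 1) * u) := by
      rw [hR, h2, hM8, hu]; ring
    have hRT : R + 12 = (2 * w + 1) * (bT * M + 3 * (a - 8 * (4 * w + 1 - 2)) - 2 * c + a) := by
      rw [hR, show T = 3 + (2 * w + 1) * bT by linarith, hMd, show c = 3 + (2 * w + 1) * a by linarith]
      ring
    have hR4 : 4 * |2 * w + 1| ≤ |R + 12| := by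
      generalize hn : bT * M + 3 * (a - 8 * (4 * w + 1 - 2)) - 2 * c + a = n at hRT
      obtain ⟨i, hi⟩ : 4 ∣ n := by
        obtain ⟨i, hi⟩ := eight_dvd_of_odd_mul (w := w) (j := 2 * n) ⟨(R + 12) / 4, by
          rw [mul_left_comm, ← hRT]; omega⟩
        exact ⟨i, by linarith⟩
      have hi0 : i ≠ 0 := by
        rintro rfl
        rw [hi] at hRT
        omega
      rw [hRT, hi, abs_mul, abs_mul, show |(4 : ℤ)| = 4 by norm_num, mul_comm]
      exact mul_le_mul_of_nonneg_left (le_mul_of_one_le_right (by norm_num) (Int.one_le_abs hi0)) (abs_nonneg _)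
    refine no_small_root h13 hc0 h1 (by rw [h2]; exact ⟨w + 2 * vT, by ring⟩) (hMd ▸ hMbig) ?_
      (hMd ▸ heq' T hT) hle
    rw [← hMd, ← hR]
    linarith
  by_cases hS : |S| ≤ |(4 * w + 1) * c|
  · exact hkill S b v (Or.inl rfl) hb hv hS
  · refine hkill S' b' v' (Or.inr rfl) hb' hv' ?_
    by_contra hlt
    push Not at hS hlt
    have := mul_lt_mul'' hS hlt (abs_nonneg _) (abs_nonneg _)
    rw [← abs_mul S S', hprod, ← abs_mul, ← sq] at this
    exact lt_irrefl _ this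

end Cfsg.Lib.Walter8
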