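import Cfsg.Agent.Lib.Walter8.MovesBase
import Cfsg.Agent.Lib.Walter8.Endgames
import Cfsg.Agent.Lib.Walter8.EndUV

/-!
# Eight rows, the rotation moving the torus

`ψ'` meets the rows in `{x, A}`, which gives the order formula, or in `{u, v}`, which is impossible.
-/

set_option autoImplicit false
set_option linter.unusedSectionVars false
set_option linter.style.haveILetI false
set_option linter.unusedSimpArgs false

namespace Cfsg.Lib.Walter8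

open Subgroup Cfsg Cfsg.Lib.Char
open scoped ComplexConjugate

universe u

theorem p8₀ (k : Fin 8) : pat8 0 k = ![1, 1, 0, 0, 0, 0, 1, 1] k := rfl

theorem p8₁ (k : Fin 8) : pat8 1 k = ![0, 0, 1, 1, 0, 0, 1, 1] k := rfl

theorem p8₂ (k : Fin 8) : pat8 2 k = ![0, 0, 0, 0, 1, 1, 1, 1] k := rfl

theorem eq_of_pair_eq {h u v : ℤ} (hh : h ≠ 0) (hu : u ≠ 0) (hv : v ≠ 0) (huv : u + v ≠ 0)
    (e : (h : ℂ) ^ 2 / u + (h : ℂ) ^ 2 / v - 4 * (h : ℂ) ^ 2 / ((u + v : ℤ) : ℂ) = 0) : u = v := by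
  have h' : ((u - v) * (u - v) : ℤ) = 0 := by
    refine Int.cast_injective (α := ℂ) ?_
    have ch : (h : ℂ) ≠ 0 := Int.cast_ne_zero.2 hh
    have cu : (u : ℂ) ≠ 0 := Int.cast_ne_zero.2 hu
    have cv : (v : ℂ) ≠ 0 := Int.cast_ne_zero.2 hv
    have cP : ((u + v : ℤ) : ℂ) ≠ 0 := Int.cast_ne_zero.2 huv
    push_cast at cP e ⊢
    field_simp at e
    refine mul_left_cancel₀ (pow_ne_zero 2 ch) ?_
    linear_combination e
  linarith [mul_self_eq_zero.1 h']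

/-- The last step of the pattern `{u, v}` with equal rows. -/
theorem false_of_equal {h c x u : ℤ} (h13 : 13 ≤ |h|) (hc : 0 < c) (hu : u = -(h * c))
    (hx : x = u + u - 1) (he : c * h ^ 2 * x = (c - h * (4 * h - 5)) * u * x + c * u) : False := by
  have hh : h * c ≠ 0 := mul_ne_zero (fun e => by rw [e, abs_zero] at h13; omega) hc.ne'
  have he' : c = x * (h * (4 * h - 5) - c - h) := by
    refine mul_left_cancel₀ hh ?_
    rw [hu] at he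
    linear_combination he
  have hd : x ∣ c := ⟨_, he'⟩
  have h1 := Int.le_of_dvd hc hd
  have h2 := Int.le_of_dvd hc (neg_dvd.mpr hd)
  rcases abs_cases h with ⟨e, -⟩ | ⟨e, -⟩ <;> rw [e] at h13 <;> subst hu hx <;> nlinarith

namespace Setup

variable {G L : Type u} [Group G] [Group L] [Fintype G] [IsSimpleGroup G] {S : Setup G L}
  (Tb : Table S pat8) (R : Rot S) (hna : ¬ IsMulCommutative G) (hR : ¬ R.Triv)
include hna hR

theorem Table.deg8 : 1 + Tb.X 1 + Tb.X 6 + Tb.X 7 = 0 ∧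
    Tb.X 2 + Tb.X 3 + Tb.X 6 + Tb.X 7 = 0 ∧ Tb.X 4 + Tb.X 5 + Tb.X 6 + Tb.X 7 = 0 := by
  have e := Tb.degree_eq
  refine ⟨?_, ?_, ?_⟩
  · have e0 := e 0
    simp [Fin.sum_univ_eight, p8₀, p8₁, p8₂, Tb.X_zero] at e0
    linarith
  · have e0 := e 1
    simp [Fin.sum_univ_eight, p8₀, p8₁, p8₂] at e0
    linarith
  · have e0 := e 2
    simp [Fin.sum_univ_eight, p8₀, p8₁, p8₂] at e0
    linarith

theorem Table.pair8 :
    ((S.C).index : ℂ) * (1 + 1 / (Tb.X 1 : ℂ) + (S.D.Q : ℂ) ^ 2 / Tb.X 6 +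
        (S.D.Q : ℂ) ^ 2 / Tb.X 7) = (S.D.Q : ℂ) * (S.D.Q - 1) ^ 2 * (S.D.Q + 1) ∧
      ((S.C).index : ℂ) * ((S.D.h : ℂ) ^ 2 / Tb.X 2 + (S.D.h : ℂ) ^ 2 / Tb.X 3 +
        (S.D.Q : ℂ) ^ 2 / Tb.X 6 + (S.D.Q : ℂ) ^ 2 / Tb.X 7) =
        (S.D.Q : ℂ) * (S.D.Q - 1) * (3 * S.D.Q - 1) ∧
      ((S.C).index : ℂ) * ((S.D.h : ℂ) ^ 2 / Tb.X 4 + (S.D.h : ℂ) ^ 2 / Tb.X 5 +
        (S.D.Q : ℂ) ^ 2 / Tb.X 6 + (S.D.Q : ℂ) ^ 2 / Tb.X 7) =
        (S.D.Q : ℂ) * (S.D.Q - 1) * (3 * S.D.Q - 1) := by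
  have hQ : (S.D.Q : ℂ) = 1 + S.D.h * 2 := by
    rw [mul_comm (S.D.h : ℂ), add_comm]; exact_mod_cast S.D.Q_eq
  refine ⟨?_, ?_, ?_⟩
  · have e0 := Tb.pair_eq hna 0
    simp [Fin.sum_univ_eight, p8₀, p8₁, p8₂, tval, Tb.X_zero] at e0
    rw [hQ] at e0 ⊢
    linear_combination e0
  · have e0 := Tb.pair_eq hna 1
    simp [Fin.sum_univ_eight, p8₀, p8₁, p8₂, tval] at e0
    rw [hQ] at e0 ⊢
    linear_combination e0
  · have e0 := Tb.pair_eq hna 2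
    simp [Fin.sum_univ_eight, p8₀, p8₁, p8₂, tval] at e0
    rw [hQ] at e0 ⊢
    linear_combination e0

theorem Table.rows8 {lam : S.K →* ℂˣ} (h : IsTor S lam) :
    ((∀ k, Tb.mu S.nu lam k = ![0, -1, 0, 0, 0, 0, 1, 0] k) ∨
      (∀ k, Tb.mu S.nu lam k = ![0, -1, 0, 0, 0, 0, 0, 1] k)) ∨
      ((Tb.mu S.nu lam 1 = 0 ∧ Tb.mu S.nu lam 6 = 0 ∧ Tb.mu S.nu lam 7 = 0) ∧
        ((Tb.mu S.nu lam 2 = 1 ∧ Tb.mu S.nu lam 3 = 0) ∨
          (Tb.mu S.nu lam 2 = 0 ∧ Tb.mu S.nu lam 3 = 1)) ∧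
        ((Tb.mu S.nu lam 4 = 1 ∧ Tb.mu S.nu lam 5 = 0) ∨
          (Tb.mu S.nu lam 4 = 0 ∧ Tb.mu S.nu lam 5 = 1))) := by
  have c0 := Tb.mu_col R h 0
  have c1 := Tb.mu_col R h 1
  have c2 := Tb.mu_col R h 2
  have hM := (Tb.out_facts R hna hR h sum_bval8).2.2.2
  simp [Fin.sum_univ_eight, p8₀, p8₁, p8₂, Tb.mu_zero h] at c0 c1 c2 hM
  rcases options8 (x := Tb.mu S.nu lam 1) (u := Tb.mu S.nu lam 2) (u' := Tb.mu S.nu lam 3)
      (v := Tb.mu S.nu lam 4) (v' := Tb.mu S.nu lam 5) (A := Tb.mu S.nu lam 6)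
      (B := Tb.mu S.nu lam 7) (by linarith) (by linarith) (by linarith) (by linarith) with
    ⟨e1, e2, e3, e4, e5, ⟨e6, e7⟩ | ⟨e6, e7⟩⟩ | ⟨e1, e6, e7, hu, hv⟩
  · refine Or.inl (Or.inl fun k => ?_)
    fin_cases k <;> simp [Tb.mu_zero h, e1, e2, e3, e4, e5, e6, e7]
  · refine Or.inl (Or.inr fun k => ?_)
    fin_cases k <;> simp [Tb.mu_zero h, e1, e2, e3, e4, e5, e6, e7]
  · exact Or.inr ⟨⟨e1, e6, e7⟩, hu, hv⟩

open Classical in
theorem Table.out_one8 {lam : S.K →* ℂˣ} (h : IsTor S lam)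
    (hM : ∑ k, Tb.mu S.nu lam k * Tb.mu S.nu lam k = 2) :
    ∑ χ ∈ Tb.out, S.m S.nu lam χ * S.m S.nu lam χ = 1 ∧
      ((∀ k : S.K, lam k = 1 → S.InV (k : G)) →
        ∑ χ ∈ Tb.out, S.m 1 lam χ * S.m 1 lam χ = 1) := by
  obtain ⟨f1, -, f3, -⟩ := Tb.out_facts R hna hR h sum_bval8
  refine ⟨by rw [f1, hM]; norm_num, fun hf => ?_⟩
  rw [f3, hM, R.card_stab_faithful hR h hf]
  norm_num

/-- The pattern `{x, A}`. -/
theorem Table.case_xA {lam : S.K →* ℂˣ} (h : IsTor S lam)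
    (hf : ∀ k : S.K, lam k = 1 → S.InV (k : G))
    (hμ : ∀ k, Tb.mu S.nu lam k = ![0, -1, 0, 0, 0, 0, 1, 0] k) : MovesConcl S := by
  obtain ⟨d0, d1, d2⟩ := Tb.deg8 R hna hR
  obtain ⟨e0, e1, e2⟩ := Tb.pair8 R hna hR
  obtain ⟨o1, o2⟩ := Tb.out_one8 R hna hR h (by simp [hμ, Fin.sum_univ_eight])
  obtain ⟨p1, p2⟩ := Tb.ext_single h o1
  obtain ⟨q1, q2⟩ := Tb.ext_single h (o2 hf)
  obtain ⟨r1, r2⟩ := R.pair_rhs hna hR h
  rw [p2] at r2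
  rw [q2] at r1
  have hQ := S.D.Q_eq
  have hX : ∑ k, Tb.mu S.nu lam k * Tb.X k = Tb.X 6 - Tb.X 1 := by
    simp [hμ, Fin.sum_univ_eight]; ring
  have ht : ∑ k, Tb.mu S.nu lam k * tval S pat8 k = S.D.Q - 1 := by
    simp [hμ, Fin.sum_univ_eight, tval, p8₀, p8₁, p8₂, hQ]; ring
  have hX' : ∑ k, Tb.mu 1 lam k * Tb.X k = Tb.X 6 - Tb.X 1 := by
    simp [Tb.mu_one R h, hμ, Fin.sum_univ_eight, bval, p8₀, p8₁, p8₂, Tb.X_zero]
    linarith
  have ht' : ∑ k, Tb.mu 1 lam k * tval S pat8 k = 3 - 3 * S.D.Q := by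
    simp [Tb.mu_one R h, hμ, Fin.sum_univ_eight, bval, tval, p8₀, p8₁, p8₂, hQ]; ring
  rw [hX, ht] at r2
  rw [hX', ht'] at r1
  rw [hX] at p1
  simp [hμ, Fin.sum_univ_eight, tval, p8₀, p8₁, p8₂] at r2
  simp [Tb.mu_one R h, hμ, Fin.sum_univ_eight, bval, tval, p8₀, p8₁, p8₂, Tb.X_zero] at r1
  have hQc : (S.D.Q : ℂ) = 1 + S.D.h * 2 := by rw [hQ]; push_cast; ring
  obtain ⟨hN, hsq, hx1, hA1⟩ := end_xA (N := ((S.C).index : ℤ)) hQ S.D.Q_mod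
    (Int.natCast_ne_zero.2 index_ne_zero_of_finite) (Tb.X_ne 1) (Tb.X_ne 2) (Tb.X_ne 3)
    (v := Tb.X 4) (v' := Tb.X 5) (Tb.X_ne 6) (Tb.X_ne 7) p1 d0 d1
    (by rw [Int.cast_natCast]; exact e0) (by rw [Int.cast_natCast]; exact e1)
    (by rw [Int.cast_natCast]; exact e2)
    (by
      push_cast
      rw [hQc] at r2 ⊢
      linear_combination r2)
    (by
      rw [Int.cast_natCast]
      push_cast
      rw [hQc] at r1 ⊢
      linear_combination r1)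
  have h7' : Tb.X 7 = S.D.Q ^ 3 := by
    have d0' := d0
    rw [hA1, hx1] at d0'
    linear_combination d0'
  have hd1 : (charDegree (Tb.e 1 : G → ℂ) : ℤ) = S.D.Q ^ 2 - S.D.Q + 1 := by
    have hpos := (Tb.e 1).2.charDegree_pos
    have hq0 : 0 < S.D.Q ^ 2 - S.D.Q + 1 := by nlinarith [sq_nonneg (2 * S.D.Q - 1)]
    rcases Tb.sign 1 with e | e <;> rw [Table.X, e] at hx1
    · omega
    · linarith
  refine ⟨hN, ⟨_, hsq⟩, ⟨Tb.e 1, hd1⟩, Tb.e 7, ?_,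
    Tb.e 1, Tb.e 6, Tb.ε 1, Tb.ε 6, Tb.ε 7, hd1, ?_, ⟨Tb.sign 7, Tb.e 2, Tb.e 3, Tb.ε 2, Tb.ε 3, Tb.sign 2, Tb.sign 3, ?_, hsq, fun g hg => ?_⟩,
    fun g hg => ?_⟩
  · have h7 := h7'
    rcases Tb.sign 7 with e | e <;> rw [Table.X, e] at h7
    · left; linarith
    · right; linarith
  · have h6 : Tb.X 6 = -(S.D.Q * (S.D.Q ^ 2 - S.D.Q + 1)) := by rw [hA1, hx1]; ring
    rcases Tb.sign 6 with e | e <;> rw [Table.X, e] at h6
    · right; linarith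
    · left; linarith
  · show Tb.X 2 + Tb.X 3 = _
    linear_combination d1 - hA1 - h7' - S.D.Q * hx1
  · have h := S.W_eq_sum 1 g
    rw [S.W_odd 1 hg, Tb.sum_d 1 fun χ => (χ : G → ℂ) g] at h
    simp [Fin.sum_univ_eight, p8₀, p8₁, p8₂] at h
    linear_combination -h
  · have h := S.W_eq_sum 0 g
    rw [S.W_odd 0 hg, Tb.sum_d 0 fun χ => (χ : G → ℂ) g] at h
    simp [Fin.sum_univ_eight, p8₀, p8₁, p8₂, Tb.e_zero, Tb.ε_zero] at h
    linear_combination -h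

/-- The pattern `{u, v}`. -/
theorem Table.case_uv {lam : S.K →* ℂˣ} (h : IsTor S lam)
    (hf : ∀ k : S.K, lam k = 1 → S.InV (k : G))
    (hμ : ∀ k, Tb.mu S.nu lam k = ![0, 0, 1, 0, 1, 0, 0, 0] k) : False := by
  classical
  haveI := Fintype.ofFinite S.K
  obtain ⟨d0, d1, d2⟩ := Tb.deg8 R hna hR
  obtain ⟨e0, e1, -⟩ := Tb.pair8 R hna hR
  obtain ⟨o1, o2⟩ := Tb.out_one8 R hna hR h (by simp [hμ, Fin.sum_univ_eight])
  obtain ⟨p1, p2⟩ := Tb.ext_single h o1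
  obtain ⟨q1, q2⟩ := Tb.ext_single h (o2 hf)
  obtain ⟨r1, r2⟩ := R.pair_rhs hna hR h
  rw [p2] at r2
  rw [q2] at r1
  have hQ := S.D.Q_eq
  have hh := S.D.h_ne
  have hX : ∑ k, Tb.mu S.nu lam k * Tb.X k = Tb.X 2 + Tb.X 4 := by
    simp [hμ, Fin.sum_univ_eight]
  have ht : ∑ k, Tb.mu S.nu lam k * tval S pat8 k = 2 * S.D.h := by
    simp [hμ, Fin.sum_univ_eight, tval, p8₀, p8₁, p8₂]; ring
  have hX' : ∑ k, Tb.mu 1 lam k * Tb.X k = Tb.X 2 + Tb.X 4 := by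
    simp [Tb.mu_one R h, hμ, Fin.sum_univ_eight, bval, p8₀, p8₁, p8₂, Tb.X_zero]
    linarith
  have ht' : ∑ k, Tb.mu 1 lam k * tval S pat8 k = -(6 * S.D.h) := by
    simp [Tb.mu_one R h, hμ, Fin.sum_univ_eight, bval, tval, p8₀, p8₁, p8₂]; ring
  rw [hX, ht] at r2
  rw [hX', ht'] at r1
  rw [hX] at p1
  simp [hμ, Fin.sum_univ_eight, tval, p8₀, p8₁, p8₂] at r2
  simp [Tb.mu_one R h, hμ, Fin.sum_univ_eight, bval, tval, p8₀, p8₁, p8₂, Tb.X_zero] at r1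
  have hQc : (S.D.Q : ℂ) = 1 + S.D.h * 2 := by rw [hQ]; push_cast; ring
  obtain ⟨huv, huv', hx, c, hN, hu, hc⟩ := core_uv (N := ((S.C).index : ℤ)) hQ hh
    (Tb.X_ne 1) (Tb.X_ne 2) (Tb.X_ne 3) (Tb.X_ne 4) p1 d0 d1 d2
    (by rw [Int.cast_natCast]; exact e0) (by rw [Int.cast_natCast]; exact e1)
    (by push_cast; linear_combination r2)
    (by
      rw [Int.cast_natCast]
      push_cast
      rw [hQc] at r1 ⊢
      linear_combination r1)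
  have hN0 : (0 : ℤ) < ((S.C).index : ℤ) :=
    Int.natCast_pos.2 (Nat.pos_of_ne_zero index_ne_zero_of_finite)
  have hc0 : 0 < c := by
    rcases lt_trichotomy c 0 with h' | h' | h'
    · rw [hN] at hN0; nlinarith [sq_nonneg S.D.Q]
    · rw [hN, h', mul_zero] at hN0; exact absurd hN0 (lt_irrefl 0)
    · exact h'
  have h13 := R.abs_h hR
  -- the patterns of the other characters
  have hrow : ∀ i < S.D.T, i ≠ 0 → Tb.X 2 = Tb.X 3 ∨
      (Tb.mu S.nu (lam ^ i) 3 = 0 ∧ Tb.mu S.nu (lam ^ i) 5 = 0) := by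
    intro i hi hi0
    have hT : IsTor S (lam ^ i) :=
      h.pow hf fun hd => absurd (Nat.le_of_dvd (by omega) hd) (by omega)
    have hin : 1 ≤ ∑ k, Tb.mu S.nu (lam ^ i) k * Tb.mu S.nu lam k := by
      have hi' := Tb.out_inner S.nu (lam ^ i) S.nu lam
        (c := 2 + (if lam ^ i = lam then 1 else 0) + (if lam ^ i = lam⁻¹ then 1 else 0))
        (by rw [R.inner_psi'_psi' hna hR hT h]; push_cast; rfl)
      obtain ⟨f1, -, -, -⟩ := Tb.out_facts R hna hR hT sum_bval8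
      obtain ⟨f1', -, -, -⟩ := Tb.out_facts R hna hR h sum_bval8
      have hle : ∑ χ ∈ Tb.out, S.m S.nu (lam ^ i) χ * S.m S.nu lam χ ≤ 1 := by
        refine inner_le_one ?_ o1
        rw [f1]
        rcases Tb.rows8 R hna hR hT with (e | e) | ⟨⟨a1, a6, a7⟩, b, b'⟩
        · simp [e, Fin.sum_univ_eight]
        · simp [e, Fin.sum_univ_eight]
        · rcases b with ⟨a2, a3⟩ | ⟨a2, a3⟩ <;> rcases b' with ⟨a4, a5⟩ | ⟨a4, a5⟩ <;>
            simp [Fin.sum_univ_eight, Tb.mu_zero hT, a1, a2, a3, a4, a5, a6, a7]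
      split_ifs at hi' <;> omega
    simp [hμ, Fin.sum_univ_eight] at hin
    rcases Tb.rows8 R hna hR hT with (e | e) | ⟨⟨a1, a6, a7⟩, b, b'⟩
    · simp [e] at hin
    · simp [e] at hin
    rcases b with ⟨a2, a3⟩ | ⟨a2, a3⟩ <;> rcases b' with ⟨a4, a5⟩ | ⟨a4, a5⟩
    · exact Or.inr ⟨a3, a5⟩
    all_goals
      left
      obtain ⟨o1', -⟩ := Tb.out_one8 R hna hR hT
        (by simp [Fin.sum_univ_eight, Tb.mu_zero hT, a1, a2, a3, a4, a5, a6, a7])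
      obtain ⟨s1, s2⟩ := Tb.ext_single hT o1'
      obtain ⟨-, t2⟩ := R.pair_rhs hna hR hT
      rw [s2] at t2
      simp [Fin.sum_univ_eight, Tb.mu_zero hT, a1, a2, a3, a4, a5, a6, a7, tval, p8₀, p8₁, p8₂] at s1 t2
    · have := eq_of_pair_eq hh (Tb.X_ne 2) (Tb.X_ne 5) s1
        (by push_cast; linear_combination t2)
      rw [this, huv']
    · have := eq_of_pair_eq hh (Tb.X_ne 3) (Tb.X_ne 4) s1
        (by push_cast; linear_combination t2)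
      rw [this, huv]
    · omega
  by_cases hw : Tb.X 2 = Tb.X 3
  · exact false_of_equal (x := Tb.X 1) h13 hc0 hu (by rw [hx, hw]) (by rw [← hw] at hc; exact hc)
  have hzero : ∀ i ∈ Finset.range S.D.T, S.m S.nu (lam ^ i) (Tb.e 3) = 0 := by
    intro i hi
    by_cases hi0 : i = 0
    · rw [hi0, show lam ^ 0 = 1 from MonoidHom.ext fun k => by simp]; exact m_trivial _ _
    rw [Tb.m_row, ((hrow i (Finset.mem_range.1 hi) hi0).resolve_left hw).1, mul_zero]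
  have hw8 := Tb.X_mod_eight hna 3
  have ht3 : tval S pat8 3 = S.D.h := by simp [tval, p8₀, p8₁, p8₂]
  rw [ht3] at hw8
  have hcong := (R.congr_mod_T h hf (Tb.e 3) (Tb.apply_one 3) (Tb.apply_t 3)).1
  rw [Finset.sum_eq_zero hzero, mul_zero, add_zero, ht3, ← mul_sub] at hcong
  have hwT : (S.D.T : ℤ) ∣ Tb.X 3 - S.D.h := by
    have := hcong.mul_left (Tb.ε 3)
    rwa [← mul_assoc, Tb.ε_sq, one_mul] at this
  have hN8 := S.N_mod_eight hna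
  have hNT := S.N_mod_T hna R hR
  set w := Tb.X 3 with hwdef
  set k := S.D.h * (4 * S.D.h - 5) with hk
  have hTh := T_dvd_h (S := S)
  have hcT : (S.D.T : ℤ) ∣ c - 3 := by
    have hQ1 : (S.D.T : ℤ) ∣ S.D.Q + 1 := ⟨4 * S.D.σ, by linarith [S.D.four_T]⟩
    have e : c - 3 = ((S.C).index : ℤ) - 3 - (S.D.Q + 1) * ((S.D.Q - 1) * c) := by rw [hN]; ring
    rw [e]
    exact hNT.sub (hQ1.mul_right _)
  have hc8 : c % 8 = 7 := by
    obtain ⟨a, ha⟩ : ∃ a, S.D.Q = 8 * a + 3 := ⟨S.D.Q / 8, by have := S.D.Q_mod; omega⟩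
    rw [hN, ha, show (8 * a + 3) ^ 2 * c = 8 * ((8 * a ^ 2 + 6 * a + 1) * c) + c by ring] at hN8
    omega
  refine false_of_uv (c := c) (S := (c - k) * w - S.D.h ^ 2 * c) S.D.h_mod h13 hc0 hc8
    (h_dvd_two_mul hcT) ?_ (h_dvd_two_mul ?_) ?_
  · obtain ⟨e, he⟩ : ∃ e, S.D.h = 4 * e + 1 := ⟨S.D.h / 4, by have := S.D.h_mod; omega⟩
    have h8 : (8 : ℤ) ∣ ((c - k) * w - S.D.h ^ 2 * c) - S.D.h := by
      obtain ⟨a, ha⟩ : ∃ a, w = S.D.h + 8 * a := ⟨(w - S.D.h) / 8, by omega⟩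
      obtain ⟨b, hb⟩ : ∃ b, c = 7 + 8 * b := ⟨(c - 7) / 8, by omega⟩
      refine ⟨b * S.D.h + a * (c - k) - b * S.D.h ^ 2 -
        S.D.h * e * (8 * e + 5) , ?_⟩
      rw [hk, ha, hb, he]
      ring
    omega
  · have h1 : S.D.h ≡ -1 [ZMOD S.D.T] := (Int.modEq_iff_dvd.2 (by
      rw [show S.D.h - -1 = S.D.h + 1 by ring]; exact hTh)).symm
    have h2 : c ≡ 3 [ZMOD S.D.T] := (Int.modEq_iff_dvd.2 hcT).symm
    have h3 : w ≡ -1 [ZMOD S.D.T] := ((Int.modEq_iff_dvd.2 hwT).symm).trans h1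
    have h4 : k ≡ -1 * (4 * -1 - 5) [ZMOD S.D.T] := by
      rw [hk]
      exact h1.mul ((h1.mul_left 4).sub_right 5)
    exact Int.modEq_iff_dvd.1 (((((h2.sub h4).mul h3).sub ((h1.pow 2).mul h2)).trans
      (by norm_num)).symm)
  · rw [hx, hu] at hc
    rw [hk]
    linear_combination (-((c - S.D.h * (4 * S.D.h - 5)))) * hc

include Tb in
/-- Eight rows. -/
theorem Table.moves8 : MovesConcl S := by
  obtain ⟨lam, h, hf⟩ := S.exists_faithful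
  rcases Tb.rows8 R hna hR h with (e | e) | ⟨⟨a1, a6, a7⟩, b, b'⟩
  · exact Tb.case_xA R hna hR h hf e
  · refine (Tb.perm (Equiv.swap 6 7) (by decide) (by decide)).case_xA R hna hR h hf fun k => ?_
    show Tb.mu S.nu lam (Equiv.swap 6 7 k) = _
    rw [e]
    revert k
    decide
  · exfalso
    rcases b with ⟨a2, a3⟩ | ⟨a2, a3⟩ <;> rcases b' with ⟨a4, a5⟩ | ⟨a4, a5⟩
    · exact Tb.case_uv R hna hR h hf fun k => by
        fin_cases k <;> simp [Tb.mu_zero h, a1, a2, a3, a4, a5, a6, a7]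
    · refine (Tb.perm (Equiv.swap 4 5) (by decide) (by decide)).case_uv R hna hR h hf fun k => ?_
      show Tb.mu S.nu lam (Equiv.swap 4 5 k) = _
      fin_cases k <;> simp [Equiv.swap_apply_def, Tb.mu_zero h, a1, a2, a3, a4, a5, a6, a7]
    · refine (Tb.perm (Equiv.swap 2 3) (by decide) (by decide)).case_uv R hna hR h hf fun k => ?_
      show Tb.mu S.nu lam (Equiv.swap 2 3 k) = _
      fin_cases k <;> simp [Equiv.swap_apply_def, Tb.mu_zero h, a1, a2, a3, a4, a5, a6, a7]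
    · refine (Tb.perm (Equiv.swap 2 3 * Equiv.swap 4 5 : Equiv.Perm (Fin 8)) (by decide) (by decide)).case_uv R hna hR h
        hf fun k => ?_
      show Tb.mu S.nu lam ((Equiv.swap 2 3 * Equiv.swap 4 5 : Equiv.Perm (Fin 8)) k) = _
      fin_cases k <;> simp [Equiv.swap_apply_def, Tb.mu_zero h, a1, a2, a3, a4, a5, a6, a7]

end Setup

end Cfsg.Lib.Walter8
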