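import Cfsg.Agent.Lib.Walter8.TrivRows
import Cfsg.Agent.Lib.Walter8.Galois
import Cfsg.Agent.Lib.Walter8.Moves7
import Cfsg.Agent.Lib.Walter8.Moves8

/-!
# Seven rows, the rotation fixing the torus

The characters nonzero at the involutions meet the rows in `{s₁, s₂}` or in the double row of the
last two columns.  For `A₅` the power map exchanging the two columns makes `{s₁, s₂}` degenerate
and moves the two constituents outside the rows into a contradiction; for `A₄` the equations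
of the trivial character and of the character of degree three have no common solution.
-/

set_option autoImplicit false
set_option linter.unusedSectionVars false
set_option linter.style.haveILetI false
set_option linter.unusedSimpArgs false

namespace Cfsg.Lib.Walter8

open Subgroup Cfsg Cfsg.Lib.Char
open scoped ComplexConjugate

universe u

/-- The patterns: `{s₁, s₂}` and the double row. -/
def P7 : Fin 2 → Fin 7 → ℤ := ![![0, 1, 1, 0, 0, 0, 0], ![0, 0, 0, 0, 0, 0, 1]]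

theorem pat7_01 : ∀ j k, pat7 j k = 0 ∨ pat7 j k = 1 := by decide

theorem pat7_image : ∀ i' : Fin 7, (∀ j, pat7 (Equiv.swap 1 2 j) i' = pat7 j 1) → i' = 2 := by
  decide

/-- The trivial character on the rows. -/
theorem options7_one {s s' A p p' r : ℤ} (c0 : A + p + p' = -1) (c1 : s + A + p + r = -1)
    (c2 : s' + A + p' + r = -1)
    (hM : s * s + s' * s' + A * A + p * p + p' * p' + r * r ≤ 1) :
    s = 0 ∧ s' = 0 ∧ A = -1 ∧ p = 0 ∧ p' = 0 ∧ r = 0 := by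
  rcases bound_one (a := A) (by nlinarith) with rfl | rfl | rfl <;>
    rcases bound_one (a := p) (by nlinarith) with rfl | rfl | rfl <;>
    rcases bound_one (a := r) (by nlinarith) with rfl | rfl | rfl <;>
    first
      | omega
      | (exfalso; nlinarith)

/-- The pattern `{s₁, s₂}` against the trivial character. -/
theorem false_of_ss {Q A : ℤ} {N : ℂ} (h11 : 11 ≤ |Q|) (hA : A ≠ 0) (hA1 : A ≠ 1)
    (hA2 : A ≠ -1)
    (e0 : N * (((A : ℂ) - Q) ^ 2 / ((A : ℂ) * ((A : ℂ) - 1))) =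
      (Q : ℂ) * (Q - 1) * (Q + 1) ^ 2 * (1 / 3))
    (e1 : N * (((A : ℂ) - Q) ^ 2 / ((A : ℂ) * ((A : ℂ) + 1))) =
      (Q : ℂ) * (Q - 1) ^ 2 * (Q + 1)) : False := by
  have c1 : (A : ℂ) - 1 ≠ 0 := sub_ne_zero.2 (by exact_mod_cast hA1)
  have c2 : (A : ℂ) + 1 ≠ 0 := by exact_mod_cast (by omega : A + 1 ≠ 0)
  have c3 : (A : ℂ) ≠ 0 := Int.cast_ne_zero.2 hA
  have hP : Q * (Q - 1) * (Q + 1) ≠ 0 := by
    rcases abs_cases Q with ⟨e, -⟩ | ⟨e, -⟩ <;>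
      refine mul_ne_zero (mul_ne_zero ?_ ?_) ?_ <;> omega
  field_simp at e0 e1
  have key : Q * (Q - 1) * (Q + 1) *
      ((Q + 1) * (A - 1) - 3 * (Q - 1) * (A + 1)) = 0 := by
    refine Int.cast_injective (α := ℂ) ?_
    refine mul_left_cancel₀ c3 ?_
    push_cast
    linear_combination -1 * e0 + 3 * e1
  have h2 : (A + 2) * (Q - 2) = -3 := by
    have := (mul_eq_zero.1 key).resolve_left hP
    linarith
  have hd : Q - 2 ∣ 3 := ⟨-(A + 2), by linarith⟩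
  have h3 := Int.le_of_dvd (by norm_num) hd
  have h4 := Int.le_of_dvd (by norm_num) (neg_dvd.mpr hd)
  rcases abs_cases Q with ⟨e, -⟩ | ⟨e, -⟩ <;> omega

/-- Two vectors of norm two with product `1` or `-1` share one element. -/
theorem exists_shared {ι : Type*} [DecidableEq ι] {O : Finset ι} {f g : ι → ℤ} {c : ℤ}
    (hf : ∑ χ ∈ O, f χ * f χ = 2) (hg : ∑ χ ∈ O, g χ * g χ = 2)
    (hfg : ∑ χ ∈ O, f χ * g χ = c) (hc : c = 1 ∨ c = -1) :
    ∃ F ∈ O, ∃ G ∈ O, ∃ H ∈ O, F ≠ G ∧ F ≠ H ∧ G ≠ H ∧ (f F = 1 ∨ f F = -1) ∧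
      (f G = 1 ∨ f G = -1) ∧ (g H = 1 ∨ g H = -1) ∧ g F = c * f F ∧
      (∀ χ ∈ O, χ ≠ F → χ ≠ G → f χ = 0) ∧ ∀ χ ∈ O, χ ≠ F → χ ≠ H → g χ = 0 := by
  obtain ⟨p, hp, q, hq, hpq, hfp, hfq, hfz⟩ := exists_pair hf
  obtain ⟨p', hp', q', hq', hpq', hgp, hgq, hgz⟩ := exists_pair hg
  have hsum := sum_pair_vec (f := f) g hp hq hpq hfz
  simp only [Int.cast_id] at hsum
  rw [hfg] at hsum
  have hv : ∀ χ ∈ O, g χ = 0 ∨ g χ = 1 ∨ g χ = -1 := fun χ hχ => by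
    by_cases h1 : χ = p'
    · subst h1; tauto
    by_cases h2 : χ = q'
    · subst h2; tauto
    exact Or.inl (hgz χ hχ h1 h2)
  have key : ∀ F ∈ O, ∀ G ∈ O, F ≠ G → (f F = 1 ∨ f F = -1) → (f G = 1 ∨ f G = -1) →
      (∀ χ ∈ O, χ ≠ F → χ ≠ G → f χ = 0) → g G = 0 → c = f F * g F + f G * g G →
      ∃ F ∈ O, ∃ G ∈ O, ∃ H ∈ O, F ≠ G ∧ F ≠ H ∧ G ≠ H ∧ (f F = 1 ∨ f F = -1) ∧
        (f G = 1 ∨ f G = -1) ∧ (g H = 1 ∨ g H = -1) ∧ g F = c * f F ∧
        (∀ χ ∈ O, χ ≠ F → χ ≠ G → f χ = 0) ∧ ∀ χ ∈ O, χ ≠ F → χ ≠ H → g χ = 0 := by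
    intro F hF G hG hne h1 h2 hz hG0 hs
    rw [hG0, mul_zero, add_zero] at hs
    have hgF : g F = c * f F := by
      rcases h1 with e | e <;> rw [e] at hs ⊢ <;> linarith
    have hF0 : g F ≠ 0 := by rcases hc with e | e <;> rcases h1 with e' | e' <;> rw [hgF, e, e'] <;> norm_num
    obtain ⟨H, hH, hHF, hgH, hHz⟩ : ∃ H ∈ O, H ≠ F ∧ (g H = 1 ∨ g H = -1) ∧
        ∀ χ ∈ O, χ ≠ F → χ ≠ H → g χ = 0 := by
      by_cases h3 : F = p'
      · subst h3; exact ⟨q', hq', hpq'.symm, hgq, hgz⟩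
      by_cases h4 : F = q'
      · subst h4; exact ⟨p', hp', hpq', hgp, fun χ hχ a b => hgz χ hχ b a⟩
      exact absurd (hgz F hF h3 h4) hF0
    refine ⟨F, hF, G, hG, H, hH, hne, hHF.symm, fun e => ?_, h1, h2, hgH, hgF, hz, hHz⟩
    rw [e] at hG0
    rcases hgH with e' | e' <;> rw [e'] at hG0 <;> norm_num at hG0
  rcases hv q hq with e | e
  · exact key p hp q hq hpq hfp hfq hfz e hsum
  rcases hv p hp with e' | e'
  · exact key q hq p hp hpq.symm hfq hfp (fun χ hχ a b => hfz χ hχ b a) e' (by linarith)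
  exfalso
  rcases hfp with a | a <;> rcases hfq with b | b <;> rcases e with e | e <;>
    rcases e' with e' | e' <;> rw [a, b, e, e'] at hsum <;> omega

namespace Setup

variable {G L : Type u} [Group G] [Group L] [Fintype G] [IsSimpleGroup G] {S : Setup G L}

variable (Tb : Table S pat7) (hna : ¬ IsMulCommutative G)

theorem Table.deg7' : 1 + Tb.X 3 + Tb.X 4 + Tb.X 5 = 0 ∧
    Tb.X 1 + Tb.X 3 + Tb.X 4 + Tb.X 6 = 0 ∧ Tb.X 2 + Tb.X 3 + Tb.X 5 + Tb.X 6 = 0 := by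
  have e := Tb.degree_eq
  refine ⟨?_, ?_, ?_⟩
  · have e0 := e 0
    simp [Fin.sum_univ_seven, p7₀, p7₁, p7₂, Tb.X_zero] at e0
    linarith
  · have e0 := e 1
    simp [Fin.sum_univ_seven, p7₀, p7₁, p7₂] at e0
    linarith
  · have e0 := e 2
    simp [Fin.sum_univ_seven, p7₀, p7₁, p7₂] at e0
    linarith

section Patterns

variable {A₀ : Type} [Group A₀] [Fintype A₀] [DecidableEq A₀] {r : ℕ} [NeZero r]
  (X : Core S A₀) (Wt : Th A₀ r) {μ : S.Tsub →* ℂˣ} (hμ : μ ≠ 1)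
include hμ

/-- The patterns on the rows. -/
theorem Table.opts7 {i : Fin r} (hi : Good S (Wt.θ i)) (hs : Wt.s i = 1 ∨ Wt.s i = -1)
    (hi0 : i ≠ 0) : ∃ a : Fin 2, ∀ k, Tb.nuC X Wt μ i k = -(Wt.s i) * P7 a k := by
  have c0 := Tb.nuC_col X Wt hμ i 0
  have c1 := Tb.nuC_col X Wt hμ i 1
  have c2 := Tb.nuC_col X Wt hμ i 2
  have hM := Tb.norm_le_two X Wt hμ hi (by omega)
  have hz := Tb.nuC_zero X Wt hμ i
  rw [if_neg hi0] at hz
  simp [Fin.sum_univ_seven, p7₀, p7₁, p7₂, hz] at c0 c1 c2 hM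
  have hsq : Wt.s i * Wt.s i = 1 := by rcases hs with e | e <;> rw [e] <;> norm_num
  have key : ∀ a : Fin 2, (∀ k, -(Wt.s i) * Tb.nuC X Wt μ i k = P7 a k) →
      ∃ a : Fin 2, ∀ k, Tb.nuC X Wt μ i k = -(Wt.s i) * P7 a k := fun a h =>
    ⟨a, fun k => by rw [← h k]; linear_combination -(Tb.nuC X Wt μ i k) * hsq⟩
  have e0 : -(Wt.s i) * Tb.nuC X Wt μ i 0 = 0 := by rw [hz, mul_zero]
  rcases options7 (s := -(Wt.s i) * Tb.nuC X Wt μ i 1) (s' := -(Wt.s i) * Tb.nuC X Wt μ i 2)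
    (A := -(Wt.s i) * Tb.nuC X Wt μ i 3) (p := -(Wt.s i) * Tb.nuC X Wt μ i 4)
    (p' := -(Wt.s i) * Tb.nuC X Wt μ i 5) (r := -(Wt.s i) * Tb.nuC X Wt μ i 6)
    (by linear_combination (-(Wt.s i)) * c0) (by linear_combination (-(Wt.s i)) * c1 + hsq)
    (by linear_combination (-(Wt.s i)) * c2 + hsq)
    (by rcases hs with e | e <;> rw [e] <;> nlinarith [hM]) with
    ⟨e1, e2, e3, e4, e5, e6⟩ | ⟨e1, e2, e3, e4, e5, e6⟩
  · exact key 0 fun k => by fin_cases k <;> assumption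
  · exact key 1 fun k => by fin_cases k <;> assumption

include hna

/-- The equation of the pattern `{s₁, s₂}`. -/
theorem Table.eq_ss {i : Fin r} (hi : Good S (Wt.θ i)) (hs : Wt.s i = 1 ∨ Wt.s i = -1)
    (ha : ∀ k, Tb.nuC X Wt μ i k = -(Wt.s i) * P7 0 k) : Tb.X 1 + Tb.X 2 ≠ 0 ∧
    ((S.C).index : ℂ) * (-(Wt.s i : ℂ)) * ((S.D.h : ℂ) ^ 2 / Tb.X 1 + (S.D.h : ℂ) ^ 2 / Tb.X 2 -
        (2 * (S.D.h : ℂ)) ^ 2 / ((Tb.X 1 : ℂ) + Tb.X 2)) =
      (S.D.Q : ℂ) * (S.D.Q - 1) * (S.D.Q + 1) ^ 2 * (Wt.Kc i : ℂ) := by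
  have h1 : ∑ k, Tb.nuC X Wt μ i k * Tb.nuC X Wt μ i k = 2 := by
    simp only [ha]; rcases hs with e | e <;> rw [e] <;> decide
  obtain ⟨h0, h⟩ := Tb.pair_single X Wt hμ hna hi h1
  refine ⟨fun e => h0 ?_, ?_⟩
  · simp [ha, Fin.sum_univ_seven, P7]
    linear_combination (-(Wt.s i)) * e
  rw [← h]
  simp [ha, Fin.sum_univ_seven, P7, tval, p7₀, p7₁, p7₂]
  rcases hs with e | e <;> rw [e] <;> push_cast <;>
    simp only [one_mul, mul_one, neg_mul, mul_neg, neg_neg, neg_sq, ← neg_add, div_neg] <;> ring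

include X in
/-- The equation of the trivial character, whose pattern is `{1, A}`. -/
theorem Table.eq_one7 (hi : Good S (Wt.θ 0)) (hs : Wt.s 0 = 1) : Tb.X 3 ≠ 1 ∧
    ((S.C).index : ℂ) * (((Tb.X 3 : ℂ) - S.D.Q) ^ 2 / ((Tb.X 3 : ℂ) * ((Tb.X 3 : ℂ) - 1))) =
      (S.D.Q : ℂ) * (S.D.Q - 1) * (S.D.Q + 1) ^ 2 * (Wt.Kc 0 : ℂ) := by
  have c0 := Tb.nuC_col X Wt hμ 0 0
  have c1 := Tb.nuC_col X Wt hμ 0 1
  have c2 := Tb.nuC_col X Wt hμ 0 2
  have hM := Tb.norm_le_two X Wt hμ hi (by omega)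
  have hz := Tb.nuC_zero X Wt hμ 0
  rw [if_pos rfl] at hz
  simp [Fin.sum_univ_seven, p7₀, p7₁, p7₂, hz, hs] at c0 c1 c2 hM
  obtain ⟨e1, e2, e3, e4, e5, e6⟩ := options7_one (s := Tb.nuC X Wt μ 0 1)
    (s' := Tb.nuC X Wt μ 0 2) (A := Tb.nuC X Wt μ 0 3) (p := Tb.nuC X Wt μ 0 4)
    (p' := Tb.nuC X Wt μ 0 5) (r := Tb.nuC X Wt μ 0 6) (by linarith) (by linarith) (by linarith)
    (by linarith)
  obtain ⟨h0, h⟩ := Tb.pair_single X Wt hμ hna hi (by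
    simp [Fin.sum_univ_seven, hz, e1, e2, e3, e4, e5, e6])
  simp [Fin.sum_univ_seven, hz, e1, e2, e3, e4, e5, e6, hs, tval, p7₀, p7₁, p7₂, Tb.X_zero] at h0 h
  have hA1 : Tb.X 3 ≠ 1 := fun e => h0 (by rw [e]; norm_num)
  refine ⟨hA1, ?_⟩
  rw [← h]
  congr 1
  have d1 : (Tb.X 3 : ℂ) - 1 ≠ 0 := sub_ne_zero.2 (by exact_mod_cast hA1)
  have d2 : (1 : ℂ) - Tb.X 3 ≠ 0 := sub_ne_zero.2 (by exact_mod_cast hA1.symm)
  have d3 : (Tb.X 3 : ℂ) ≠ 0 := Int.cast_ne_zero.2 (Tb.X_ne 3)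
  have d4 : (1 : ℂ) + -(Tb.X 3 : ℂ) ≠ 0 := by rwa [← sub_eq_add_neg]
  rw [S.Qc]
  field_simp
  ring

omit hna in
/-- The constituents outside the rows of a character with the double row. -/
theorem Table.out_r {i : Fin r} (hi : Good S (Wt.θ i)) (hs : Wt.s i = 1 ∨ Wt.s i = -1)
    (ha : ∀ k, Tb.nuC X Wt μ i k = -(Wt.s i) * P7 1 k) :
    ∑ χ ∈ Tb.out, X.mC (Wt.θ i) μ χ * X.mC (Wt.θ i) μ χ = 2 := by
  rw [Tb.out_norm X Wt hμ hi]
  simp [ha, Fin.sum_univ_seven, P7]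
  rcases hs with e | e <;> rw [e] <;> norm_num

omit hna in
theorem Table.out_rr {i j : Fin r} (hi : Good S (Wt.θ i)) (hj : Good S (Wt.θ j)) (hij : i ≠ j)
    (ha : ∀ k, Tb.nuC X Wt μ i k = -(Wt.s i) * P7 1 k)
    (hb : ∀ k, Tb.nuC X Wt μ j k = -(Wt.s j) * P7 1 k) :
    ∑ χ ∈ Tb.out, X.mC (Wt.θ i) μ χ * X.mC (Wt.θ j) μ χ = -(Wt.s i * Wt.s j) := by
  rw [Tb.out_prod X Wt hμ hi hj hij]
  simp [ha, hb, Fin.sum_univ_seven, P7]

end Patterns

include Tb hna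

/-- The case of `A₅`. -/
theorem Table.false_five7 (X : Core S A5.A₀) (h5 : ¬ 5 ∣ S.D.T) : False := by
  classical
  obtain ⟨μ, hμ⟩ := S.exists_mu
  have hT := S.D.T_facts
  obtain ⟨hp2, hpT, -, -⟩ := S.D.p_facts
  obtain ⟨k, hk, hkns, hkT, hk5, hk30⟩ : ∃ k : ℕ, k.Coprime (Nat.card G) ∧
      ¬ IsSquare (k : ZMod S.D.p) ∧ k % S.D.T = 1 ∧ k % 5 = 2 ∧ k.Coprime 30 := by
    have h30 : ∀ {k : ℕ}, k % 6 = 1 ∨ k % 6 = 5 → k % 5 = 2 → k.Coprime 30 := by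
      intro k h6 h5'
      rw [show (30 : ℕ) = 6 * 5 from rfl]
      refine Nat.Coprime.mul_right ?_ (Nat.Prime.coprime_iff_not_dvd Nat.prime_five |>.2
        (by omega)).symm
      rw [Nat.Coprime, Nat.gcd_comm, Nat.gcd_rec]
      rcases h6 with e | e <;> rw [e] <;> rfl
    by_cases hp : S.D.p = 5
    · obtain ⟨k, a, b, c, d, e⟩ := exists_twist_five (n := Nat.card G) (T := S.D.T)
        Nat.card_pos.ne' (by omega) h5
      exact ⟨k, a, hp ▸ b, by rw [c, Nat.mod_eq_of_lt (by omega)], d, h30 (Or.inl e) d⟩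
    · obtain ⟨k, a, b, c, d, e⟩ := exists_twist (n := Nat.card G) (T := S.D.T) (r := 2) S.D.p_prime
        hp2 Nat.card_pos.ne' (by omega) hpT h5 hp (by norm_num)
      exact ⟨k, a, b, by rw [c, Nat.mod_eq_of_lt (by omega)], d,
        h30 (by split_ifs at e <;> omega) d⟩
  have t12 : ∀ a, A5.th.θ 1 (a ^ k) = A5.th.θ 2 a := fun a => by
    rw [A5.θ_pow hk30, if_neg (by omega)]; rfl
  have t21 : ∀ a, A5.th.θ 2 (a ^ k) = A5.th.θ 1 a := fun a => by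
    rw [A5.θ_pow hk30, if_neg (by omega)]; rfl
  have g1 : Good S (A5.th.θ 1) := fun a ha => A5.good hT.1 h5 1 (Or.inl rfl) a ha
  have g2 : Good S (A5.th.θ 2) := fun a ha => A5.good hT.1 h5 2 (Or.inr (Or.inl rfl)) a ha
  have s1 : A5.th.s 1 = -1 := by simp [A5.th]
  have s2 : A5.th.s 2 = -1 := by simp [A5.th]
  -- the two rows `s₁`, `s₂` are equal
  obtain ⟨i', -, hX, hpi⟩ := Tb.exists_pw_row hk hkns pat7_01 1
  rw [pat7_image i' hpi] at hX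
  have hr : ∀ i : Fin 5, i = 1 ∨ i = 2 → Good S (A5.th.θ i) →
      ∀ c, Tb.nuC X A5.th μ i c = -(A5.th.s i) * P7 1 c := by
    intro i hi12 hi
    have hs : A5.th.s i = 1 ∨ A5.th.s i = -1 := by
      rcases hi12 with rfl | rfl
      exacts [Or.inr s1, Or.inr s2]
    obtain ⟨a, ha⟩ := Tb.opts7 X A5.th hμ hi hs (by rcases hi12 with rfl | rfl <;> decide)
    rcases (show a = 0 ∨ a = 1 by omega) with rfl | rfl
    · exfalso
      obtain ⟨-, E⟩ := Tb.eq_ss hna X A5.th hμ hi hs ha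
      rw [hX, uv_zero, mul_zero] at E
      refine mul_ne_zero S.KQ_ne ?_ E.symm
      rcases hi12 with rfl | rfl <;> simp [A5.th]
    · exact ha
  have e1 := hr 1 (Or.inl rfl) g1
  have e2 := hr 2 (Or.inr rfl) g2
  have n1 := Tb.out_r X A5.th hμ g1 (Or.inr s1) e1
  have n2 := Tb.out_r X A5.th hμ g2 (Or.inr s2) e2
  have n12 := Tb.out_rr X A5.th hμ g1 g2 (by decide) e1 e2
  rw [s1, s2] at n12
  obtain ⟨F, hF, G', hG, H, hH, hFG, hFH, hGH, vF, vG, vH, hgF, hfz, hgz⟩ :=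
    exists_shared n1 n2 n12 (by norm_num)
  -- the power map sends the constituents of one to those of the other
  have hmem : ∀ χ ∈ Tb.out, pw hk χ ∈ Tb.out := fun χ hχ =>
    Tb.mem_out.2 (Tb.pw_not_row hk hkns (Tb.mem_out.1 hχ))
  have hmove : ∀ χ, X.mC (A5.th.θ 2) μ (pw hk χ) = X.mC (A5.th.θ 1) μ χ := fun χ =>
    X.mC_pow hk hkT (A5.th.gen 1) (A5.th.gen 2) t12 μ rfl
  have himg : ∀ χ ∈ Tb.out, X.mC (A5.th.θ 1) μ χ ≠ 0 → pw hk χ = F ∨ pw hk χ = H := by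
    intro χ hχ hne
    by_contra hc
    push Not at hc
    exact hne (by rw [← hmove]; exact hgz _ (hmem χ hχ) hc.1 hc.2)
  have hF0 : X.mC (A5.th.θ 1) μ F ≠ 0 := by rcases vF with e | e <;> rw [e] <;> norm_num
  have hG0 : X.mC (A5.th.θ 1) μ G' ≠ 0 := by rcases vG with e | e <;> rw [e] <;> norm_num
  have hσF : pw hk F = H := (himg F hF hF0).resolve_left fun e => by
    have h := hmove F
    rw [e, hgF] at h
    omega
  have hσG : pw hk G' = F := (himg G' hG hG0).resolve_right fun e =>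
    hFG (pw_injective hk (hσF.trans e.symm))
  have hfG : X.mC (A5.th.θ 1) μ G' = -X.mC (A5.th.θ 1) μ F := by
    rw [← hmove, hσG, hgF]; ring
  have ht := Tb.out_tval X A5.th hμ 1
  rw [sum_pair_vec (fun χ : IrrCharacter G => (χ : G → ℂ) S.t) hF hG hFG hfz, hfG,
    show (F : G → ℂ) S.t = (G' : G → ℂ) S.t by rw [← hσG, pw_t], s1] at ht
  push_cast at ht
  exact S.D.h_ne (Int.cast_injective (α := ℂ) (by push_cast; linear_combination ht / 2))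

/-- The case of `A₄`. -/
theorem Table.false_four7 (X : Core S A4.A₀) (h3 : ¬ 3 ∣ S.D.T) : False := by
  classical
  obtain ⟨μ, hμ⟩ := S.exists_mu
  have hg : ∀ i, Good S (A4.th.θ i) := fun i a ha => A4.good S.D.T_facts.1 h3 i a ha
  have hs : ∀ i, A4.th.s i = 1 ∨ A4.th.s i = -1 := by intro i; fin_cases i <;> simp [A4.th]
  have s3 : A4.th.s 3 = -1 := by simp [A4.th]
  have hN : ((S.C).index : ℂ) ≠ 0 := Nat.cast_ne_zero.2 index_ne_zero_of_finite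
  obtain ⟨a3, e3⟩ := Tb.opts7 X A4.th hμ (hg 3) (hs 3) (by decide)
  rcases (show a3 = 0 ∨ a3 = 1 by omega) with rfl | rfl
  · -- `{s₁, s₂}`
    obtain ⟨hne, E3⟩ := Tb.eq_ss hna X A4.th hμ (hg 3) (hs 3) e3
    rw [show A4.th.Kc 3 = 0 from rfl, Rat.cast_zero, mul_zero,
      show ((A4.th.s 3 : ℤ) : ℂ) = -1 by simp [A4.th], neg_neg, mul_one, mul_eq_zero] at E3
    have hu : Tb.X 1 = Tb.X 2 := by
      refine eq_of_pair_eq S.D.h_ne (Tb.X_ne 1) (Tb.X_ne 2) hne ?_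
      rw [← E3.resolve_left hN]
      push_cast
      ring
    obtain ⟨d0, d1, d2⟩ := Tb.deg7'
    have h45 : Tb.X 5 = Tb.X 4 := by linarith
    have h4 : 2 * Tb.X 4 = -(1 + Tb.X 3) := by linarith
    obtain ⟨hA1, EA⟩ := Tb.eq_one7 hna X A4.th hμ (hg 0) rfl
    have hA2 : Tb.X 3 ≠ -1 := fun e => Tb.X_ne 4 (by omega)
    have e0 := Tb.pair_eq hna 0
    simp [Fin.sum_univ_seven, p7₀, p7₁, p7₂, tval, Tb.X_zero, h45] at e0
    have h4c : (Tb.X 4 : ℂ) = -(1 + (Tb.X 3 : ℂ)) / 2 := by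
      rw [eq_div_iff two_ne_zero]
      exact_mod_cast (show Tb.X 4 * 2 = -(1 + Tb.X 3) by linarith)
    rw [show A4.th.Kc 0 = 1 / 3 by simp [A4.th]] at EA
    push_cast at EA
    refine false_of_ss S.eleven_le (Tb.X_ne 3) hA1 hA2 EA ?_
    rw [← e0, h4c, S.Qc]
    congr 1
    have d2' : (1 : ℂ) + Tb.X 3 ≠ 0 := by exact_mod_cast (by omega : 1 + Tb.X 3 ≠ 0)
    have d3 : (Tb.X 3 : ℂ) + 1 ≠ 0 := by rwa [add_comm]
    have d1' : (Tb.X 3 : ℂ) ≠ 0 := Int.cast_ne_zero.2 (Tb.X_ne 3)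
    field_simp
    ring
  · -- the double row, with a second character of the same pattern
    obtain ⟨j, hj12, ej⟩ : ∃ j : Fin 4, (j = 1 ∨ j = 2) ∧
        ∀ c, Tb.nuC X A4.th μ j c = -(A4.th.s j) * P7 1 c := by
      obtain ⟨a1, e1⟩ := Tb.opts7 X A4.th hμ (hg 1) (hs 1) (by decide)
      obtain ⟨a2, e2⟩ := Tb.opts7 X A4.th hμ (hg 2) (hs 2) (by decide)
      rcases (show a1 = 0 ∨ a1 = 1 by omega) with rfl | rfl
      · rcases (show a2 = 0 ∨ a2 = 1 by omega) with rfl | rfl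
        · exfalso
          have h := Tb.not_meet X A4.th hμ (hg 1) (hg 2) (by decide)
            (by simp only [e1]; decide) (by simp only [e2]; decide)
          simp only [e1, e2] at h
          revert h
          decide
        · exact ⟨2, Or.inr rfl, e2⟩
      · exact ⟨1, Or.inl rfl, e1⟩
    have sj : A4.th.s j = 1 := by rcases hj12 with rfl | rfl <;> simp [A4.th]
    have hj3 : (3 : Fin 4) ≠ j := by rcases hj12 with rfl | rfl <;> decide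
    have n3 := Tb.out_r X A4.th hμ (hg 3) (hs 3) e3
    have nj := Tb.out_r X A4.th hμ (hg j) (hs j) ej
    have n3j := Tb.out_rr X A4.th hμ (hg 3) (hg j) hj3 e3 ej
    rw [s3, sj] at n3j
    obtain ⟨F, hF, G', hG, H, hH, hFG, hFH, -, vF, vG, vH, hgF, hfz, hgz⟩ :=
      exists_shared n3 nj n3j (by norm_num)
    set f3 := X.mC (A4.th.θ 3) μ with hf3
    set fj := X.mC (A4.th.θ j) μ with hfj
    have o3 : ∀ φ : IrrCharacter G → ℂ, ∑ χ ∈ Tb.out, (f3 χ : ℂ) * φ χ =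
        (f3 F : ℂ) * φ F + (f3 G' : ℂ) * φ G' := fun φ => sum_pair_vec φ hF hG hFG hfz
    have oj : ∀ φ : IrrCharacter G → ℂ, ∑ χ ∈ Tb.out, (fj χ : ℂ) * φ χ =
        (fj F : ℂ) * φ F + (fj H : ℂ) * φ H := fun φ => sum_pair_vec φ hF hH hFH hgz
    have a1 := Tb.out_deg X A4.th (μ := μ) 3
    have a2 := Tb.out_tval X A4.th hμ 3
    have a3 := Tb.pair_sum X A4.th hμ hna (hg 3)
    have b1 := Tb.out_deg X A4.th (μ := μ) j
    have b2 := Tb.out_tval X A4.th hμ j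
    have b3 := Tb.pair_sum X A4.th hμ hna (hg j)
    rw [← hf3, o3] at a1 a2 a3
    rw [← hfj, oj, show fj F = f3 F by rw [hgF]; ring] at b1 b2 b3
    simp [e3, s3, Fin.sum_univ_seven, P7, tval, p7₀, p7₁, p7₂,
      show A4.th.Kc 3 = 0 from rfl, hN] at a1 a2 a3
    simp [ej, sj, Fin.sum_univ_seven, P7, tval, p7₀, p7₁, p7₂] at b1 b2 b3
    have hK : (S.D.Q : ℂ) * (S.D.Q - 1) * (S.D.Q + 1) ^ 2 * ((A4.th.Kc j : ℚ) : ℂ) ≠ 0 :=
      mul_ne_zero S.KQ_ne (by rcases hj12 with rfl | rfl <;> simp [A4.th])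
    set φ : ℂ := (f3 F : ℂ) with hφ
    set γ : ℂ := (f3 G' : ℂ) with hγ
    set η : ℂ := (fj H : ℂ) with hη
    have hφ2 : φ * φ = 1 := by rcases vF with e | e <;> rw [hφ, e] <;> norm_num
    have hγ2 : γ * γ = 1 := by rcases vG with e | e <;> rw [hγ, e] <;> norm_num
    have hη2 : η * η = 1 := by rcases vH with e | e <;> rw [hη, e] <;> norm_num
    have cF : (F : G → ℂ) 1 ≠ 0 := F.2.apply_one_ne_zero
    have cG : (G' : G → ℂ) 1 ≠ 0 := G'.2.apply_one_ne_zero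
    have cH : (H : G → ℂ) 1 ≠ 0 := H.2.apply_one_ne_zero
    have cr : (Tb.X 6 : ℂ) ≠ 0 := Int.cast_ne_zero.2 (Tb.X_ne 6)
    have hφ0 : φ ≠ 0 := fun e => by rw [e, zero_mul] at hφ2; exact zero_ne_one hφ2
    have hγ0 : γ ≠ 0 := fun e => by rw [e, zero_mul] at hγ2; exact zero_ne_one hγ2
    have hη0 : η ≠ 0 := fun e => by rw [e, zero_mul] at hη2; exact zero_ne_one hη2
    have key : ∀ (ε : ℂ) (χ : IrrCharacter G), ε * ε = 1 → (χ : G → ℂ) 1 ≠ 0 →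
        ε * ((χ : G → ℂ) S.t ^ 2 / (χ : G → ℂ) 1) =
          (ε * (χ : G → ℂ) S.t) ^ 2 / (ε * (χ : G → ℂ) 1) := fun ε χ hε hχ => by
      have : ε ≠ 0 := fun e => by rw [e, zero_mul] at hε; exact zero_ne_one hε
      field_simp
    rw [key φ F hφ2 cF, key γ G' hγ2 cG] at a3
    rw [key φ F hφ2 cF, key η H hη2 cH] at b3
    -- signed values
    set a := φ * (F : G → ℂ) S.t
    set x := φ * (F : G → ℂ) 1 with hx
    have hx0 : x ≠ 0 := mul_ne_zero hφ0 cF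
    have hy0 : -(Tb.X 6 : ℂ) - x ≠ 0 := fun e => mul_ne_zero hγ0 cG (by linear_combination a1 + e)
    have hz0 : (Tb.X 6 : ℂ) - x ≠ 0 := fun e => mul_ne_zero hη0 cH (by linear_combination b1 + e)
    rw [show γ * (G' : G → ℂ) 1 = -(Tb.X 6 : ℂ) - x by linear_combination a1,
      show γ * (G' : G → ℂ) S.t = -(2 * (S.D.h : ℂ)) - a by linear_combination a2] at a3
    rw [show η * (H : G → ℂ) 1 = (Tb.X 6 : ℂ) - x by linear_combination b1,
      show η * (H : G → ℂ) S.t = 2 * (S.D.h : ℂ) - a by linear_combination b2] at b3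
    have ha : a = 2 * (S.D.h : ℂ) * x / Tb.X 6 := by
      rw [eq_div_iff cr]
      field_simp at a3
      have h2 : (a * (Tb.X 6 : ℂ) - 2 * (S.D.h : ℂ) * x) ^ 2 = 0 := by linear_combination -1 * a3
      exact sub_eq_zero.1 ((pow_eq_zero_iff two_ne_zero).1 h2)
    apply hK
    rw [← b3, ha]
    field_simp
    ring

end Setup

end Cfsg.Lib.Walter8
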