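import Mathlib.Tactic.Ring
import Mathlib.Tactic.Linarith
import Mathlib.Tactic.Positivity
import Mathlib.Tactic.FieldSimp
import Mathlib.Tactic.LinearCombination
import Mathlib.Algebra.Order.Field.Basic
import Mathlib.Data.Rat.Cast.Order

/-!
# The inequality endgame at a fixed torus in characteristic five

With `q = -Q` and `κ = q (q + 1) (q - 1)² / N` the four equations are incompatible: for positive `x`
the first one makes `κ` small, so `A` is negative and small, and the fourth fails; for negative `x`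
the second and fourth give `15/16 < κ < 1`, and the first fails.
-/

set_option autoImplicit false

namespace Cfsg.Lib.Walter8

/-- The case of a positive `x`. -/
theorem false_of_five_pos {q x A B κ : ℚ} (hq : 60 ≤ q) (hκ : 0 < κ) (hx : 1 ≤ x) (hA : A ≤ -1 ∨ 2 ≤ A)
    (hd : B = -1 - x - A)
    (e1 : 5 * (q - 1) ^ 2 * (1 + 1 / x - (q + 1) ^ 2 / (1 + x)) = κ * (6 * q ^ 2 + 13 * q + 1))
    (e2 : 15 * ((A + q) ^ 2 / (A * (A - 1))) = 16 * κ)
    (e4 : (q - 1) * (1 + 1 / x + q ^ 2 / A + q ^ 2 / B) = κ * (q + 1)) : False := by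
  have hx0 : 0 < x := by linarith
  have hsq : 3600 ≤ q ^ 2 := by nlinarith
  -- `x` is large
  have hL : 0 < 1 + 1 / x - (q + 1) ^ 2 / (1 + x) :=
    pos_of_mul_pos_right (e1 ▸ mul_pos hκ (by positivity) :
      0 < 5 * (q - 1) ^ 2 * (1 + 1 / x - (q + 1) ^ 2 / (1 + x))) (by positivity)
  have h1 : (q + 1) ^ 2 * x < (1 + x) ^ 2 := by
    have h := mul_pos hL (mul_pos hx0 (show 0 < 1 + x by linarith))
    have e : (1 + 1 / x - (q + 1) ^ 2 / (1 + x)) * (x * (1 + x)) = (1 + x) ^ 2 - (q + 1) ^ 2 * x := by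
      field_simp; ring
    linarith
  have hxq : q ^ 2 ≤ x := by
    by_contra hlt
    have := mul_lt_mul_of_pos_left (not_le.1 hlt) hx0
    nlinarith
  -- `κ` is small
  have hκ9 : 16 * κ < 15 * (9 / 10) := by
    have h2 : 1 + 1 / x - (q + 1) ^ 2 / (1 + x) ≤ 1 + 1 / 3600 := by
      have : 1 / x ≤ 1 / 3600 := one_div_le_one_div_of_le (by norm_num) (by linarith)
      have : (0 : ℚ) ≤ (q + 1) ^ 2 / (1 + x) := by positivity
      linarith
    have h3 := mul_le_mul_of_nonneg_left h2 (show (0 : ℚ) ≤ 5 * (q - 1) ^ 2 by positivity)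
    rw [e1] at h3
    by_contra hlt
    have := mul_le_mul_of_nonneg_right (not_lt.1 hlt) (show 0 ≤ 6 * q ^ 2 + 13 * q + 1 by positivity)
    nlinarith
  rcases hA with hA | hA
  · have hAA : 0 < A * (A - 1) := mul_pos_of_neg_of_neg (by linarith) (by linarith)
    have h4 : (A + q) ^ 2 < 9 / 10 * (A * (A - 1)) := by
      rw [← div_lt_iff₀ hAA]
      linarith
    have ha : -A < q ^ 2 / 2 := by
      by_contra hlt
      have := mul_le_mul_of_nonneg_right (show 20 * q + 9 ≤ -A by nlinarith) (show 0 ≤ -A by linarith)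
      nlinarith
    have hB : B < 0 := by linarith
    have h5 : q ^ 2 / A < -2 := by
      rw [div_lt_iff_of_neg (by linarith)]
      linarith
    have h6 : q ^ 2 / B ≤ 0 := div_nonpos_of_nonneg_of_nonpos (sq_nonneg q) hB.le
    have h7 : 1 / x ≤ 1 := (div_le_one hx0).2 hx
    have h8 : 0 < κ * (q + 1) := mul_pos hκ (by linarith)
    have h9 : (q - 1) * (1 + 1 / x + q ^ 2 / A + q ^ 2 / B) ≤ 0 :=
      mul_nonpos_of_nonneg_of_nonpos (by linarith) (by linarith)
    linarith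
  · have hAA : 0 < A * (A - 1) := mul_pos (by linarith) (by linarith)
    have h4 : 1 ≤ (A + q) ^ 2 / (A * (A - 1)) := by
      rw [le_div_iff₀ hAA]
      nlinarith
    linarith

/-- The case of a negative `x`. -/
theorem false_of_five_neg {q x A B κ : ℚ} (hq : 60 ≤ q) (hκ : 0 < κ) (hx : x ≤ -2) (hB : B ≤ -1 ∨ 1 ≤ B)
    (hd : A = -1 - x - B)
    (e1 : 5 * (q - 1) ^ 2 * (1 + 1 / x - (q + 1) ^ 2 / (1 + x)) = κ * (6 * q ^ 2 + 13 * q + 1))
    (e2 : 15 * ((A + q) ^ 2 / (A * (A - 1))) = 16 * κ)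
    (e3 : 3 * ((B + q * x) ^ 2 / (x * B * (B - x))) = κ)
    (e4 : (q - 1) * (1 + 1 / x + q ^ 2 / A + q ^ 2 / B) = κ * (q + 1)) : False := by
  have hden : 0 < x * B * (B - x) := by
    by_contra hle
    have := div_nonpos_of_nonneg_of_nonpos (sq_nonneg (B + q * x)) (not_lt.1 hle)
    linarith
  have hB' : B ≤ -1 ∧ x < B := by
    rcases hB with h | h
    · refine ⟨h, ?_⟩
      by_contra hle
      have := mul_nonpos_of_nonneg_of_nonpos (mul_nonneg_of_nonpos_of_nonpos (show x ≤ 0 by linarith)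
        (show B ≤ 0 by linarith)) (sub_nonpos.2 (not_lt.1 hle))
      linarith
    · have := mul_nonpos_of_nonpos_of_nonneg (mul_nonpos_of_nonpos_of_nonneg (show x ≤ 0 by linarith)
        (show 0 ≤ B by linarith)) (show 0 ≤ B - x by linarith)
      linarith
  obtain ⟨hB1, hxB⟩ := hB'
  have hAx : -x ≤ A := by linarith
  have hAA : 0 < A * (A - 1) := mul_pos (by linarith) (by linarith)
  have hlow : 15 < 16 * κ := by
    have h4 : 1 < (A + q) ^ 2 / (A * (A - 1)) := by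
      rw [lt_div_iff₀ hAA]
      nlinarith
    linarith
  have hhigh : κ < 1 := by
    have h5 : q ^ 2 / A + q ^ 2 / B ≤ 0 := by
      have : q ^ 2 / A ≤ q ^ 2 / (-B) := div_le_div_of_nonneg_left (sq_nonneg q) (by linarith) (by linarith)
      rw [div_neg] at this
      linarith
    have h6 : 1 / x ≤ 0 := div_nonpos_of_nonneg_of_nonpos zero_le_one (by linarith)
    have h7 : κ * (q + 1) ≤ (q - 1) * 1 := e4 ▸ mul_le_mul_of_nonneg_left (by linarith) (by linarith)
    by_contra hlt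
    have := mul_le_mul_of_nonneg_right (not_lt.1 hlt) (show 0 ≤ q + 1 by linarith)
    linarith
  have hbig : 12 * q ^ 2 < -x := by
    have h8 : (B + q * x) ^ 2 * 3 < x * B * (B - x) := by
      have : (B + q * x) ^ 2 / (x * B * (B - x)) < 1 / 3 := by linarith
      rw [div_lt_div_iff₀ hden (by norm_num)] at this
      linarith
    have h9 : 4 * (x * B * (B - x)) ≤ -x * x ^ 2 := by
      nlinarith [mul_nonneg (show 0 ≤ -x by linarith) (sq_nonneg (2 * B - x))]
    have h10 : (q * x) ^ 2 ≤ (B + q * x) ^ 2 := by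
      rw [sq_le_sq, abs_of_nonpos (by nlinarith), abs_of_nonpos (by nlinarith)]
      linarith
    by_contra hlt
    have := mul_le_mul_of_nonneg_right (not_lt.1 hlt) (sq_nonneg x)
    nlinarith
  have hsq : 3600 ≤ q ^ 2 := by nlinarith
  have hsmall : 1 + 1 / x - (q + 1) ^ 2 / (1 + x) ≤ 11 / 10 := by
    have h6 : 1 / x ≤ 0 := div_nonpos_of_nonneg_of_nonpos zero_le_one (by linarith)
    have h11 : (q + 1) ^ 2 / (-(1 + x)) ≤ 1 / 10 := by
      rw [div_le_div_iff₀ (by linarith) (by norm_num)]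
      nlinarith
    rw [div_neg] at h11
    linarith
  have h12 := mul_le_mul_of_nonneg_left hsmall (show (0 : ℚ) ≤ 5 * (q - 1) ^ 2 by positivity)
  rw [e1] at h12
  have := mul_le_mul_of_nonneg_right (show 15 / 16 ≤ κ by linarith) (show 0 ≤ 6 * q ^ 2 + 13 * q + 1 by positivity)
  nlinarith

/-- The equations at a fixed torus for `p = 5` and negative `Q` have no solution. -/
theorem false_of_five {Q x A B : ℤ} {N : ℚ} (hQ : Q ≤ -60) (hN : 0 < N) (hx : x ≠ 0) (hx1 : 1 + x ≠ 0)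
    (hA : A ≠ 0) (hA1 : A ≠ 1) (hB : B ≠ 0) (hBx : B ≠ x) (hd : 1 + x + A + B = 0)
    (e1 : N * (1 + 1/(x:ℚ) - ((Q:ℚ)-1)^2/(1+x)) = Q*(Q-1)*(6*Q^2-13*Q+1)/5)
    (e2 : N * (((A:ℚ)-Q)^2/(A*(A-1))) = 16/15*(Q*(Q-1)*(Q+1)^2))
    (e3 : N * (((B:ℚ)-Q*x)^2/(x*B*(B-x))) = 1/3*(Q*(Q-1)*(Q+1)^2))
    (e4 : N * (1 + 1/(x:ℚ) + (Q:ℚ)^2/A + (Q:ℚ)^2/B) = Q*(Q-1)^2*(Q+1)) : False := by
  have := hBx
  obtain ⟨q, hq, hQq⟩ : ∃ q : ℚ, 60 ≤ q ∧ (Q : ℚ) = -q :=
    ⟨-(Q : ℚ), by exact_mod_cast (show (60 : ℤ) ≤ -Q by omega), (neg_neg _).symm⟩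
  rw [hQq] at e1 e2 e3 e4
  obtain ⟨κ, hκ⟩ : ∃ κ : ℚ, N * κ = q * (q + 1) * (q - 1) ^ 2 :=
    ⟨q * (q + 1) * (q - 1) ^ 2 / N, mul_div_cancel₀ _ hN.ne'⟩
  have hκ0 : 0 < κ := pos_of_mul_pos_right (hκ ▸ (by
    have : 0 < q - 1 := by linarith
    positivity) : 0 < N * κ) hN.le
  have hd' : (B : ℚ) = -1 - x - A := by exact_mod_cast (show B = -1 - x - A by omega)
  have f1 : 5 * (q - 1) ^ 2 * (1 + 1 / (x : ℚ) - (q + 1) ^ 2 / (1 + x)) = κ * (6 * q ^ 2 + 13 * q + 1) := by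
    refine mul_left_cancel₀ hN.ne' ?_
    linear_combination (5 * (q - 1) ^ 2) * e1 - (6 * q ^ 2 + 13 * q + 1) * hκ
  have f2 : 15 * (((A : ℚ) + q) ^ 2 / (A * (A - 1))) = 16 * κ := by
    refine mul_left_cancel₀ hN.ne' ?_
    linear_combination 15 * e2 - 16 * hκ
  have f3 : 3 * (((B : ℚ) + q * x) ^ 2 / (x * B * (B - x))) = κ := by
    refine mul_left_cancel₀ hN.ne' ?_
    linear_combination 3 * e3 - hκ
  have f4 : (q - 1) * (1 + 1 / (x : ℚ) + q ^ 2 / A + q ^ 2 / B) = κ * (q + 1) := by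
    refine mul_left_cancel₀ hN.ne' ?_
    linear_combination (q - 1) * e4 - (q + 1) * hκ
  rcases lt_or_gt_of_ne hx with hlt | hgt
  · refine false_of_five_neg hq hκ0 (by exact_mod_cast (show x ≤ -2 by omega)) ?_ (by linarith) f1 f2 f3 f4
    rcases lt_or_gt_of_ne hB with h | h
    · exact Or.inl (by exact_mod_cast (show B ≤ -1 by omega))
    · exact Or.inr (by exact_mod_cast (show 1 ≤ B by omega))
  · refine false_of_five_pos hq hκ0 (by exact_mod_cast (show 1 ≤ x by omega)) ?_ hd' f1 f2 f4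
    rcases (show A ≤ -1 ∨ 2 ≤ A by omega) with h | h
    · exact Or.inl (by exact_mod_cast h)
    · exact Or.inr (by exact_mod_cast h)

end Cfsg.Lib.Walter8
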