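import Cfsg.Agent.Lib.Walter8.TrivRows
import Cfsg.Agent.Lib.Walter8.Moves8
import Cfsg.Agent.Lib.Walter8.Galois
import Cfsg.Agent.Lib.Walter8.TrivEnd

/-!
# Eight rows, the rotation fixing the torus

The patterns of the characters nonzero at the involutions are disjoint.  For `A₄` the equations
then have no solution; for `A₅` the power maps force `p = 5` and an inequality finishes.
-/

set_option autoImplicit false
set_option linter.unusedSectionVars false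
set_option linter.style.haveILetI false
set_option linter.unusedSimpArgs false

namespace Cfsg.Lib.Walter8

open Subgroup Cfsg Cfsg.Lib.Char
open scoped ComplexConjugate

universe u

/-- The patterns: `{x, A}`, `{x, B}`, four pairs `{u, v}`, and the two of the trivial character. -/
def P8 : Fin 8 → Fin 8 → ℤ :=
  ![![0, -1, 0, 0, 0, 0, 1, 0], ![0, -1, 0, 0, 0, 0, 0, 1], ![0, 0, 1, 0, 1, 0, 0, 0],
    ![0, 0, 1, 0, 0, 1, 0, 0], ![0, 0, 0, 1, 1, 0, 0, 0], ![0, 0, 0, 1, 0, 1, 0, 0],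
    ![-1, 0, 0, 0, 0, 0, 1, 0], ![-1, 0, 0, 0, 0, 0, 0, 1]]

theorem P8_norm : ∀ a, ∑ k, P8 a k * P8 a k = 2 := by decide

theorem P8_nonneg : ∀ a b, 0 ≤ ∑ k, P8 a k * P8 b k := by decide

theorem pat8_01 : ∀ j k, pat8 j k = 0 ∨ pat8 j k = 1 := by decide

theorem pat8_image : ∀ i i' : Fin 8, (i = 2 ∨ i = 3) →
    (∀ j, pat8 (Equiv.swap 1 2 j) i' = pat8 j i) → i' = 4 ∨ i' = 5 := by decide

theorem pat8_image' : ∀ i i' : Fin 8, (i = 4 ∨ i = 5) →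
    (∀ j, pat8 (Equiv.swap 1 2 j) i' = pat8 j i) → i' = 2 ∨ i' = 3 := by decide

/-- The trivial character on the rows. -/
theorem options8_one {x u u' v v' A B : ℤ} (c0 : x + A + B = -1) (c1 : u + u' + A + B = -1)
    (c2 : v + v' + A + B = -1)
    (hM : x * x + u * u + u' * u' + v * v + v' * v' + A * A + B * B ≤ 1) :
    x = 0 ∧ u = 0 ∧ u' = 0 ∧ v = 0 ∧ v' = 0 ∧ ((A = -1 ∧ B = 0) ∨ (A = 0 ∧ B = -1)) := by
  rcases bound_one (a := A) (by nlinarith) with rfl | rfl | rfl <;>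
    rcases bound_one (a := B) (by nlinarith) with rfl | rfl | rfl <;>
    rcases bound_one (a := u) (by nlinarith) with rfl | rfl | rfl <;>
    rcases bound_one (a := v) (by nlinarith) with rfl | rfl | rfl <;>
    first
      | omega
      | (exfalso; nlinarith)

namespace Setup

variable {G L : Type u} [Group G] [Group L] [Fintype G] [IsSimpleGroup G] {S : Setup G L}

variable (Tb : Table S pat8) (hna : ¬ IsMulCommutative G)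

theorem Table.deg8' : 1 + Tb.X 1 + Tb.X 6 + Tb.X 7 = 0 ∧
    Tb.X 2 + Tb.X 3 + Tb.X 6 + Tb.X 7 = 0 ∧ Tb.X 4 + Tb.X 5 + Tb.X 6 + Tb.X 7 = 0 := by
  have e := Tb.degree_eq
  refine ⟨?_, ?_, ?_⟩
  · have e0 := e 0
    simp [Fin.sum_univ_eight, p8₀, p8₁, p8₂, Tb.X_zero] at e0
    linarith
  · have e0 := e 1
    simp [Fin.sum_univ_eight, p8₀, p8₁, p8₂] at e0
    linarith
  · have e0 := e 2
    simp [Fin.sum_univ_eight, p8₀, p8₁, p8₂] at e0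
    linarith

include hna in
theorem Table.pair8' :
    ((S.C).index : ℂ) * (1 + 1 / (Tb.X 1 : ℂ) + (S.D.Q : ℂ) ^ 2 / Tb.X 6 +
        (S.D.Q : ℂ) ^ 2 / Tb.X 7) = (S.D.Q : ℂ) * (S.D.Q - 1) ^ 2 * (S.D.Q + 1) ∧
      ((S.C).index : ℂ) * ((S.D.h : ℂ) ^ 2 / Tb.X 2 + (S.D.h : ℂ) ^ 2 / Tb.X 3 +
        (S.D.Q : ℂ) ^ 2 / Tb.X 6 + (S.D.Q : ℂ) ^ 2 / Tb.X 7) =
        (S.D.Q : ℂ) * (S.D.Q - 1) * (3 * S.D.Q - 1) := by
  refine ⟨?_, ?_⟩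
  · have e0 := Tb.pair_eq hna 0
    simp [Fin.sum_univ_eight, p8₀, p8₁, p8₂, tval, Tb.X_zero] at e0
    rw [S.Qc] at e0 ⊢
    linear_combination e0
  · have e0 := Tb.pair_eq hna 1
    simp [Fin.sum_univ_eight, p8₀, p8₁, p8₂, tval] at e0
    rw [S.Qc] at e0 ⊢
    linear_combination e0

section Patterns

variable {A₀ : Type} [Group A₀] [Fintype A₀] [DecidableEq A₀] {r : ℕ} [NeZero r]
  (X : Core S A₀) (Wt : Th A₀ r) {μ : S.Tsub →* ℂˣ} (hμ : μ ≠ 1)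
include hμ

/-- The patterns on the rows. -/
theorem Table.opts8 {i : Fin r} (hi : Good S (Wt.θ i)) (hs : Wt.s i = 1 ∨ Wt.s i = -1)
    (h0 : i = 0 → Wt.s i = 1) :
    ∃ a : Fin 8, (i = 0 ↔ (a = 6 ∨ a = 7)) ∧ ∀ k, Tb.nuC X Wt μ i k = -(Wt.s i) * P8 a k := by
  have c0 := Tb.nuC_col X Wt hμ i 0
  have c1 := Tb.nuC_col X Wt hμ i 1
  have c2 := Tb.nuC_col X Wt hμ i 2
  have hM := Tb.norm_le_two X Wt hμ hi (by omega)
  have hz := Tb.nuC_zero X Wt hμ i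
  simp [Fin.sum_univ_eight, p8₀, p8₁, p8₂, hz] at c0 c1 c2 hM
  by_cases hi0 : i = 0
  · subst hi0
    rw [h0 rfl] at c1 c2 ⊢
    simp at c0 c1 c2 hM hz
    obtain ⟨e1, e2, e3, e4, e5, ⟨e6, e7⟩ | ⟨e6, e7⟩⟩ := options8_one (x := Tb.nuC X Wt μ 0 1)
      (u := Tb.nuC X Wt μ 0 2) (u' := Tb.nuC X Wt μ 0 3) (v := Tb.nuC X Wt μ 0 4)
      (v' := Tb.nuC X Wt μ 0 5) (A := Tb.nuC X Wt μ 0 6) (B := Tb.nuC X Wt μ 0 7)
      (by linarith) (by linarith) (by linarith) (by linarith)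
    · exact ⟨6, by simp, fun k => by fin_cases k <;> simp [P8, hz, e1, e2, e3, e4, e5, e6, e7]⟩
    · exact ⟨7, by simp, fun k => by fin_cases k <;> simp [P8, hz, e1, e2, e3, e4, e5, e6, e7]⟩
  · simp only [hi0, if_false] at hz c0 c1 c2 hM
    have hsq : Wt.s i * Wt.s i = 1 := by rcases hs with e | e <;> rw [e] <;> norm_num
    have key : ∀ a : Fin 8, a ≠ 6 → a ≠ 7 → (∀ k, -(Wt.s i) * Tb.nuC X Wt μ i k = P8 a k) →
        ∃ a : Fin 8, (i = 0 ↔ (a = 6 ∨ a = 7)) ∧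
          ∀ k, Tb.nuC X Wt μ i k = -(Wt.s i) * P8 a k := fun a h6 h7 h =>
      ⟨a, iff_of_false hi0 (by rintro (e | e) <;> contradiction), fun k => by
        rw [← h k]; linear_combination -(Tb.nuC X Wt μ i k) * hsq⟩
    have e0 : -(Wt.s i) * Tb.nuC X Wt μ i 0 = 0 := by rw [hz, mul_zero]
    rcases options8 (x := -(Wt.s i) * Tb.nuC X Wt μ i 1) (u := -(Wt.s i) * Tb.nuC X Wt μ i 2)
      (u' := -(Wt.s i) * Tb.nuC X Wt μ i 3) (v := -(Wt.s i) * Tb.nuC X Wt μ i 4)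
      (v' := -(Wt.s i) * Tb.nuC X Wt μ i 5) (A := -(Wt.s i) * Tb.nuC X Wt μ i 6)
      (B := -(Wt.s i) * Tb.nuC X Wt μ i 7)
      (by linear_combination (-(Wt.s i)) * c0) (by linear_combination (-(Wt.s i)) * c1 + hsq)
      (by linear_combination (-(Wt.s i)) * c2 + hsq)
      (by rcases hs with e | e <;> rw [e] <;> nlinarith [hM]) with
      ⟨e1, e2, e3, e4, e5, ⟨e6, e7⟩ | ⟨e6, e7⟩⟩ | ⟨e1, e6, e7, hu, hv⟩
    · exact key 0 (by decide) (by decide) fun k => by fin_cases k <;> assumption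
    · exact key 1 (by decide) (by decide) fun k => by fin_cases k <;> assumption
    · rcases hu with ⟨e2, e3⟩ | ⟨e2, e3⟩ <;> rcases hv with ⟨e4, e5⟩ | ⟨e4, e5⟩
      · exact key 2 (by decide) (by decide) fun k => by fin_cases k <;> assumption
      · exact key 3 (by decide) (by decide) fun k => by fin_cases k <;> assumption
      · exact key 4 (by decide) (by decide) fun k => by fin_cases k <;> assumption
      · exact key 5 (by decide) (by decide) fun k => by fin_cases k <;> assumption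

/-- The patterns are disjoint. -/
theorem Table.disjoint8 {i j : Fin r} (hi : Good S (Wt.θ i)) (hj : Good S (Wt.θ j)) (hij : i ≠ j)
    (hsi : Wt.s i = 1 ∨ Wt.s i = -1) (hsj : Wt.s j = 1 ∨ Wt.s j = -1) {a b : Fin 8}
    (ha : ∀ k, Tb.nuC X Wt μ i k = -(Wt.s i) * P8 a k)
    (hb : ∀ k, Tb.nuC X Wt μ j k = -(Wt.s j) * P8 b k) : ∑ k, P8 a k * P8 b k = 0 := by
  have hi2 : Wt.s i * Wt.s i = 1 := by rcases hsi with e | e <;> rw [e] <;> norm_num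
  have hj2 : Wt.s j * Wt.s j = 1 := by rcases hsj with e | e <;> rw [e] <;> norm_num
  have n2 : ∀ (c : Fin 8) (σ : ℤ), σ * σ = 1 → ∑ k, (-σ * P8 c k) * (-σ * P8 c k) = 2 := by
    intro c σ hσ
    rw [Finset.sum_congr rfl fun k _ => show (-σ * P8 c k) * (-σ * P8 c k) = P8 c k * P8 c k by
      linear_combination (P8 c k * P8 c k) * hσ, P8_norm]
  have h := Tb.not_meet X Wt hμ hi hj hij (by simp only [ha]; exact n2 a _ hi2)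
    (by simp only [hb]; exact n2 b _ hj2)
  simp only [ha, hb] at h
  rw [Finset.sum_congr rfl fun k _ => show -Wt.s i * P8 a k * (-Wt.s j * P8 b k) =
      Wt.s i * Wt.s j * (P8 a k * P8 b k) by ring, ← Finset.mul_sum,
    show Wt.s i * Wt.s j * (∑ k, P8 a k * P8 b k) * (Wt.s i * Wt.s j) =
      ∑ k, P8 a k * P8 b k by
        linear_combination (∑ k, P8 a k * P8 b k) * (Wt.s i * Wt.s i) * hj2 +
          (∑ k, P8 a k * P8 b k) * hi2] at h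
  have := P8_nonneg a b
  omega

include hna

/-- The equation of a pair `{u, v}`. -/
theorem Table.eq_uv {i : Fin r} (hi : Good S (Wt.θ i)) (hs : Wt.s i = 1 ∨ Wt.s i = -1)
    {a : Fin 8} {u v : Fin 8} (ha : ∀ k, Tb.nuC X Wt μ i k = -(Wt.s i) * P8 a k)
    (huv : (a = 2 ∧ u = 2 ∧ v = 4) ∨ (a = 5 ∧ u = 3 ∧ v = 5)) :
    ((S.C).index : ℂ) * (-(Wt.s i : ℂ)) * ((S.D.h : ℂ) ^ 2 / Tb.X u + (S.D.h : ℂ) ^ 2 / Tb.X v -
        (2 * (S.D.h : ℂ)) ^ 2 / ((Tb.X u : ℂ) + Tb.X v)) =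
      (S.D.Q : ℂ) * (S.D.Q - 1) * (S.D.Q + 1) ^ 2 * (Wt.Kc i : ℂ) := by
  have h1 : ∑ k, Tb.nuC X Wt μ i k * Tb.nuC X Wt μ i k = 2 := by
    simp only [ha]
    rcases hs with e | e <;> rw [e] <;> rcases huv with ⟨rfl, -⟩ | ⟨rfl, -⟩ <;> decide
  obtain ⟨-, h⟩ := Tb.pair_single X Wt hμ hna hi h1
  rw [← h]
  rcases huv with ⟨rfl, rfl, rfl⟩ | ⟨rfl, rfl, rfl⟩ <;>
    simp [ha, Fin.sum_univ_eight, P8, tval, p8₀, p8₁, p8₂] <;>
    rcases hs with e | e <;> rw [e] <;> push_cast <;>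
    simp only [one_mul, mul_one, neg_mul, mul_neg, neg_neg, neg_sq, ← neg_add, div_neg] <;> ring

/-- The equation of the trivial character with pattern `{1, A}`. -/
theorem Table.eq_one8 (hi : Good S (Wt.θ 0)) (hs : Wt.s 0 = 1)
    (ha : ∀ k, Tb.nuC X Wt μ 0 k = -(Wt.s 0) * P8 6 k) : Tb.X 6 ≠ 1 ∧
    ((S.C).index : ℂ) * (((Tb.X 6 : ℂ) - S.D.Q) ^ 2 / ((Tb.X 6 : ℂ) * ((Tb.X 6 : ℂ) - 1))) =
      (S.D.Q : ℂ) * (S.D.Q - 1) * (S.D.Q + 1) ^ 2 * (Wt.Kc 0 : ℂ) := by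
  have h1 : ∑ k, Tb.nuC X Wt μ 0 k * Tb.nuC X Wt μ 0 k = 2 := by
    simp only [ha]; rw [hs]; decide
  obtain ⟨h0, h⟩ := Tb.pair_single X Wt hμ hna hi h1
  simp [ha, hs, Fin.sum_univ_eight, P8, tval, p8₀, p8₁, p8₂, Tb.X_zero] at h0 h
  have hA1 : Tb.X 6 ≠ 1 := fun e => h0 (by rw [e]; norm_num)
  refine ⟨hA1, ?_⟩
  rw [← h]
  congr 1
  have c1 : (Tb.X 6 : ℂ) - 1 ≠ 0 := sub_ne_zero.2 (by exact_mod_cast hA1)
  have c2 : (1 : ℂ) - Tb.X 6 ≠ 0 := sub_ne_zero.2 (by exact_mod_cast hA1.symm)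
  have c3 : (Tb.X 6 : ℂ) ≠ 0 := Int.cast_ne_zero.2 (Tb.X_ne 6)
  have c4 : (1 : ℂ) + -(Tb.X 6 : ℂ) ≠ 0 := by rwa [← sub_eq_add_neg]
  have c7 : -(Tb.X 6 : ℂ) + 1 ≠ 0 := by rwa [add_comm, ← sub_eq_add_neg]
  rw [S.Qc]
  field_simp
  ring

/-- The equation of the pattern `{x, B}`. -/
theorem Table.eq_xB {i : Fin r} (hi : Good S (Wt.θ i)) (hs : Wt.s i = 1 ∨ Wt.s i = -1)
    (ha : ∀ k, Tb.nuC X Wt μ i k = -(Wt.s i) * P8 1 k) : Tb.X 7 ≠ Tb.X 1 ∧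
    ((S.C).index : ℂ) * ((Wt.s i : ℂ) * (((Tb.X 7 : ℂ) - S.D.Q * Tb.X 1) ^ 2 /
        ((Tb.X 1 : ℂ) * Tb.X 7 * ((Tb.X 7 : ℂ) - Tb.X 1)))) =
      (S.D.Q : ℂ) * (S.D.Q - 1) * (S.D.Q + 1) ^ 2 * (Wt.Kc i : ℂ) := by
  have h1 : ∑ k, Tb.nuC X Wt μ i k * Tb.nuC X Wt μ i k = 2 := by
    simp only [ha]; rcases hs with e | e <;> rw [e] <;> decide
  obtain ⟨h0, h⟩ := Tb.pair_single X Wt hμ hna hi h1
  simp [ha, Fin.sum_univ_eight, P8, tval, p8₀, p8₁, p8₂] at h0 h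
  have hBx : Tb.X 7 ≠ Tb.X 1 := fun e => h0 (by rw [e]; ring)
  refine ⟨hBx, ?_⟩
  rw [← h]
  congr 1
  have c1 : (Tb.X 7 : ℂ) - Tb.X 1 ≠ 0 := sub_ne_zero.2 (by exact_mod_cast hBx)
  have c2 : (Tb.X 1 : ℂ) - Tb.X 7 ≠ 0 := sub_ne_zero.2 (by exact_mod_cast hBx.symm)
  have c3 : (Tb.X 7 : ℂ) ≠ 0 := Int.cast_ne_zero.2 (Tb.X_ne 7)
  have c4 : (Tb.X 1 : ℂ) ≠ 0 := Int.cast_ne_zero.2 (Tb.X_ne 1)
  have c5 : -(Tb.X 1 : ℂ) + Tb.X 7 ≠ 0 := by rwa [neg_add_eq_sub]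
  have c6 : (Tb.X 1 : ℂ) + -(Tb.X 7 : ℂ) ≠ 0 := by rwa [← sub_eq_add_neg]
  have c7 : -(Tb.X 7 : ℂ) + Tb.X 1 ≠ 0 := by rwa [neg_add_eq_sub]
  have c8 : (Tb.X 7 : ℂ) + -(Tb.X 1 : ℂ) ≠ 0 := by rwa [← sub_eq_add_neg]
  rw [S.Qc]
  rcases hs with e | e <;> rw [e] <;> push_cast <;>
    simp only [one_mul, mul_one, neg_mul, mul_neg, neg_neg, neg_sq] <;> field_simp <;> ring

/-- A row meeting a pattern goes to a row meeting the image pattern. -/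
theorem Table.nuC_pw {k : ℕ} (hk : k.Coprime (Nat.card G)) (hkT : k % S.D.T = 1) {i j : Fin r}
    (e : ∀ a, Wt.θ i (a ^ k) = Wt.θ j a) {c c' : Fin 8} (hc : Tb.e c' = pw hk (Tb.e c))
    (h : Tb.nuC X Wt μ i c ≠ 0) : Tb.nuC X Wt μ j c' ≠ 0 := by
  have hm : X.mC (Wt.θ j) μ (Tb.e c') = X.mC (Wt.θ i) μ (Tb.e c) := by
    rw [hc]
    exact X.mC_pow hk hkT (Wt.gen i) (Wt.gen j) e μ rfl
  rw [Table.nuC] at h ⊢
  rw [hm]
  exact mul_ne_zero (by rcases Tb.sign c' with e | e <;> rw [e] <;> norm_num) (right_ne_zero_of_mul h)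

end Patterns

include Tb hna

/-- The case of `A₄`. -/
theorem Table.false_four8 (X : Core S A4.A₀) (h3 : ¬ 3 ∣ S.D.T) : False := by
  obtain ⟨μ, hμ⟩ := S.exists_mu
  have hg : ∀ i, Good S (A4.th.θ i) := fun i a ha => A4.good S.D.T_facts.1 h3 i a ha
  have hs : ∀ i, A4.th.s i = 1 ∨ A4.th.s i = -1 := by intro i; fin_cases i <;> simp [A4.th]
  have h0 : ∀ i : Fin 4, i = 0 → A4.th.s i = 1 := fun i h => by subst h; rfl
  have hK : (S.D.Q : ℂ) * (S.D.Q - 1) * (S.D.Q + 1) ^ 2 * ((A4.th.Kc 1 : ℚ) : ℂ) ≠ 0 ∧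
      (S.D.Q : ℂ) * (S.D.Q - 1) * (S.D.Q + 1) ^ 2 * ((A4.th.Kc 2 : ℚ) : ℂ) ≠ 0 :=
    ⟨mul_ne_zero S.KQ_ne (by simp [A4.th]), mul_ne_zero S.KQ_ne (by simp [A4.th])⟩
  -- reduce to the pattern `{1, A}`
  obtain ⟨Tb, hone⟩ : ∃ Tb : Table S pat8,
      ∀ k, Tb.nuC X A4.th μ 0 k = -(A4.th.s 0) * P8 6 k := by
    obtain ⟨a, ha, e⟩ := Tb.opts8 X A4.th hμ (hg 0) (hs 0) (h0 0)
    rcases ha.1 rfl with rfl | rfl
    · exact ⟨Tb, e⟩
    · refine ⟨Tb.perm (Equiv.swap 6 7) (by decide) (by decide), fun k => ?_⟩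
      show Tb.nuC X A4.th μ 0 (Equiv.swap 6 7 k) = _
      rw [e]
      revert k
      decide
  obtain ⟨a1, i1, e1⟩ := Tb.opts8 X A4.th hμ (hg 1) (hs 1) (h0 1)
  obtain ⟨a2, i2, e2⟩ := Tb.opts8 X A4.th hμ (hg 2) (hs 2) (h0 2)
  obtain ⟨a3, i3, e3⟩ := Tb.opts8 X A4.th hμ (hg 3) (hs 3) (h0 3)
  have d01 := Tb.disjoint8 X A4.th hμ (hg 0) (hg 1) (by decide) (hs 0) (hs 1) hone e1
  have d02 := Tb.disjoint8 X A4.th hμ (hg 0) (hg 2) (by decide) (hs 0) (hs 2) hone e2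
  have d03 := Tb.disjoint8 X A4.th hμ (hg 0) (hg 3) (by decide) (hs 0) (hs 3) hone e3
  have d12 := Tb.disjoint8 X A4.th hμ (hg 1) (hg 2) (by decide) (hs 1) (hs 2) e1 e2
  have d13 := Tb.disjoint8 X A4.th hμ (hg 1) (hg 3) (by decide) (hs 1) (hs 3) e1 e3
  have d23 := Tb.disjoint8 X A4.th hμ (hg 2) (hg 3) (by decide) (hs 2) (hs 3) e2 e3
  have n1 : ¬ (a1 = 6 ∨ a1 = 7) := fun h => absurd (i1.2 h) (by decide)
  have n2 : ¬ (a2 = 6 ∨ a2 = 7) := fun h => absurd (i2.2 h) (by decide)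
  have n3 : ¬ (a3 = 6 ∨ a3 = 7) := fun h => absurd (i3.2 h) (by decide)
  have key : ∀ a1 a2 a3 : Fin 8, ∑ k, P8 6 k * P8 a1 k = 0 → ∑ k, P8 6 k * P8 a2 k = 0 →
      ∑ k, P8 6 k * P8 a3 k = 0 → ∑ k, P8 a1 k * P8 a2 k = 0 → ∑ k, P8 a1 k * P8 a3 k = 0 →
      ∑ k, P8 a2 k * P8 a3 k = 0 → ¬ (a1 = 6 ∨ a1 = 7) → ¬ (a2 = 6 ∨ a2 = 7) →
      ¬ (a3 = 6 ∨ a3 = 7) →
      a3 = 1 ∨ ((a3 = 2 ∧ (a1 = 5 ∨ a2 = 5)) ∨ (a3 = 3 ∧ (a1 = 4 ∨ a2 = 4)) ∨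
        (a3 = 4 ∧ (a1 = 3 ∨ a2 = 3)) ∨ (a3 = 5 ∧ (a1 = 2 ∨ a2 = 2))) := by decide
  rcases key a1 a2 a3 d01 d02 d03 d12 d13 d23 n1 n2 n3 with rfl | hq
  · -- `θ₃ = {x, B}`
    obtain ⟨hA1, eA⟩ := Tb.eq_one8 hna X A4.th hμ (hg 0) rfl hone
    obtain ⟨hBx, eB⟩ := Tb.eq_xB hna X A4.th hμ (hg 3) (hs 3) e3
    obtain ⟨d0, -, -⟩ := Tb.deg8'
    obtain ⟨e0, -⟩ := Tb.pair8' hna
    have hN : ((S.C).index : ℂ) ≠ 0 := Nat.cast_ne_zero.2 index_ne_zero_of_finite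
    have cBx : (Tb.X 7 : ℂ) - Tb.X 1 ≠ 0 := sub_ne_zero.2 (by exact_mod_cast hBx)
    have c1 : (Tb.X 1 : ℂ) ≠ 0 := Int.cast_ne_zero.2 (Tb.X_ne 1)
    have c6 : (Tb.X 6 : ℂ) ≠ 0 := Int.cast_ne_zero.2 (Tb.X_ne 6)
    have c7 : (Tb.X 7 : ℂ) ≠ 0 := Int.cast_ne_zero.2 (Tb.X_ne 7)
    have hBQ : Tb.X 7 = S.D.Q * Tb.X 1 := by
      rw [show A4.th.Kc 3 = 0 from rfl, Rat.cast_zero, mul_zero, mul_eq_zero] at eB
      have h2 := eB.resolve_left hN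
      rw [show ((A4.th.s 3 : ℤ) : ℂ) = -1 by simp [A4.th], neg_one_mul, neg_eq_zero,
        div_eq_zero_iff] at h2
      have h3 := h2.resolve_right (mul_ne_zero (mul_ne_zero c1 c7) cBx)
      rw [pow_eq_zero_iff two_ne_zero, sub_eq_zero] at h3
      exact_mod_cast h3
    have hA : Tb.X 1 * (S.D.Q + 1) = -(1 + Tb.X 6) := by rw [hBQ] at d0; linarith
    rw [show A4.th.Kc 0 = 1 / 3 from rfl] at eA
    have cA1 : (Tb.X 6 : ℂ) - 1 ≠ 0 := sub_ne_zero.2 (by exact_mod_cast hA1)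
    have hQ11 := S.eleven_le
    have cQ : (S.D.Q : ℂ) + 1 ≠ 0 := by
      have : S.D.Q + 1 ≠ 0 := by rcases abs_cases S.D.Q with ⟨e, -⟩ | ⟨e, -⟩ <;> omega
      exact_mod_cast this
    have cQ0 : (S.D.Q : ℂ) ≠ 0 := by
      have : S.D.Q ≠ 0 := by rcases abs_cases S.D.Q with ⟨e, -⟩ | ⟨e, -⟩ <;> omega
      exact_mod_cast this
    have cA' : (Tb.X 6 : ℂ) + 1 ≠ 0 := by
      have : Tb.X 6 + 1 ≠ 0 := fun e => Tb.X_ne 1 (by
        have h' : Tb.X 1 * (S.D.Q + 1) = 0 := by rw [hA]; omega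
        exact (mul_eq_zero.1 h').resolve_right (by exact_mod_cast cQ))
      exact_mod_cast this
    have hBc : (Tb.X 7 : ℂ) = (S.D.Q : ℂ) * Tb.X 1 := by exact_mod_cast hBQ
    have hx : (Tb.X 1 : ℂ) = -(1 + (Tb.X 6 : ℂ)) / ((S.D.Q : ℂ) + 1) := by
      rw [eq_div_iff cQ]; exact_mod_cast hA
    have e0' : ((S.C).index : ℂ) * (((Tb.X 6 : ℂ) - S.D.Q) ^ 2 /
        ((Tb.X 6 : ℂ) * ((Tb.X 6 : ℂ) + 1))) = (S.D.Q : ℂ) * (S.D.Q - 1) ^ 2 * (S.D.Q + 1) := by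
      rw [← e0, hBc, hx]
      congr 1
      have cA2 : 1 + (Tb.X 6 : ℂ) ≠ 0 := by rwa [add_comm]
      field_simp
      ring
    push_cast at eA
    field_simp at eA e0'
    have : S.D.Q * (S.D.Q - 1) * (S.D.Q + 1) *
        ((S.D.Q + 1) * (Tb.X 6 - 1) - 3 * (S.D.Q - 1) * (Tb.X 6 + 1)) * Tb.X 6 = 0 := by
      refine Int.cast_injective (α := ℂ) ?_
      push_cast
      linear_combination 3 * e0' - eA
    have hz : (S.D.Q + 1) * (Tb.X 6 - 1) - 3 * (S.D.Q - 1) * (Tb.X 6 + 1) = 0 := by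
      refine ((mul_eq_zero.1 ((mul_eq_zero.1 this).resolve_right (Tb.X_ne 6))).resolve_left ?_)
      refine mul_ne_zero (mul_ne_zero ?_ ?_) ?_ <;>
        rcases abs_cases S.D.Q with ⟨e, -⟩ | ⟨e, -⟩ <;> omega
    have h3 : (Tb.X 6 + 2) * (S.D.Q - 2) = -3 := by linarith
    have hd : S.D.Q - 2 ∣ 3 := ⟨-(Tb.X 6 + 2), by linarith⟩
    have h4 := Int.le_of_dvd (by norm_num) hd
    have h5 := Int.le_of_dvd (by norm_num) (neg_dvd.mpr hd)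
    rcases abs_cases S.D.Q with ⟨e, -⟩ | ⟨e, -⟩ <;> omega
  · -- `θ₃ = {u, v}`: then the other pair is degenerate
    obtain ⟨Tb', e3', hj⟩ : ∃ Tb' : Table S pat8,
        (∀ k, Tb'.nuC X A4.th μ 3 k = -(A4.th.s 3) * P8 2 k) ∧
        ((∀ k, Tb'.nuC X A4.th μ 1 k = -(A4.th.s 1) * P8 5 k) ∨
          ∀ k, Tb'.nuC X A4.th μ 2 k = -(A4.th.s 2) * P8 5 k) := by
      have move : ∀ (π : Equiv.Perm (Fin 8)) (h0 : π 0 = 0) (hp : ∀ j k, pat8 j (π k) = pat8 j k)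
          (a b : Fin 8), a3 = a → (a1 = b ∨ a2 = b) → (∀ k, P8 a (π k) = P8 2 k) →
          (∀ k, P8 b (π k) = P8 5 k) → ∃ Tb' : Table S pat8,
          (∀ k, Tb'.nuC X A4.th μ 3 k = -(A4.th.s 3) * P8 2 k) ∧
          ((∀ k, Tb'.nuC X A4.th μ 1 k = -(A4.th.s 1) * P8 5 k) ∨
            ∀ k, Tb'.nuC X A4.th μ 2 k = -(A4.th.s 2) * P8 5 k) := by
        intro π h0 hp a b ha hb pa pb
        refine ⟨Tb.perm π h0 hp, fun k => ?_, hb.imp (fun hb k => ?_) (fun hb k => ?_)⟩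
        · show Tb.nuC X A4.th μ 3 (π k) = _; rw [e3, ha, pa]
        · show Tb.nuC X A4.th μ 1 (π k) = _; rw [e1, hb, pb]
        · show Tb.nuC X A4.th μ 2 (π k) = _; rw [e2, hb, pb]
      rcases hq with ⟨h, h'⟩ | ⟨h, h'⟩ | ⟨h, h'⟩ | ⟨h, h'⟩
      · exact move 1 (by decide) (by decide) 2 5 h h' (by decide) (by decide)
      · exact move (Equiv.swap 4 5) (by decide) (by decide) 3 4 h h' (by decide) (by decide)
      · exact move (Equiv.swap 2 3) (by decide) (by decide) 4 3 h h' (by decide) (by decide)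
      · exact move (Equiv.swap 2 3 * Equiv.swap 4 5) (by decide) (by decide) 5 2 h h' (by decide)
          (by decide)
    have E3 := Tb'.eq_uv hna X A4.th hμ (hg 3) (hs 3) (u := 2) (v := 4) e3' (Or.inl ⟨rfl, rfl, rfl⟩)
    rw [show A4.th.Kc 3 = 0 from rfl, Rat.cast_zero, mul_zero] at E3
    have hN : ((S.C).index : ℂ) ≠ 0 := Nat.cast_ne_zero.2 index_ne_zero_of_finite
    obtain ⟨-, d1, d2⟩ := Tb'.deg8'
    have hne : Tb'.X 2 + Tb'.X 4 ≠ 0 := by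
      obtain ⟨h, -⟩ := Tb'.pair_single X A4.th hμ hna (hg 3) (by simp only [e3']; decide)
      simp only [e3'] at h
      simp [A4.th, Fin.sum_univ_eight, P8] at h
      exact h
    have hu : Tb'.X 2 = Tb'.X 4 := by
      rw [show ((A4.th.s 3 : ℤ) : ℂ) = -1 by simp [A4.th], neg_neg, mul_one, mul_eq_zero] at E3
      have h := E3.resolve_left hN
      refine eq_of_pair_eq S.D.h_ne (Tb'.X_ne 2) (Tb'.X_ne 4) hne ?_
      rw [← h]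
      push_cast
      ring
    have hu' : Tb'.X 3 = Tb'.X 5 := by linarith
    rcases hj with ej | ej
    · have E := Tb'.eq_uv hna X A4.th hμ (hg 1) (hs 1) (u := 3) (v := 5) ej (Or.inr ⟨rfl, rfl, rfl⟩)
      rw [hu', uv_zero, mul_zero] at E
      exact hK.1 E.symm
    · have E := Tb'.eq_uv hna X A4.th hμ (hg 2) (hs 2) (u := 3) (v := 5) ej (Or.inr ⟨rfl, rfl, rfl⟩)
      rw [hu', uv_zero, mul_zero] at E
      exact hK.2 E.symm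

/-- The case of `A₅`. -/
theorem Table.false_five8 (X : Core S A5.A₀) (h5 : ¬ 5 ∣ S.D.T) : False := by
  obtain ⟨μ, hμ⟩ := S.exists_mu
  have hT := S.D.T_facts
  have hg : ∀ i : Fin 5, i = 1 ∨ i = 2 ∨ ¬ 3 ∣ S.D.T → Good S (A5.th.θ i) := fun i h a ha =>
    A5.good hT.1 h5 i h a ha
  have g1 := hg 1 (Or.inl rfl)
  have g2 := hg 2 (Or.inr (Or.inl rfl))
  have hs1 : A5.th.s 1 = 1 ∨ A5.th.s 1 = -1 := by simp [A5.th]
  have hs2 : A5.th.s 2 = 1 ∨ A5.th.s 2 = -1 := by simp [A5.th]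
  have hn0 : ∀ i : Fin 5, i ≠ 0 → i = 0 → A5.th.s i = 1 := fun i h h' => absurd h' h
  obtain ⟨hp2, hpT, hpq, -⟩ := S.D.p_facts
  have hp30 : ∀ {k : ℕ}, k % 6 = (if S.D.p = 3 then 5 else 1) ∨ k % 6 = 1 → (k % 5 ≠ 0) →
      k.Coprime 30 := by
    intro k h6 h5'
    rw [show (30 : ℕ) = 6 * 5 from rfl]
    refine Nat.Coprime.mul_right ?_ (Nat.Prime.coprime_iff_not_dvd Nat.prime_five |>.2
      (by omega)).symm
    have e : k % 6 = 1 ∨ k % 6 = 5 := by split_ifs at h6 <;> omega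
    rw [Nat.Coprime, Nat.gcd_comm, Nat.gcd_rec]
    rcases e with e | e <;> rw [e] <;> rfl
  -- the power map exchanging the two characters of degree three
  obtain ⟨k, hk, hkns, hkT, hk5, hk30⟩ : ∃ k : ℕ, k.Coprime (Nat.card G) ∧
      ¬ IsSquare (k : ZMod S.D.p) ∧ k % S.D.T = 1 ∧ k % 5 = 2 ∧ k.Coprime 30 := by
    by_cases hp : S.D.p = 5
    · obtain ⟨k, a, b, c, d, e⟩ := exists_twist_five (n := Nat.card G) (T := S.D.T)
        Nat.card_pos.ne' (by omega) h5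
      exact ⟨k, a, hp ▸ b, by rw [c, Nat.mod_eq_of_lt (by omega)], d,
        hp30 (Or.inr e) (by omega)⟩
    · obtain ⟨k, a, b, c, d, e⟩ := exists_twist (n := Nat.card G) (T := S.D.T) (r := 2) S.D.p_prime
        hp2 Nat.card_pos.ne' (by omega) hpT h5 hp (by norm_num)
      exact ⟨k, a, b, by rw [c, Nat.mod_eq_of_lt (by omega)], d, hp30 (Or.inl e) (by omega)⟩
  have t12 : ∀ a, A5.th.θ 1 (a ^ k) = A5.th.θ 2 a := fun a => by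
    rw [A5.θ_pow hk30, if_neg (by omega)]; rfl
  have t21 : ∀ a, A5.th.θ 2 (a ^ k) = A5.th.θ 1 a := fun a => by
    rw [A5.θ_pow hk30, if_neg (by omega)]; rfl
  -- both are pairs `{u, v}`
  obtain ⟨a1, i1, e1⟩ := Tb.opts8 X A5.th hμ g1 hs1 (hn0 1 (by decide))
  obtain ⟨a2, i2, e2⟩ := Tb.opts8 X A5.th hμ g2 hs2 (hn0 2 (by decide))
  have d12 := Tb.disjoint8 X A5.th hμ g1 g2 (by decide) hs1 hs2 e1 e2
  have n1 : ¬ (a1 = 6 ∨ a1 = 7) := fun h => absurd (i1.2 h) (by decide)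
  have n2 : ¬ (a2 = 6 ∨ a2 = 7) := fun h => absurd (i2.2 h) (by decide)
  have hmove : ∀ (i j : Fin 5) (a b : Fin 8), (∀ x, A5.th.θ i (x ^ k) = A5.th.θ j x) →
      (A5.th.s i = 1 ∨ A5.th.s i = -1) →
      (∀ c, Tb.nuC X A5.th μ i c = -(A5.th.s i) * P8 a c) →
      (∀ c, Tb.nuC X A5.th μ j c = -(A5.th.s j) * P8 b c) →
      ∀ c : Fin 8, (c = 2 ∨ c = 3) → P8 a c ≠ 0 → P8 b 4 ≠ 0 ∨ P8 b 5 ≠ 0 := by
    intro i j a b e hsi hea heb c hc hne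
    obtain ⟨c', h1, -, h3⟩ := Tb.exists_pw_row hk hkns pat8_01 c
    have h := Tb.nuC_pw hna X A5.th hμ hk hkT e h1 (by
      rw [hea]; exact mul_ne_zero (by rcases hsi with e | e <;> rw [e] <;> norm_num) hne)
    rw [heb] at h
    rcases pat8_image c c' hc h3 with rfl | rfl
    exacts [Or.inl (right_ne_zero_of_mul h), Or.inr (right_ne_zero_of_mul h)]
  have key : ∀ a1 a2 : Fin 8, ∑ c, P8 a1 c * P8 a2 c = 0 → ¬ (a1 = 6 ∨ a1 = 7) →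
      ¬ (a2 = 6 ∨ a2 = 7) →
      (∀ c : Fin 8, (c = 2 ∨ c = 3) → P8 a1 c ≠ 0 → P8 a2 4 ≠ 0 ∨ P8 a2 5 ≠ 0) →
      (∀ c : Fin 8, (c = 2 ∨ c = 3) → P8 a2 c ≠ 0 → P8 a1 4 ≠ 0 ∨ P8 a1 5 ≠ 0) →
      (a1 = 2 ∧ a2 = 5) ∨ (a1 = 3 ∧ a2 = 4) ∨ (a1 = 4 ∧ a2 = 3) ∨ (a1 = 5 ∧ a2 = 2) := by decide
  obtain ⟨Tb, e1, e2⟩ : ∃ Tb' : Table S pat8,
      (∀ c, Tb'.nuC X A5.th μ 1 c = -(A5.th.s 1) * P8 2 c) ∧
      ∀ c, Tb'.nuC X A5.th μ 2 c = -(A5.th.s 2) * P8 5 c := by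
    have move : ∀ (π : Equiv.Perm (Fin 8)) (h0 : π 0 = 0) (hp : ∀ j k, pat8 j (π k) = pat8 j k)
        (a b : Fin 8), a1 = a → a2 = b → (∀ k, P8 a (π k) = P8 2 k) →
        (∀ k, P8 b (π k) = P8 5 k) → ∃ Tb' : Table S pat8,
        (∀ c, Tb'.nuC X A5.th μ 1 c = -(A5.th.s 1) * P8 2 c) ∧
        ∀ c, Tb'.nuC X A5.th μ 2 c = -(A5.th.s 2) * P8 5 c := by
      intro π h0 hp a b ha hb pa pb
      refine ⟨Tb.perm π h0 hp, fun k => ?_, fun k => ?_⟩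
      · show Tb.nuC X A5.th μ 1 (π k) = _; rw [e1, ha, pa]
      · show Tb.nuC X A5.th μ 2 (π k) = _; rw [e2, hb, pb]
    rcases key a1 a2 d12 n1 n2 (hmove 1 2 a1 a2 t12 hs1 e1 e2) (hmove 2 1 a2 a1 t21 hs2 e2 e1) with
      ⟨h, h'⟩ | ⟨h, h'⟩ | ⟨h, h'⟩ | ⟨h, h'⟩
    · exact move 1 (by decide) (by decide) 2 5 h h' (by decide) (by decide)
    · exact move (Equiv.swap 4 5) (by decide) (by decide) 3 4 h h' (by decide) (by decide)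
    · exact move (Equiv.swap 2 3) (by decide) (by decide) 4 3 h h' (by decide) (by decide)
    · exact move (Equiv.swap 2 3 * Equiv.swap 4 5) (by decide) (by decide) 5 2 h h' (by decide)
        (by decide)
  have himg : ∀ {k : ℕ} (hk : k.Coprime (Nat.card G)), ¬ IsSquare (k : ZMod S.D.p) →
      k % S.D.T = 1 → ∀ j : Fin 5, (∀ a, A5.th.θ 1 (a ^ k) = A5.th.θ j a) →
      ∃ c : Fin 8, (c = 4 ∨ c = 5) ∧ Tb.X c = Tb.X 2 ∧ Tb.nuC X A5.th μ j c ≠ 0 := by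
    intro k hk hkns hkT j e
    obtain ⟨c', h1, h2, h3⟩ := Tb.exists_pw_row hk hkns pat8_01 2
    exact ⟨c', pat8_image 2 c' (Or.inl rfl) h3, h2,
      Tb.nuC_pw hna X A5.th hμ hk hkT e h1 (by rw [e1]; simp [A5.th, P8])⟩
  have hu : Tb.X 5 = Tb.X 2 := by
    obtain ⟨c, hc, hX, hne⟩ := himg hk hkns hkT 2 t12
    rcases hc with rfl | rfl
    · exact absurd (by rw [e2]; simp [P8]) hne
    · exact hX
  -- `p = 5`
  have hp5 : S.D.p = 5 := by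
    by_contra hp
    obtain ⟨k', a, b, c, d, e⟩ := exists_twist (n := Nat.card G) (T := S.D.T) (r := 1) S.D.p_prime
      hp2 Nat.card_pos.ne' (by omega) hpT h5 hp (by norm_num)
    obtain ⟨c', hc', hX, hne⟩ := himg a b (by rw [c, Nat.mod_eq_of_lt (by omega)]) 1 (fun x => by
      rw [A5.θ_pow (hp30 (Or.inl e) (by omega)), if_pos (by omega)])
    rcases hc' with rfl | rfl
    · have E := Tb.eq_uv hna X A5.th hμ g1 hs1 (u := 2) (v := 4) e1 (Or.inl ⟨rfl, rfl, rfl⟩)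
      rw [hX, uv_zero, mul_zero] at E
      exact mul_ne_zero S.KQ_ne (by simp [A5.th]) E.symm
    · exact hne (by rw [e1]; simp [P8])
  -- the field order and the remaining good characters
  obtain ⟨a, ha, hq⟩ := S.D.q_eq
  rw [hp5] at hq
  obtain ⟨b, rfl⟩ := ha
  have hq8 : S.D.q % 8 = 5 ∧ S.D.q % 3 = 2 ∧ (b ≠ 0 → 125 ≤ S.D.q) := by
    rw [hq, pow_succ, pow_mul]
    refine ⟨?_, ?_, fun hb => ?_⟩
    · rw [Nat.mul_mod, Nat.pow_mod]; norm_num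
    · rw [Nat.mul_mod, Nat.pow_mod]; norm_num
    · have : 25 ≤ (5 ^ 2) ^ b := Nat.le_self_pow hb _
      omega
  have hb0 : b ≠ 0 := fun hb => by
    have := S.D.q_ge
    rw [hq, hb] at this
    norm_num at this
  have hσ : S.D.σ = -1 := (S.D.sign.resolve_left fun h => by omega).1
  have h3T : ¬ 3 ∣ S.D.T := by
    have := S.D.hT
    rw [hσ] at this
    omega
  have hQ : S.D.Q ≤ -60 := by rw [LModel.Q, hσ]; have := hq8.2.2 hb0; omega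
  have g0 := hg 0 (Or.inr (Or.inr h3T))
  have g4 := hg 4 (Or.inr (Or.inr h3T))
  -- the trivial character and the one of degree five
  obtain ⟨Tb, hone, e4, e1, hu⟩ : ∃ Tb' : Table S pat8,
      (∀ c, Tb'.nuC X A5.th μ 0 c = -(A5.th.s 0) * P8 6 c) ∧
      (∀ c, Tb'.nuC X A5.th μ 4 c = -(A5.th.s 4) * P8 1 c) ∧
      (∀ c, Tb'.nuC X A5.th μ 1 c = -(A5.th.s 1) * P8 2 c) ∧ Tb'.X 5 = Tb'.X 2 := by
    have hs4 : A5.th.s 4 = 1 ∨ A5.th.s 4 = -1 := Or.inl rfl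
    obtain ⟨b0, j0, f0⟩ := Tb.opts8 X A5.th hμ g0 (Or.inl rfl) (fun _ => rfl)
    obtain ⟨b4, j4, f4⟩ := Tb.opts8 X A5.th hμ g4 hs4 (hn0 4 (by decide))
    have d04 := Tb.disjoint8 X A5.th hμ g0 g4 (by decide) (Or.inl rfl) hs4 f0 f4
    have d14 := Tb.disjoint8 X A5.th hμ g1 g4 (by decide) hs1 hs4 e1 f4
    have d24 := Tb.disjoint8 X A5.th hμ g2 g4 (by decide) hs2 hs4 e2 f4
    have n4 : ¬ (b4 = 6 ∨ b4 = 7) := fun h => absurd (j4.2 h) (by decide)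
    have key4 : ∀ b0 b4 : Fin 8, (b0 = 6 ∨ b0 = 7) → ¬ (b4 = 6 ∨ b4 = 7) →
        ∑ c, P8 b0 c * P8 b4 c = 0 → ∑ c, P8 2 c * P8 b4 c = 0 → ∑ c, P8 5 c * P8 b4 c = 0 →
        (b0 = 6 ∧ b4 = 1) ∨ (b0 = 7 ∧ b4 = 0) := by decide
    rcases key4 b0 b4 (j0.1 rfl) n4 d04 d14 d24 with ⟨rfl, rfl⟩ | ⟨rfl, rfl⟩
    · exact ⟨Tb, f0, f4, e1, hu⟩
    · have pe : ∀ k, P8 7 (Equiv.swap 6 7 k) = P8 6 k ∧ P8 0 (Equiv.swap 6 7 k) = P8 1 k ∧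
          P8 2 (Equiv.swap 6 7 k) = P8 2 k := by decide
      refine ⟨Tb.perm (Equiv.swap 6 7) (by decide) (by decide), fun k => ?_, fun k => ?_,
        fun k => ?_, ?_⟩
      · show Tb.nuC X A5.th μ 0 (Equiv.swap 6 7 k) = _; rw [f0, (pe k).1]
      · show Tb.nuC X A5.th μ 4 (Equiv.swap 6 7 k) = _; rw [f4, (pe k).2.1]
      · show Tb.nuC X A5.th μ 1 (Equiv.swap 6 7 k) = _; rw [e1, (pe k).2.2]
      · show Tb.X (Equiv.swap 6 7 5) = Tb.X (Equiv.swap 6 7 2)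
        rw [show Equiv.swap (6 : Fin 8) 7 5 = 5 by decide, show Equiv.swap (6 : Fin 8) 7 2 = 2 by decide]
        exact hu
  obtain ⟨d0, d1, d2⟩ := Tb.deg8'
  have hu' : Tb.X 4 = Tb.X 3 := by linarith
  obtain ⟨P0, P1⟩ := Tb.pair8' hna
  obtain ⟨hA1, EA⟩ := Tb.eq_one8 hna X A5.th hμ g0 rfl hone
  obtain ⟨hBx, EB⟩ := Tb.eq_xB hna X A5.th hμ g4 (Or.inl rfl) e4
  have EU := Tb.eq_uv hna X A5.th hμ g1 hs1 (u := 2) (v := 4) e1 (Or.inl ⟨rfl, rfl, rfl⟩)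
  rw [show A5.th.Kc 0 = 16 / 15 from rfl] at EA
  rw [show A5.th.Kc 4 = 1 / 3 from rfl, show ((A5.th.s 4 : ℤ) : ℂ) = 1 by simp [A5.th],
    one_mul] at EB
  rw [show A5.th.Kc 1 = 1 / 5 from rfl, show ((A5.th.s 1 : ℤ) : ℂ) = -1 by simp [A5.th], neg_neg,
    mul_one, hu'] at EU
  have hx1 : Tb.X 2 + Tb.X 3 = 1 + Tb.X 1 := by linarith
  have hx1' : 1 + Tb.X 1 ≠ 0 := by
    obtain ⟨h, -⟩ := Tb.pair_single X A5.th hμ hna g1 (by simp only [e1]; decide)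
    simp only [e1] at h
    simp [A5.th, Fin.sum_univ_eight, P8] at h
    rw [hu'] at h
    rwa [← hx1]
  rw [show (Tb.X 2 : ℂ) + Tb.X 3 = 1 + Tb.X 1 by exact_mod_cast hx1] at EU
  push_cast at EA EB EU
  refine false_of_five (N := ((S.C).index : ℚ)) hQ
    (by exact_mod_cast Nat.pos_of_ne_zero index_ne_zero_of_finite) (Tb.X_ne 1) hx1' (Tb.X_ne 6) hA1
    (Tb.X_ne 7) hBx d0 ?_ ?_ ?_ ?_ <;> refine Rat.cast_injective (α := ℂ) ?_ <;> push_cast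
  · rw [S.Qc] at P0 P1 EU ⊢
    linear_combination P0 - P1 + EU
  · linear_combination EA
  · linear_combination EB
  · exact P0

end Setup

end Cfsg.Lib.Walter8
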