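import Cfsg.Agent.Lib.Walter8.TrivLocalNineteen
import Cfsg.Agent.Lib.J2Type.AltFive
import Cfsg.Agent.Lib.Dickson.SmallIds

/-!
# The configuration at a fixed torus

The centralizer of the torus is a direct product with an alternating group of degree four or five, and
the order of the torus is prime to three in the first case, to five in the second.
-/

set_option autoImplicit false
set_option linter.unusedSectionVars false
set_option linter.unusedVariables false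
set_option linter.style.haveILetI false

namespace Cfsg.Lib.Walter8

open Subgroup

universe u

theorem alt_five_not_abelian_closure : ∀ s : alternatingGroup (Fin 5), s * s = 1 → s ≠ 1 →
    ∃ a, a * s * a⁻¹ * s ≠ s * (a * s * a⁻¹) := by decide +kernel

theorem alt_five_center : ∀ a : alternatingGroup (Fin 5), (∀ b, a * b = b * a) → a = 1 := by decide +kernel

theorem alt_five_order : ∀ a : alternatingGroup (Fin 5), a ^ 2 = 1 ∨ a ^ 3 = 1 ∨ a ^ 5 = 1 := by decide +kernel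

theorem alt_five_exists_five : ∃ a : alternatingGroup (Fin 5), a ^ 5 = 1 ∧ a ≠ 1 := by decide +kernel

theorem alt_four_inverted : ∀ j x : alternatingGroup (Fin 4), j * j ≠ 1 ∨ j = 1 ∨ j * x * j⁻¹ ≠ x⁻¹ ∨ x * x = 1 := by
  decide +kernel

namespace Setup

variable {G L : Type u} [Group G] [Group L] {S : Setup G L}

theorem ι_ne_one {ι : G} (hι : ∀ s ∈ S.Tsub, ι * s * ι⁻¹ = s⁻¹) : ι ≠ 1 := by
  intro e
  have h := hι _ S.φy_mem
  rw [e, one_mul, inv_one, mul_one] at h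
  exact S.φy_ne (eq_one_of_inv_eq S.φy_mem h.symm)

/-- An alternating factor of degree five in the centralizer of the torus is not in the normalizer. -/
theorem Split.not_le_Nm {τ : G} (X : Split S τ) (h : X.A ≤ S.Nm) : False := by
  set s : X.A := ⟨S.t, X.four_le _ S.t_inV⟩
  have hs2 : X.iso s * X.iso s = 1 := by
    rw [← map_mul, show s * s = 1 from Subtype.ext S.t_sq, map_one]
  have hs1 : X.iso s ≠ 1 := fun e =>
    S.t_ne (congrArg Subtype.val (X.iso.injective (e.trans (map_one X.iso).symm)))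
  obtain ⟨a', ha⟩ := alt_five_not_abelian_closure _ hs2 hs1
  obtain ⟨a, rfl⟩ := X.iso.surjective a'
  refine ha ?_
  rw [← map_inv, ← map_mul, ← map_mul, ← map_mul, ← map_mul]
  exact congrArg X.iso (Subtype.ext (S.K_comm (S.conj_inV (h a.2) S.t_inV).mem_K S.t_mem_K))

/-- The configuration with an alternating group of degree five. -/
theorem exists_core_five [Finite G] [IsSimpleGroup G] (hna : ¬ IsMulCommutative G) (R : Rot S) (hR : R.Triv)
    {ι : G} (hι2 : ι * ι = 1) (hιT : ∀ s ∈ S.Tsub, ι * s * ι⁻¹ = s⁻¹) (hιV : ∀ v, S.InV v → ι * v = v * ι)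
    (hιρ : ι * R.ρ = R.ρ * ι) {τ₀ : G} (hτ₀ : τ₀ ∈ S.Tsub) (X₀ : Split S τ₀) :
    Nonempty (Core S (alternatingGroup (Fin 5))) := by
  have hcen₀ : ∀ a ∈ X₀.A, ∀ s ∈ S.Tsub, a * s = s * a := fun a ha =>
    X₀.central a (mem_centralizer_singleton_iff.mp (X₀.le ha))
  obtain ⟨Y⟩ := (S.cent_cases hna S.φy_mem S.φy_ne).resolve_left fun h =>
    X₀.not_le_Nm fun a ha => h (mem_centralizer_singleton_iff.mpr (hcen₀ a ha _ S.φy_mem))
  have hcomm : ∀ a ∈ Y.A, ∀ s ∈ S.Tsub, a * s = s * a := fun a ha =>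
    Y.central a (mem_centralizer_singleton_iff.mp (Y.le ha))
  have hdisj : ∀ a ∈ Y.A, a ∈ S.Tsub → a = 1 := by
    intro a ha haT
    have h := alt_five_center (Y.iso ⟨a, ha⟩) fun b => by
      obtain ⟨b, rfl⟩ := Y.iso.surjective b
      rw [← map_mul, ← map_mul]
      exact congrArg Y.iso (Subtype.ext (hcomm b b.2 a haT).symm)
    exact congrArg Subtype.val (Y.iso.injective (h.trans (map_one Y.iso).symm))
  have hcov : ∀ τ ∈ S.Tsub, τ ≠ 1 → ∀ g : G, g * τ = τ * g → ∃ a ∈ Y.A, ∃ s ∈ S.Tsub, g = a * s := by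
    intro τ hτ hτ1 g hg
    obtain ⟨X⟩ := (S.cent_cases hna hτ hτ1).resolve_left fun h =>
      Y.not_le_Nm fun a ha => h (mem_centralizer_singleton_iff.mpr (hcomm a ha τ hτ))
    exact Y.cover g (X.central g hg _ S.φy_mem)
  have hιι : ι⁻¹ = ι := inv_eq_of_mul_eq_one_right hι2
  -- the involution normalizes the factor
  have hinvol : ∀ x ∈ Y.A, x * x = 1 → ι * x * ι⁻¹ ∈ Y.A := by
    intro x hx hx2
    have hy : ι * x * ι⁻¹ * S.φ S.D.y = S.φ S.D.y * (ι * x * ι⁻¹) := by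
      have e : S.φ S.D.y = ι * (S.φ S.D.y)⁻¹ * ι⁻¹ := by rw [hιT _ (inv_mem S.φy_mem), inv_inv]
      rw [e, ← conj_mul', ← conj_mul', hcomm x hx _ (inv_mem S.φy_mem)]
    obtain ⟨b, hb, s, hs, he⟩ := Y.cover _ hy
    have h2 : b * b * (s * s) = 1 := by
      rw [(show Commute b s from hcomm b hb s hs).mul_mul_mul_comm b s, ← he, ← conj_mul', hx2]; group
    have hs1 : s = 1 := S.Tsub_sq_eq_one hs (hdisj _ (by
      rw [show s * s = (b * b)⁻¹ from eq_inv_of_mul_eq_one_right h2]; exact inv_mem (mul_mem hb hb))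
      (mul_mem hs hs))
    rw [he, hs1, mul_one]
    exact hb
  have hnorm : ∀ a ∈ Y.A, ι * a * ι⁻¹ ∈ Y.A := by
    intro a ha
    obtain ⟨x', y', hx, hy, he⟩ := Cfsg.Lib.J2Type.a5_gen (Y.iso ⟨a, ha⟩)
    obtain ⟨x, rfl⟩ := Y.iso.surjective x'
    obtain ⟨y, rfl⟩ := Y.iso.surjective y'
    rw [← map_mul] at he hx hy
    have ea : a = (x : G) * y := congrArg Subtype.val (Y.iso.injective he)
    rw [ea, conj_mul']
    exact mul_mem (hinvol x x.2 (congrArg Subtype.val (Y.iso.injective (hx.trans (map_one Y.iso).symm))))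
      (hinvol y y.2 (congrArg Subtype.val (Y.iso.injective (hy.trans (map_one Y.iso).symm))))
  -- the rotation lies in the factor
  have hρA : R.ρ ∈ Y.A := by
    obtain ⟨a, ha, s, hs, he⟩ := Y.cover _ (hR _ S.φy_mem)
    have h : ι * a * ι⁻¹ * s⁻¹ = a * s := by
      rw [← hιT s hs, ← conj_mul', ← he, hιρ]; group
    have hs1 : s = 1 := S.Tsub_sq_eq_one hs (hdisj _ (by
      rw [show s * s = a⁻¹ * (a * s) * s by group, ← h]
      simpa [mul_assoc] using mul_mem (inv_mem ha) (hnorm a ha)) (mul_mem hs hs))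
    rw [he, hs1, mul_one]
    exact ha
  -- and centralizes it
  have hιA : ∀ a ∈ Y.A, ι * a = a * ι := by
    let c : Y.A ≃* Y.A :=
      { toFun := fun a => ⟨ι * a * ι⁻¹, hnorm a a.2⟩
        invFun := fun a => ⟨ι * a * ι⁻¹, hnorm a a.2⟩
        left_inv := fun a => Subtype.ext (by
          show ι * (ι * (a : G) * ι⁻¹) * ι⁻¹ = a
          calc ι * (ι * (a : G) * ι⁻¹) * ι⁻¹ = ι * ι * a * (ι * ι)⁻¹ := by group
            _ = a := by rw [hι2]; group)
        right_inv := fun a => Subtype.ext (by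
          show ι * (ι * (a : G) * ι⁻¹) * ι⁻¹ = a
          calc ι * (ι * (a : G) * ι⁻¹) * ι⁻¹ = ι * ι * a * (ι * ι)⁻¹ := by group
            _ = a := by rw [hι2]; group)
        map_mul' := fun a b => Subtype.ext (conj_mul' ι (a : G) b) }
    set σ : alternatingGroup (Fin 5) ≃* alternatingGroup (Fin 5) := (Y.iso.symm.trans c).trans Y.iso with hσ
    have hfix : ∀ a : Y.A, ι * (a : G) = a * ι → σ (Y.iso a) = Y.iso a := fun a h => by
      simp only [hσ, MulEquiv.trans_apply, MulEquiv.symm_apply_apply]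
      exact congrArg Y.iso (Subtype.ext (mul_inv_eq_iff_eq_mul.mpr h))
    set r : Y.A := ⟨S.t, Y.four_le _ S.t_inV⟩ with hr
    set n : Y.A := ⟨R.ρ, hρA⟩ with hn
    have htriv := Cfsg.Lib.J2Type.a5_aut_trivial σ (r := Y.iso r) (n := Y.iso n)
      (by rw [← map_mul, show r * r = 1 from Subtype.ext S.t_sq, map_one])
      (fun e => S.t_ne (congrArg Subtype.val (Y.iso.injective (e.trans (map_one Y.iso).symm))))
      (by rw [← map_pow, show n ^ 3 = 1 from Subtype.ext R.pow_cube, map_one])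
      (by
        rw [← map_inv, ← map_mul, ← map_mul]
        exact fun e => S.tz_facts.2.2.2.1 (R.rt.symm.trans (congrArg Subtype.val (Y.iso.injective e))))
      (by
        rw [← map_inv, ← map_mul, ← map_mul, ← map_mul, ← map_mul]
        refine congrArg Y.iso (Subtype.ext ?_)
        show R.ρ * S.t * R.ρ⁻¹ * S.t = S.t * (R.ρ * S.t * R.ρ⁻¹)
        rw [R.rt]
        exact S.K_comm S.φz_mem_K S.t_mem_K)
      (hfix r (hιV _ S.t_inV)) (hfix n hιρ)
    intro a ha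
    have h := htriv (Y.iso ⟨a, ha⟩)
    simp only [hσ, MulEquiv.trans_apply, MulEquiv.symm_apply_apply] at h
    exact mul_inv_eq_iff_eq_mul.mp (congrArg Subtype.val (Y.iso.injective h))
  exact ⟨{
    A := Y.A
    ι := ι
    e := Y.iso
    comm := hcomm
    cover := hcov
    disj := hdisj
    four_le := Y.four_le
    invol := fun a ha ha2 ha1 => by
      obtain ⟨c, hc⟩ := Cfsg.Lib.J2Type.a5_invol_conj (Y.iso ⟨a, ha⟩) (Y.iso ⟨S.t, Y.four_le _ S.t_inV⟩)
        (by rw [← map_mul, show (⟨a, ha⟩ : Y.A) * ⟨a, ha⟩ = 1 from Subtype.ext ha2, map_one])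
        (fun e => ha1 (congrArg Subtype.val (Y.iso.injective (e.trans (map_one Y.iso).symm))))
        (by rw [← map_mul, show (⟨S.t, Y.four_le _ S.t_inV⟩ : Y.A) * ⟨S.t, Y.four_le _ S.t_inV⟩ = 1 from
          Subtype.ext S.t_sq, map_one])
        (fun e => S.t_ne (congrArg Subtype.val (Y.iso.injective (e.trans (map_one Y.iso).symm))))
      obtain ⟨c, rfl⟩ := Y.iso.surjective c
      rw [← map_inv, ← map_mul, ← map_mul] at hc
      exact ⟨c, c.2, congrArg Subtype.val (Y.iso.injective hc)⟩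
    ι_sq := hι2
    ι_A := hιA
    ι_T := hιT
    swap := fun x hx => swap_of_inv hna hR hιT hx }⟩

/-- The configuration with an alternating group of degree four. -/
theorem exists_core_four [Finite G] [IsSimpleGroup G] (hna : ¬ IsMulCommutative G) (R : Rot S) (hR : R.Triv)
    {ι : G} (hι2 : ι * ι = 1) (hιT : ∀ s ∈ S.Tsub, ι * s * ι⁻¹ = s⁻¹) (hιV : ∀ v, S.InV v → ι * v = v * ι)
    (hιρ : ι * R.ρ = R.ρ * ι) (hN : ∀ τ ∈ S.Tsub, τ ≠ 1 → centralizer ({τ} : Set G) ≤ S.Nm) :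
    ∃ X : Core S (alternatingGroup (Fin 4)), R.ρ ∈ X.A := by
  set P := zpowers R.ρ
  set A : Subgroup G := P ⊔ S.Vsub with hA
  have hρA : R.ρ ∈ A := (le_sup_left : P ≤ A) (mem_zpowers R.ρ)
  have hVA : ∀ v, S.InV v → v ∈ A := fun v hv => (le_sup_right : S.Vsub ≤ A) (S.mem_Vsub.mpr hv)
  have hnorm : P ≤ normalizer (S.Vsub : Set G) := by
    rw [zpowers_le, mem_normalizer_iff]
    intro v
    rw [S.mem_Vsub, S.mem_Vsub]
    refine ⟨S.conj_inV R.mem, fun h => ?_⟩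
    have := S.conj_inV (inv_mem R.mem) h
    simpa [mul_assoc] using this
  have hρ1 : R.ρ ≠ 1 := fun e => S.tz_facts.2.2.2.1 (by
    have := R.rt
    rw [e, one_mul, inv_one, mul_one] at this
    exact this.symm)
  haveI : Fact (Nat.Prime 3) := ⟨Nat.prime_three⟩
  have ho : orderOf R.ρ = 3 := orderOf_eq_prime R.pow_cube hρ1
  have hmem : ∀ a ∈ A, ∃ j : ℕ, j < 3 ∧ ∃ v, S.InV v ∧ a = R.ρ ^ j * v := by
    intro a ha
    have ha' : a ∈ (↑(P ⊔ S.Vsub) : Set G) := ha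
    rw [coe_mul_of_left_le_normalizer_right P S.Vsub hnorm] at ha'
    obtain ⟨p, hp, v, hv, rfl⟩ := ha'
    classical
    obtain ⟨k, hk, rfl⟩ := Finset.mem_image.mp ((mem_zpowers_iff_mem_range_orderOf).mp hp)
    rw [Finset.mem_range, ho] at hk
    exact ⟨k, hk, v, S.mem_Vsub.mp hv, rfl⟩
  have hcomm : ∀ a ∈ A, ∀ s ∈ S.Tsub, a * s = s * a := by
    intro a ha s hs
    obtain ⟨j, -, v, hv, rfl⟩ := hmem a ha
    exact ((show Commute (R.ρ ^ j) s from Rot.triv_pow hR j hs).mul_left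
      (S.K_comm hv.mem_K (S.Tsub_le hs))).eq
  -- the action on the four-group
  have hact : ∀ j, j < 3 → 0 < j → ∀ v, S.InV v → R.ρ ^ j * v * (R.ρ ^ j)⁻¹ = v → v = 1 := by
    intro j hj hj0 v hv h
    obtain ⟨h1, h2, h3, h4, h5, h6⟩ := S.tz_facts
    have e1 : R.ρ * v * R.ρ⁻¹ = v := by
      interval_cases j
      · simpa using h
      · have h' : R.ρ ^ 2 * (R.ρ ^ 2 * v * (R.ρ ^ 2)⁻¹) * (R.ρ ^ 2)⁻¹ = v := by rw [h, h]
        calc R.ρ * v * R.ρ⁻¹ = (R.ρ ^ 3 * R.ρ) * v * (R.ρ ^ 3 * R.ρ)⁻¹ := by rw [R.pow_cube, one_mul]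
          _ = R.ρ ^ 2 * (R.ρ ^ 2 * v * (R.ρ ^ 2)⁻¹) * (R.ρ ^ 2)⁻¹ := by group
          _ = v := h'
    rcases hv with rfl | rfl | rfl | rfl
    · rfl
    · exact absurd (R.rt.symm.trans e1) h4
    · rw [R.rz] at e1
      exact absurd (mul_eq_right.mp e1) h1
    · rw [R.rtz] at e1
      exact absurd (left_eq_mul.mp e1) h2
  have hdisjPV : Disjoint P S.Vsub := by
    rw [disjoint_iff, eq_bot_iff]
    rintro a ⟨hp, hv⟩
    rw [mem_bot]
    refine eq_one_of_pow_coprime (show Nat.Coprime 3 2 by norm_num) ?_ (by rw [sq]; exact hv.2)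
    obtain ⟨k, rfl⟩ := mem_zpowers_iff.mp hp
    rw [← zpow_natCast, ← zpow_mul, mul_comm, zpow_mul, zpow_natCast, R.pow_cube, one_zpow]
  have hcard : Nat.card A = 12 := by
    have e : Nat.card (P × S.Vsub) = Nat.card A := Nat.card_congr (Equiv.ofBijective
      (fun x => (⟨(x.1 : G) * x.2, mul_mem ((le_sup_left : P ≤ A) x.1.2) ((le_sup_right : S.Vsub ≤ A) x.2.2)⟩ : A))
      ⟨fun x y h => mul_injective_of_disjoint hdisjPV (congrArg Subtype.val h), fun a => by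
        obtain ⟨j, -, v, hv, he⟩ := hmem a a.2
        exact ⟨(⟨R.ρ ^ j, pow_mem (mem_zpowers _) j⟩, ⟨v, S.mem_Vsub.mpr hv⟩), Subtype.ext he.symm⟩⟩)
    rw [← e, Nat.card_prod, Nat.card_zpowers, ho, S.card_Vsub]
  have hnn : Cfsg.Lib.Dickson.NoNormalCyclic A := by
    intro N hN hcyc
    by_contra hne
    obtain ⟨⟨x, hx⟩, hx1'⟩ := Subgroup.ne_bot_iff_exists_ne_one.mp hne
    have hx1 : x ≠ 1 := fun e => hx1' (Subtype.ext e)
    -- a nontrivial element of the four-group in it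
    obtain ⟨w, hwN, hw, hw1⟩ : ∃ w : A, w ∈ N ∧ S.InV w ∧ (w : G) ≠ 1 := by
      obtain ⟨j, hj, v, hv, he⟩ := hmem x x.2
      rcases Nat.eq_zero_or_pos j with rfl | hj0
      · rw [pow_zero, one_mul] at he
        exact ⟨x, hx, he ▸ hv, fun e => hx1 (Subtype.ext e)⟩
      · set u : A := ⟨S.t, hVA _ S.t_inV⟩
        refine ⟨x * u * x⁻¹ * u⁻¹, ?_, ?_, fun e => ?_⟩
        · rw [mul_assoc, mul_assoc, ← mul_assoc u]
          exact mul_mem hx (hN.conj_mem _ (inv_mem hx) u)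
        · show S.InV ((x : G) * S.t * (x : G)⁻¹ * S.t⁻¹)
          rw [← S.mem_Vsub]
          refine mul_mem (S.mem_Vsub.mpr (S.conj_inV ?_ S.t_inV)) (inv_mem (S.mem_Vsub.mpr S.t_inV))
          rw [he]
          exact mul_mem (pow_mem R.mem j) (S.mem_Nm_of_four fun y hy => by
            rw [mul_inv_eq_iff_eq_mul.mpr (S.K_comm hv.mem_K hy.mem_K)]; exact hy)
        · refine S.t_ne (hact j hj hj0 _ S.t_inV ?_)
          have e' : (x : G) * S.t * (x : G)⁻¹ * S.t⁻¹ = 1 := e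
          rw [he, show R.ρ ^ j * v * S.t * (R.ρ ^ j * v)⁻¹ = R.ρ ^ j * (v * S.t * v⁻¹) * (R.ρ ^ j)⁻¹ by group,
            mul_inv_eq_iff_eq_mul.mpr (S.K_comm hv.mem_K S.t_mem_K)] at e'
          exact mul_inv_eq_one.mp e'
    set n : A := ⟨R.ρ, hρA⟩
    have hconj : (n * w * n⁻¹ : A) ∈ N := hN.conj_mem _ hwN n
    obtain ⟨g, hg⟩ := hcyc.exists_generator (α := N)
    -- two involutions in a cyclic group
    haveI := Fintype.ofFinite N
    classical
    have h3 := IsCyclic.card_pow_eq_one_le (α := N) (show 0 < 2 by norm_num)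
    have hsub : ({1, ⟨w, hwN⟩, ⟨n * w * n⁻¹, hconj⟩} : Finset N) ⊆
        Finset.univ.filter fun a : N => a ^ 2 = 1 := by
      intro a ha
      simp only [Finset.mem_insert, Finset.mem_singleton] at ha
      refine Finset.mem_filter.mpr ⟨Finset.mem_univ _, ?_⟩
      rcases ha with rfl | rfl | rfl
      · exact one_pow 2
      · exact Subtype.ext (Subtype.ext (by rw [sq]; exact hw.sq))
      · exact Subtype.ext (Subtype.ext (by rw [sq]; exact (S.conj_inV R.mem hw).sq))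
    have hne1 : (⟨w, hwN⟩ : N) ≠ 1 := fun e => hw1 (congrArg (fun a : N => ((a : A) : G)) e)
    have hne2 : (⟨n * w * n⁻¹, hconj⟩ : N) ≠ 1 := fun e => hw1 (conj_eq_one_iff.mp
      (congrArg (fun a : N => ((a : A) : G)) e : R.ρ * (w : G) * R.ρ⁻¹ = 1))
    have hne3 : (⟨w, hwN⟩ : N) ≠ ⟨n * w * n⁻¹, hconj⟩ := fun e => hw1 (hact 1 (by norm_num) (by norm_num) _ hw (by
      rw [pow_one]; exact (congrArg (fun a : N => ((a : A) : G)) e).symm))
    have := (Finset.card_le_card hsub).trans h3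
    rw [Finset.card_insert_of_notMem (by simp [hne1.symm, hne2.symm]), Finset.card_pair hne3] at this
    omega
  obtain ⟨e⟩ := Cfsg.Lib.Dickson.iso_alternating_four hnn hcard
  refine ⟨{
    A := A
    ι := ι
    e := e
    comm := hcomm
    cover := fun τ hτ hτ1 g hg => by
      obtain ⟨j, k, hk, rfl, -⟩ := R.stab_torus (hN τ hτ hτ1 (mem_centralizer_singleton_iff.mpr hg)) hτ hτ1 hg
      obtain ⟨v, hv, s, hs, rfl⟩ := S.exists_mul_of_mem_K hk
      exact ⟨R.ρ ^ (j : ℕ) * v, mul_mem (pow_mem hρA _) (hVA v hv), s, hs, (mul_assoc _ _ _).symm⟩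
    disj := fun a ha haT => by
      obtain ⟨j, hj, v, hv, rfl⟩ := hmem a ha
      rcases Nat.eq_zero_or_pos j with rfl | hj0
      · rw [pow_zero, one_mul] at haT ⊢
        exact S.Tsub_sq_eq_one haT hv.sq
      · exfalso
        refine S.t_ne (hact j hj hj0 _ S.t_inV ?_)
        have h := mul_inv_eq_iff_eq_mul.mpr (S.K_comm (S.Tsub_le haT) S.t_mem_K)
        rwa [show R.ρ ^ j * v * S.t * (R.ρ ^ j * v)⁻¹ = R.ρ ^ j * (v * S.t * v⁻¹) * (R.ρ ^ j)⁻¹ by group,
          mul_inv_eq_iff_eq_mul.mpr (S.K_comm hv.mem_K S.t_mem_K)] at h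
    four_le := hVA
    invol := fun a ha ha2 ha1 => by
      have hay : a * S.φ S.D.y = S.φ S.D.y * a := hcomm a ha _ S.φy_mem
      rcases R.invol_stab_torus (hN _ S.φy_mem S.φy_ne (mem_centralizer_singleton_iff.mpr hay)) S.φy_mem S.φy_ne
        hay ha2 with rfl | rfl | rfl | rfl
      · exact absurd rfl ha1
      · exact ⟨1, one_mem _, by group⟩
      · exact ⟨R.ρ⁻¹, inv_mem hρA, by rw [← R.rt]; group⟩
      · exact ⟨R.ρ, hρA, R.rtz⟩
    ι_sq := hι2
    ι_A := fun a ha => by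
      obtain ⟨j, -, v, hv, rfl⟩ := hmem a ha
      exact ((show Commute ι R.ρ from hιρ).pow_right j).mul_right (hιV v hv)
    ι_T := hιT
    swap := fun x hx => swap_of_inv hna hR hιT hx }, hρA⟩

/-- The configuration at a fixed torus. -/
theorem exists_core [Finite G] [IsSimpleGroup G] (hna : ¬ IsMulCommutative G) (R : Rot S) (hR : R.Triv) :
    (Nonempty (Core S (alternatingGroup (Fin 4))) ∧ ¬ 3 ∣ S.D.T) ∨
      (Nonempty (Core S (alternatingGroup (Fin 5))) ∧ ¬ 5 ∣ S.D.T) := by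
  obtain ⟨R', hR', ι, hι2, hιT, hιV, hιρ⟩ := R.exists_fix hR
  have hι1 := ι_ne_one hιT
  -- the torus moved into the centralizer of an element of order `r`
  have hmove : ∀ {A₀ : Type} [Group A₀] (X : Core S A₀) {r : ℕ}, r.Prime → r ∣ S.D.T → ∀ f ∈ X.A,
      f ^ r = 1 → f ≠ 1 → ∃ j ∈ X.A, ∃ x ∈ X.A, j * j = 1 ∧ j ≠ 1 ∧ j * x * j⁻¹ = x⁻¹ ∧ orderOf x = S.D.T := by
    intro A₀ _ X r hr hrT f hf hfr hf1
    have hXι1 := ι_ne_one X.ι_T
    obtain ⟨g, hg⟩ := exists_conj_Tsub S hna hr hrT hfr X.ι_sq hXι1 (X.ι_A f hf).symm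
    have hne : g * f * g⁻¹ ≠ 1 := fun e => hf1 (conj_eq_one_iff.mp e)
    obtain ⟨hjA, hxA⟩ := X.inverted hg hne (j := g * X.ι * g⁻¹) (x := g * S.φ S.D.y * g⁻¹)
      (by rw [← conj_mul', X.ι_sq]; group)
      (by rw [← conj_mul', ← conj_mul', X.ι_A f hf])
      (by rw [← conj_mul', ← conj_mul', (X.comm f hf _ S.φy_mem)])
      (by
        rw [show g * X.ι * g⁻¹ * (g * S.φ S.D.y * g⁻¹) * (g * X.ι * g⁻¹)⁻¹ =
          g * (X.ι * S.φ S.D.y * X.ι⁻¹) * g⁻¹ by group, X.ι_T _ S.φy_mem]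
        group)
    refine ⟨_, hjA, _, hxA, by rw [← conj_mul', X.ι_sq]; group, fun e => hXι1 (conj_eq_one_iff.mp e), ?_, ?_⟩
    · rw [show g * X.ι * g⁻¹ * (g * S.φ S.D.y * g⁻¹) * (g * X.ι * g⁻¹)⁻¹ =
        g * (X.ι * S.φ S.D.y * X.ι⁻¹) * g⁻¹ by group, X.ι_T _ S.φy_mem]
      group
    · rw [← MulAut.conj_apply g, MulEquiv.orderOf_eq, S.orderOf_φy]
  by_cases hsplit : ∃ τ ∈ S.Tsub, τ ≠ 1 ∧ Nonempty (Split S τ)
  · obtain ⟨τ₀, hτ₀, -, ⟨X₀⟩⟩ := hsplit
    obtain ⟨X⟩ := exists_core_five hna R' hR' hι2 hιT hιV hιρ hτ₀ X₀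
    refine Or.inr ⟨⟨X⟩, fun h5 => ?_⟩
    obtain ⟨d, hd5, hd1⟩ := alt_five_exists_five
    obtain ⟨j, hj, x, hx, hj2, hj1, hjx, hox⟩ := hmove X (r := 5) (by norm_num) h5 (X.e.symm d : G) (X.e.symm d).2
      (by rw [← Subgroup.coe_pow, ← map_pow, hd5, map_one]; rfl)
      (fun e => hd1 (by
        have : X.e.symm d = 1 := Subtype.ext e
        simpa using congrArg X.e this))
    refine Core.false_of_nineteen hna X ?_
    have hdvd : ∀ n : ℕ, X.e ⟨x, hx⟩ ^ n = 1 → S.D.T ∣ n := fun n hn => by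
      rw [← hox]
      refine orderOf_dvd_of_pow_eq_one ?_
      rw [← map_pow, ← map_one X.e] at hn
      exact congrArg Subtype.val (X.e.injective hn)
    rcases alt_five_order (X.e ⟨x, hx⟩) with h | h | h
    · exact absurd (h5.trans (hdvd 2 h)) (by norm_num)
    · exact absurd (h5.trans (hdvd 3 h)) (by norm_num)
    · exact Nat.dvd_antisymm (hdvd 5 h) h5
  · have hN : ∀ τ ∈ S.Tsub, τ ≠ 1 → centralizer ({τ} : Set G) ≤ S.Nm := fun τ hτ hτ1 =>
      (S.cent_cases hna hτ hτ1).resolve_right fun h => hsplit ⟨τ, hτ, hτ1, h⟩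
    obtain ⟨X, hρX⟩ := exists_core_four hna R' hR' hι2 hιT hιV hιρ hN
    refine Or.inl ⟨⟨X⟩, fun h3 => ?_⟩
    have hρ1 : R'.ρ ≠ 1 := fun e => S.tz_facts.2.2.2.1 (by
      have := R'.rt
      rw [e, one_mul, inv_one, mul_one] at this
      exact this.symm)
    obtain ⟨j, hj, x, hx, hj2, hj1, hjx, hox⟩ := hmove X Nat.prime_three h3 R'.ρ hρX R'.pow_cube hρ1
    have h := ((alt_four_inverted (X.e ⟨j, hj⟩) (X.e ⟨x, hx⟩)).resolve_left (not_not.mpr
      (by rw [← map_mul, show (⟨j, hj⟩ : X.A) * ⟨j, hj⟩ = 1 from Subtype.ext hj2, map_one]))).resolve_left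
      (fun e => hj1 (congrArg Subtype.val (X.e.injective (e.trans (map_one X.e).symm))))
    have h := h.resolve_left (not_not.mpr
      (by rw [← map_inv, ← map_inv, ← map_mul, ← map_mul]; exact congrArg X.e (Subtype.ext hjx)))
    rw [← map_mul, ← map_one X.e] at h
    have hx2 : x * x = 1 := congrArg Subtype.val (X.e.injective h)
    have h2 : S.D.T ∣ 2 := hox ▸ orderOf_dvd_of_pow_eq_one (by rw [sq, hx2])
    exact absurd (h3.trans h2) (by norm_num)

end Setup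

end Cfsg.Lib.Walter8
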