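import Cfsg.Agent.Lib.CpClosed.AbelianTwo.Basic
import Cfsg.Agent.Lib.Linear.PSLSmall
import Cfsg.Agent.Lib.Walter8.ModelPSL
import Cfsg.Agent.Lib.Walter8.Even
import Cfsg.Agent.Lib.Walter8.Triv8
import Cfsg.Agent.Lib.Walter8.Triv7
import Cfsg.Agent.Lib.Walter8.TrivLocal
import Cfsg.Agent.Lib.Walter8.Three
import Cfsg.Agent.S0251
import Cfsg.Agent.S0252
import Cfsg.Agent.S0253
import Cfsg.Agent.S0448

/-!
# Abelian Sylow two-subgroups and an involution centralizer `2 × PSL₂(q)`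
-/

set_option autoImplicit false
set_option linter.unusedSectionVars false
set_option linter.style.haveILetI false

namespace Cfsg.Lib.Walter8

open Subgroup Cfsg Matrix
open Cfsg.Lib.CpClosed.AbelianTwo (AbTwo abTwo_of_sylow)

universe u v

section PSL

variable {F : Type v} [Field F] [Fintype F]

theorem neg_one_central (A : SpecialLinearGroup (Fin 2) F) (hA : (A : Matrix (Fin 2) (Fin 2) F) = -1) :
    A ∈ Subgroup.center (SpecialLinearGroup (Fin 2) F) :=
  Subgroup.mem_center_iff.2 fun B => Subtype.ext (by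
    show (B : Matrix (Fin 2) (Fin 2) F) * A = A * B
    rw [hA, mul_neg, neg_mul, mul_one, one_mul])

/-- A witness in `L₂(q)` for `q` congruent to one or seven modulo eight. -/
theorem not_abTwo_psl (h8 : Fintype.card F % 8 = 1 ∨ Fintype.card F % 8 = 7) :
    ¬ AbTwo (ProjectiveSpecialLinearGroup (Fin 2) F) := by
  intro h
  obtain ⟨s, hs⟩ : IsSquare (2 : F) := FiniteField.isSquare_two_iff.2 ⟨by omega, by omega⟩
  have hodd : ringChar F ≠ 2 := fun e => by
    have := FiniteField.even_card_of_char_two e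
    omega
  have h2 : (2 : F) ≠ 0 := Ring.two_ne_zero hodd
  have hs0 : s ≠ 0 := fun e => h2 (by rw [hs, e, mul_zero])
  obtain ⟨c, hc⟩ : ∃ c : F, c * c + c * c = 1 := ⟨s⁻¹, by
    rw [show s⁻¹ * s⁻¹ + s⁻¹ * s⁻¹ = 2 * (s⁻¹ * s⁻¹) by ring, hs]
    field_simp⟩
  obtain ⟨p, hp⟩ := CharP.exists F
  haveI := hp
  haveI : NeZero p := ⟨(CharP.char_is_prime F p).ne_zero⟩
  obtain ⟨a, b, hab⟩ := CharP.sq_add_sq F p (-1)
  rw [Int.cast_neg, Int.cast_one] at hab
  let R : SpecialLinearGroup (Fin 2) F := ⟨!![c, -c; c, c], by rw [det_fin_two_of]; linear_combination hc⟩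
  let M : SpecialLinearGroup (Fin 2) F := ⟨!![(a : F), (b : F); (b : F), -(a : F)], by
    rw [det_fin_two_of]; linear_combination -hab⟩
  let J : SpecialLinearGroup (Fin 2) F := ⟨!![0, -1; 1, 0], by rw [det_fin_two_of]; ring⟩
  have hR : R * R = J := Subtype.ext (by
    show !![c, -c; c, c] * !![c, -c; c, c] = !![0, -1; 1, 0]
    rw [Matrix.mul_fin_two]
    ext i j; fin_cases i <;> fin_cases j <;> simp <;> first | linear_combination hc | linear_combination -hc)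
  have hMM : M * M ∈ Subgroup.center _ := neg_one_central _ (by
    show !![(a : F), (b : F); (b : F), -(a : F)] * !![(a : F), (b : F); (b : F), -(a : F)] = -1
    rw [Matrix.mul_fin_two]
    ext i j; fin_cases i <;> fin_cases j <;> simp <;>
      first | linear_combination hab | linear_combination (0 : F) * hab)
  have hJJ : J * J ∈ Subgroup.center _ := neg_one_central _ (by
    show !![(0 : F), -1; 1, 0] * !![(0 : F), -1; 1, 0] = -1
    rw [Matrix.mul_fin_two]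
    ext i j; fin_cases i <;> fin_cases j <;> simp)
  have hRM : R * M * R = M := Subtype.ext (by
    show !![c, -c; c, c] * !![(a : F), (b : F); (b : F), -(a : F)] * !![c, -c; c, c] =
      !![(a : F), (b : F); (b : F), -(a : F)]
    rw [Matrix.mul_fin_two, Matrix.mul_fin_two]
    ext i j; fin_cases i <;> fin_cases j <;> simp <;>
      first | linear_combination (a : F) * hc | linear_combination (b : F) * hc | linear_combination -(a : F) * hc)
  let q : SpecialLinearGroup (Fin 2) F →* ProjectiveSpecialLinearGroup (Fin 2) F := QuotientGroup.mk' _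
  have hM1 : q M * q M = 1 := by rw [← map_mul]; exact (QuotientGroup.eq_one_iff _).2 hMM
  have hT1 : q (M * R) * q (M * R) = 1 := by
    rw [← map_mul, mul_assoc, ← mul_assoc R M R, hRM, map_mul]; exact hM1
  have hprod : q M * q (M * R) = q R := by rw [map_mul, ← mul_assoc, hM1, one_mul]
  have key := h.sq_eq_one (k := 2) hM1 hT1 (by
    rw [hprod, show (2 : ℕ) ^ 2 = 2 * 2 by norm_num, pow_mul, pow_two (q R), ← map_mul, hR, pow_two, ← map_mul]
    exact (QuotientGroup.eq_one_iff _).2 hJJ)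
  rw [hprod, pow_two, ← map_mul, hR] at key
  obtain ⟨r, -, hr⟩ := Matrix.SpecialLinearGroup.mem_center_iff.1
    ((QuotientGroup.eq_one_iff (N := Subgroup.center _) J).1 key)
  have e := congrArg (fun A : Matrix (Fin 2) (Fin 2) F => A 1 0) hr
  simp [J] at e

end PSL

/-- The arithmetic at the end. -/
theorem eq_three {p a : ℕ} (hp : p.Prime) (ha : Odd a) {d : ℤ}
    (h : 3 * d ^ 2 = ((p ^ a : ℕ) : ℤ) * (((p ^ a : ℕ) : ℤ) ^ 2 - 1) ^ 2) : p = 3 := by
  by_contra hne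
  have h1 : 1 ≤ (p ^ a) ^ 2 := Nat.one_le_pow _ _ (pow_pos hp.pos a)
  have e : 3 * d.natAbs ^ 2 = p ^ a * ((p ^ a) ^ 2 - 1) ^ 2 := by
    refine Int.natCast_inj.1 ?_
    push_cast [Nat.cast_sub h1, Int.natCast_natAbs, sq_abs] at h ⊢
    exact h
  have ha0 : a ≠ 0 := by rintro rfl; simp at ha
  have hM : ¬ p ∣ (p ^ a) ^ 2 - 1 := fun hd => by
    have h2 : p ∣ (p ^ a) ^ 2 := dvd_pow (dvd_pow_self p ha0) two_ne_zero
    have h3 := Nat.dvd_sub h2 hd
    rw [Nat.sub_sub_self h1, Nat.dvd_one] at h3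
    exact hp.one_lt.ne' h3
  have hM0 : (p ^ a) ^ 2 - 1 ≠ 0 := fun e0 => hM (e0 ▸ dvd_zero p)
  have hd0 : d.natAbs ≠ 0 := fun e0 => by
    rw [e0] at e
    simp [hp.ne_zero, hM0] at e
  have h3 := congrArg (fun n => n.factorization p) e
  simp only [Nat.factorization_mul (by norm_num : (3 : ℕ) ≠ 0) (pow_ne_zero 2 hd0),
    Nat.factorization_mul (pow_ne_zero a hp.ne_zero) (pow_ne_zero 2 hM0), Nat.factorization_pow,
    Finsupp.add_apply, Finsupp.smul_apply, hp.factorization_self,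
    Nat.prime_three.factorization, Finsupp.single_apply, Nat.factorization_eq_zero_of_not_dvd hM] at h3
  rw [if_neg (Ne.symm hne)] at h3
  rcases ha with ⟨b, rfl⟩
  simp at h3
  omega

variable {G : Type u} [Group G] [Finite G] [IsSimpleGroup G]

/-- The result, with the rows of degree `q² - q + 1` and `q³`. -/
theorem main_relation (hab : ∀ P : Sylow 2 G, ∀ a b : P, a * b = b * a)
    {F : Type v} [Field F] [Fintype F] (hq : 3 ≤ Fintype.card F) (t : G) (ht : orderOf t = 2)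
    (e : Subgroup.centralizer ({t} : Set G) ≃*
      Multiplicative (ZMod 2) × Matrix.ProjectiveSpecialLinearGroup (Fin 2) F) :
    (∃ m : ℕ, 1 ≤ m ∧ Fintype.card F = 3 ^ (2 * m + 1) ∧
        Nat.card G = (3 ^ (2 * m + 1)) ^ 3 * ((3 ^ (2 * m + 1)) ^ 3 + 1) * (3 ^ (2 * m + 1) - 1) ∧
        (∃ χ : Cfsg.IrrCharacter G, Cfsg.charDegree (χ : G → ℂ) =
          (3 ^ (2 * m + 1)) ^ 2 - 3 ^ (2 * m + 1) + 1) ∧
        ∃ χ : Cfsg.IrrCharacter G, Cfsg.charDegree (χ : G → ℂ) = (3 ^ (2 * m + 1)) ^ 3 ∧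
          ∃ (χ₁ χ₆ : Cfsg.IrrCharacter G) (a b c : ℤ),
            Cfsg.charDegree (χ₁ : G → ℂ) = (3 ^ (2 * m + 1)) ^ 2 - 3 ^ (2 * m + 1) + 1 ∧
            Cfsg.charDegree (χ₆ : G → ℂ) =
              3 ^ (2 * m + 1) * ((3 ^ (2 * m + 1)) ^ 2 - 3 ^ (2 * m + 1) + 1) ∧
            ((c = 1 ∨ c = -1) ∧
              ∃ (χ₂ χ₃ : Cfsg.IrrCharacter G) (e₂ e₃ : ℤ), (e₂ = 1 ∨ e₂ = -1) ∧ (e₃ = 1 ∨ e₃ = -1) ∧
                e₂ * (Cfsg.charDegree (χ₂ : G → ℂ) : ℤ) + e₃ * (Cfsg.charDegree (χ₃ : G → ℂ) : ℤ) =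
                  ((3 ^ (2 * m + 1) : ℕ) : ℤ) - ((3 ^ (2 * m + 1) : ℕ) : ℤ) ^ 2 ∧
                3 * (e₂ * (Cfsg.charDegree (χ₂ : G → ℂ) : ℤ) -
                    e₃ * (Cfsg.charDegree (χ₃ : G → ℂ) : ℤ)) ^ 2 =
                  ((3 ^ (2 * m + 1) : ℕ) : ℤ) * (((3 ^ (2 * m + 1) : ℕ) : ℤ) ^ 2 - 1) ^ 2 ∧
                ∀ g : G, ¬ 2 ∣ orderOf g →
                  (e₂ : ℂ) * (χ₂ : G → ℂ) g + (e₃ : ℂ) * (χ₃ : G → ℂ) g + (b : ℂ) * (χ₆ : G → ℂ) g +
                    (c : ℂ) * (χ : G → ℂ) g = 0) ∧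
            ∀ g : G, ¬ 2 ∣ orderOf g →
              1 + (a : ℂ) * (χ₁ : G → ℂ) g + (b : ℂ) * (χ₆ : G → ℂ) g + (c : ℂ) * (χ : G → ℂ) g = 0) ∨
      ((Fintype.card F = 4 ∨ Fintype.card F = 5) ∧ Cfsg.IsJ1 G) := by
  classical
  haveI : Fact (Nat.Prime 2) := ⟨Nat.prime_two⟩
  haveI := Fintype.ofFinite G
  obtain ⟨p, hp⟩ := CharP.exists F
  haveI := hp
  obtain ⟨a, hp', hF⟩ := FiniteField.card F p
  set q := Fintype.card F with hqdef
  -- the Sylow two-subgroup of `t`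
  obtain ⟨P, hP0⟩ := (IsPGroup.of_card (n := 1) (by rw [Nat.card_zpowers, ht, pow_one]) :
    IsPGroup 2 (zpowers t)).exists_le_sylow
  have htP : t ∈ (P : Subgroup G) := hP0 (mem_zpowers t)
  have hPc : ∀ x ∈ (P : Subgroup G), x * t = t * x := fun x hx =>
    congrArg Subtype.val (hab P ⟨x, hx⟩ ⟨t, htP⟩)
  have h2c : IsTwoCentralInvolution t := ⟨ht, P, htP, hPc⟩
  by_cases h3 : q = 3
  · obtain ⟨ψ⟩ := Cfsg.Agent.S0251.result (F := F) h3
    exact (Three.false_of_four hab t ht (e.trans ((MulEquiv.refl _).prodCongr ψ))).elim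
  by_cases h45 : q = 4 ∨ q = 5
  · obtain ⟨ψ⟩ : Nonempty (ProjectiveSpecialLinearGroup (Fin 2) F ≃* alternatingGroup (Fin 5)) :=
      h45.elim Cfsg.Agent.S0252.result Cfsg.Agent.S0253.result
    exact Or.inr ⟨h45, Cfsg.Agent.S0448.result t h2c (e.trans ((MulEquiv.refl _).prodCongr ψ))⟩
  push Not at h45
  rcases Nat.even_or_odd q with hev | hodd
  · -- even `q`
    exfalso
    have h2 : 2 ∣ p ^ (a : ℕ) := hF ▸ hev.two_dvd
    rw [← (Nat.prime_dvd_prime_iff_eq Nat.prime_two hp').1 (Nat.prime_two.dvd_of_dvd_pow h2)] at hF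
    refine Even.false_of_even hab (n := (a : ℕ)) ?_ hF t ht ⟨e⟩
    by_contra hlt
    have h4 : 2 ^ (a : ℕ) ≤ 2 ^ 2 := Nat.pow_le_pow_right two_pos (by omega)
    rw [← hF] at h4
    have := h45.1
    omega
  set φ : ProjectiveSpecialLinearGroup (Fin 2) F →* G := (centralizer ({t} : Set G)).subtype.comp
    (e.symm.toMonoidHom.comp (MonoidHom.inr (Multiplicative (ZMod 2)) _)) with hφ
  have hinj : Function.Injective φ := fun x y h => congrArg Prod.snd (e.symm.injective (Subtype.ext h))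
  have h8 : q % 8 = 3 ∨ q % 8 = 5 := by
    by_contra hc
    have h1 := Nat.odd_iff.1 hodd
    exact not_abTwo_psl (F := F) (by omega)
      ((abTwo_of_sylow fun S => ⟨⟨hab S⟩⟩).of_injective hinj)
  have hq11 : 11 ≤ q := by have := h45.2; omega
  -- the configuration
  obtain ⟨D, hDq⟩ := exists_LModel (L := ↥φ.range) (F := F) (MonoidHom.ofInjective hinj).symm hq11 h8
  have htC : t ∈ centralizer ({t} : Set G) := mem_centralizer_singleton_iff.2 rfl
  have hφt : ∀ l, φ l * t = t * φ l := fun l => mem_centralizer_singleton_iff.1 (e.symm _).2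
  obtain ⟨a0, ha0⟩ : ∃ a0 : Multiplicative (ZMod 2), e ⟨t, htC⟩ = (a0, 1) := by
    refine ⟨(e ⟨t, htC⟩).1, Prod.ext rfl ?_⟩
    set c := (e ⟨t, htC⟩).2
    have hc : ∀ l, c * l = l * c := fun l => by
      have h := congrArg (fun x => (e x).2)
        (Subtype.ext (hφt l) : (⟨φ l, (e.symm _).2⟩ : centralizer ({t} : Set G)) * ⟨t, htC⟩ =
          ⟨t, htC⟩ * ⟨φ l, (e.symm _).2⟩)
      simpa [hφ] using h.symm
    set c' : φ.range := ⟨φ c, c, rfl⟩
    have hc' : ∀ x : φ.range, c' * x = x * c' := by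
      rintro ⟨_, l, rfl⟩
      exact Subtype.ext (by show φ c * φ l = φ l * φ c; rw [← map_mul, ← map_mul, hc])
    have hr : D.r * c' * D.r⁻¹ = c' := by rw [← hc', mul_inv_cancel_right]
    suffices hc1 : c' = 1 from hinj (by rw [map_one]; exact congrArg Subtype.val hc1)
    rcases D.cent_four c' (hc' _) (hc' _) with h | h | h | h
    · exact h
    · exact absurd (h ▸ hr) D.r_z
    · rw [h] at hr
      exact absurd (mul_left_cancel (mul_right_cancel hr)) D.r_z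
    · rw [h] at hr
      have e2 : D.r * (D.z * (D.r * D.z * D.r⁻¹)) * D.r⁻¹ = D.z := by
        rw [conj_mul', D.r_cycle, ← mul_assoc, D.r_comm, mul_assoc, D.z'_sq, mul_one]
      have h1 := mul_left_cancel ((e2.symm.trans hr).symm.trans (mul_one D.z).symm)
      exact absurd (conj_eq_one_iff.1 h1) D.z_ne
  have ha0' : a0 ≠ 1 := fun h => by
    have h1 := congrArg Subtype.val (e.map_eq_one_iff.1 (ha0.trans (by rw [h]; rfl)))
    rw [show t = 1 from h1, orderOf_one] at ht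
    omega
  let S : Setup G φ.range :=
    { D := D
      φ := φ.range.subtype
      inj := φ.range.subtype_injective
      t := t
      t_sq := by rw [← sq, ← ht, pow_orderOf_eq_one]
      t_ne := fun h => by rw [h, orderOf_one] at ht; omega
      comm := by rintro ⟨_, l, rfl⟩; exact (hφt l).symm
      not_mem := by
        rintro ⟨_, l, rfl⟩ h
        have h' : e.symm (1, l) = ⟨t, htC⟩ := Subtype.ext h
        have := congrArg e h'
        rw [e.apply_symm_apply, ha0] at this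
        exact ha0' (congrArg Prod.fst this).symm
      cent := fun g hg => by
        have hgC : g ∈ centralizer ({t} : Set G) := mem_centralizer_singleton_iff.2 hg
        refine ⟨⟨φ (e ⟨g, hgC⟩).2, _, rfl⟩, ?_⟩
        rcases Even.two_cases a0 (e ⟨g, hgC⟩).1 ha0' with h | h
        · left
          have : e ⟨g, hgC⟩ = (1, (e ⟨g, hgC⟩).2) := Prod.ext h rfl
          exact congrArg Subtype.val ((e.symm_apply_apply _).symm.trans (congrArg e.symm this))
        · right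
          have : e ⟨g, hgC⟩ = e ⟨t, htC⟩ * (1, (e ⟨g, hgC⟩).2) := by
            rw [ha0]; exact Prod.ext (by simpa using h) (by simp)
          have h' := congrArg e.symm this
          rw [map_mul, e.symm_apply_apply, e.symm_apply_apply] at h'
          exact congrArg Subtype.val h'
      odd_index := by
        rw [Nat.odd_iff]
        have hle : (P : Subgroup G) ≤ centralizer ({t} : Set G) := fun x hx =>
          mem_centralizer_singleton_iff.2 (hPc x hx)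
        have h2 := P.not_dvd_index
        by_contra hne
        exact h2 ((Nat.dvd_of_mod_eq_zero (by omega)).trans (index_dvd_of_le hle)) }
  have hna : ¬ IsMulCommutative G := fun h =>
    D.r_z (Subtype.ext (by simp [h.is_comm.comm (D.r : G) (D.z : G)]))
  obtain ⟨R⟩ := S.nonempty_rot hna
  have hconcl : Setup.MovesConcl S := by
    by_cases hR : R.Triv
    · rcases Setup.exists_core hna R hR with ⟨⟨X⟩, hT⟩ | ⟨⟨X⟩, hT⟩ <;>
        rcases S.exists_table hna with ⟨⟨Tb⟩⟩ | ⟨⟨Tb⟩⟩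
      · exact (Tb.false_four8 hna X hT).elim
      · exact (Tb.false_four7 hna X hT).elim
      · exact (Tb.false_five8 hna X hT).elim
      · exact (Tb.false_five7 hna X hT).elim
    · rcases S.exists_table hna with ⟨⟨Tb⟩⟩ | ⟨⟨Tb⟩⟩
      · exact Tb.moves8 R hna hR
      · exact (Tb.moves7 R hna hR).elim
  -- the arithmetic
  obtain ⟨hN, ⟨d, hd⟩, ⟨χ, hχ⟩, χ', hχ', χ₁, χ₆, ca, cb, cc, hd₁, hd₆, ⟨hcc, χ₂, χ₃, e₂, e₃, he₂, he₃, hs₂, hp₂, hrel₂⟩, hrel⟩ := hconcl
  have hSq : S.D.q = q := hDq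
  have hQ11 := S.eleven_le
  have hσ : S.D.σ = 1 := by
    refine S.D.σ_cases.resolve_right fun h => ?_
    rw [LModel.Q, h, neg_one_mul, hSq] at hd
    have h1 : 0 < ((q : ℤ) ^ 2 - 1) ^ 2 := by
      have : (11 : ℤ) ≤ q := by exact_mod_cast hq11
      exact pow_pos (by nlinarith) 2
    have h2 : (11 : ℤ) ≤ q := by exact_mod_cast hq11
    rw [neg_sq] at hd
    nlinarith [sq_nonneg d]
  rw [LModel.Q, hσ, one_mul, hSq] at hd hN hχ hχ' hd₁ hd₆ hs₂ hp₂
  have hSF : q % 8 = 3 := by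
    rcases S.D.sign with ⟨-, h⟩ | ⟨h, -⟩
    · rwa [hSq] at h
    · rw [hσ] at h; norm_num at h
  have hao : Odd (a : ℕ) := by
    obtain ⟨b, hb | hb⟩ := Nat.even_or_odd' (a : ℕ)
    · exfalso
      rw [hb, pow_mul'] at hF
      have hs := Nat.pow_mod (p ^ b) 2 8
      rw [← hF, hSF] at hs
      have hlt : p ^ b % 8 < 8 := Nat.mod_lt _ (by norm_num)
      interval_cases p ^ b % 8 <;> simp at hs
    · exact ⟨b, hb⟩
  have hp3 : p = 3 := eq_three hp' hao (d := d) (by rw [← hF]; exact hd)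
  obtain ⟨m, hm⟩ := hao
  rw [hp3, hm] at hF
  refine Or.inl ⟨m, ?_, hF, ?_, ⟨χ, ?_⟩, χ', ?_, χ₁, χ₆, ca, cb, cc, ?_, ?_,
    ⟨hcc, χ₂, χ₃, e₂, e₃, he₂, he₃, by rw [← hF]; exact hs₂, by rw [← hF]; exact hp₂, hrel₂⟩, hrel⟩
  · rcases Nat.eq_zero_or_pos m with rfl | h
    · norm_num at hF; omega
    · exact h
  rotate_left
  · rw [← hF]
    have hq2 : q ≤ q ^ 2 := Nat.le_self_pow two_ne_zero q
    zify [hq2]
    exact hχ
  · rw [← hF]
    have h1 : (1 : ℤ) ≤ (q : ℤ) := by exact_mod_cast le_trans (by norm_num) hq11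
    rcases hχ' with h | h
    · exact_mod_cast h
    · have h0 : (0 : ℤ) ≤ (charDegree (χ' : G → ℂ) : ℤ) := Int.natCast_nonneg _
      have h3 : (1 : ℤ) ≤ (q : ℤ) ^ 3 := one_le_pow₀ h1
      omega
  · rw [← hF]
    have hq2 : q ≤ q ^ 2 := Nat.le_self_pow two_ne_zero q
    zify [hq2]
    exact hd₁
  · rw [← hF]
    have hq2 : q ≤ q ^ 2 := Nat.le_self_pow two_ne_zero q
    zify [hq2]
    rcases hd₆ with h | h
    · exact h
    · have h0 : (0 : ℤ) ≤ (charDegree (χ₆ : G → ℂ) : ℤ) := Int.natCast_nonneg _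
      have h1 : (11 : ℤ) ≤ (q : ℤ) := by exact_mod_cast hq11
      have h2 : (1 : ℤ) ≤ (q : ℤ) * ((q : ℤ) ^ 2 - q + 1) := by nlinarith
      omega
  rw [← hF]
  have hG := S.card_G
  rw [hSq] at hG
  refine Int.natCast_inj.1 ?_
  rw [hG]
  push_cast [Nat.cast_sub (show 1 ≤ q * q by nlinarith), Nat.cast_sub (show 1 ≤ q by omega)]
  rw [hN]
  ring

/-- The result, with the rows of degree `q² - q + 1` and `q³`. -/
theorem main_rows (hab : ∀ P : Sylow 2 G, ∀ a b : P, a * b = b * a)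
    {F : Type v} [Field F] [Fintype F] (hq : 3 ≤ Fintype.card F) (t : G) (ht : orderOf t = 2)
    (e : Subgroup.centralizer ({t} : Set G) ≃*
      Multiplicative (ZMod 2) × Matrix.ProjectiveSpecialLinearGroup (Fin 2) F) :
    (∃ m : ℕ, 1 ≤ m ∧ Fintype.card F = 3 ^ (2 * m + 1) ∧
        Nat.card G = (3 ^ (2 * m + 1)) ^ 3 * ((3 ^ (2 * m + 1)) ^ 3 + 1) * (3 ^ (2 * m + 1) - 1) ∧
        (∃ χ : Cfsg.IrrCharacter G, Cfsg.charDegree (χ : G → ℂ) =
          (3 ^ (2 * m + 1)) ^ 2 - 3 ^ (2 * m + 1) + 1) ∧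
        ∃ χ : Cfsg.IrrCharacter G, Cfsg.charDegree (χ : G → ℂ) = (3 ^ (2 * m + 1)) ^ 3) ∨
      ((Fintype.card F = 4 ∨ Fintype.card F = 5) ∧ Cfsg.IsJ1 G) :=
  (main_relation hab hq t ht e).imp_left fun ⟨m, h1, h2, h3, h4, χ, h5, _⟩ => ⟨m, h1, h2, h3, h4, χ, h5⟩

/-- The result, with the row of degree `q² - q + 1`. -/
theorem main_data (hab : ∀ P : Sylow 2 G, ∀ a b : P, a * b = b * a)
    {F : Type v} [Field F] [Fintype F] (hq : 3 ≤ Fintype.card F) (t : G) (ht : orderOf t = 2)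
    (e : Subgroup.centralizer ({t} : Set G) ≃*
      Multiplicative (ZMod 2) × Matrix.ProjectiveSpecialLinearGroup (Fin 2) F) :
    (∃ m : ℕ, 1 ≤ m ∧ Fintype.card F = 3 ^ (2 * m + 1) ∧
        Nat.card G = (3 ^ (2 * m + 1)) ^ 3 * ((3 ^ (2 * m + 1)) ^ 3 + 1) * (3 ^ (2 * m + 1) - 1) ∧
        ∃ χ : Cfsg.IrrCharacter G, Cfsg.charDegree (χ : G → ℂ) =
          (3 ^ (2 * m + 1)) ^ 2 - 3 ^ (2 * m + 1) + 1) ∨
      ((Fintype.card F = 4 ∨ Fintype.card F = 5) ∧ Cfsg.IsJ1 G) :=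
  (main_rows hab hq t ht e).imp_left fun ⟨m, h1, h2, h3, h4, _⟩ => ⟨m, h1, h2, h3, h4⟩

/-- The result. -/
theorem main (hab : ∀ P : Sylow 2 G, ∀ a b : P, a * b = b * a)
    {F : Type v} [Field F] [Fintype F] (hq : 3 ≤ Fintype.card F) (t : G) (ht : orderOf t = 2)
    (e : Subgroup.centralizer ({t} : Set G) ≃*
      Multiplicative (ZMod 2) × Matrix.ProjectiveSpecialLinearGroup (Fin 2) F) :
    (∃ m : ℕ, 1 ≤ m ∧ Fintype.card F = 3 ^ (2 * m + 1) ∧
        Nat.card G = (3 ^ (2 * m + 1)) ^ 3 * ((3 ^ (2 * m + 1)) ^ 3 + 1) * (3 ^ (2 * m + 1) - 1)) ∨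
      ((Fintype.card F = 4 ∨ Fintype.card F = 5) ∧ Cfsg.IsJ1 G) :=
  (main_data hab hq t ht e).imp_left fun ⟨m, h1, h2, h3, _⟩ => ⟨m, h1, h2, h3⟩

end Cfsg.Lib.Walter8
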