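import Cfsg.Agent.Lib.Walter8.Torus
import Cfsg.Agent.S2202
import Cfsg.Agent.S0252
import Cfsg.Agent.Lib.Linear.PSLSmall
import Mathlib.GroupTheory.SpecificGroups.Alternating

/-!
# The centralizers of the nontrivial elements of the odd torus

Either they lie in the normalizer of the torus, or the torus is central in a direct product with
an alternating group of degree five.
-/

set_option autoImplicit false
set_option linter.unusedSectionVars false
set_option linter.unusedVariables false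
set_option linter.style.haveILetI false

namespace Cfsg.Lib.Walter8

open Subgroup

universe u

theorem alt_five_cent_aux : ∀ s x : alternatingGroup (Fin 5),
    ¬ (s * s = 1 ∧ s ≠ 1 ∧ x * s = s * x) ∨ x * x = 1 := by decide +kernel

theorem alt_five_cent (s x : alternatingGroup (Fin 5)) (h1 : s * s = 1) (h2 : s ≠ 1)
    (h3 : x * s = s * x) : x * x = 1 :=
  (alt_five_cent_aux s x).resolve_left fun h => h ⟨h1, h2, h3⟩

theorem alt_five_cycle_aux : ∀ s u : alternatingGroup (Fin 5),
    ¬ (s * s = 1 ∧ s ≠ 1 ∧ u * u = 1 ∧ u ≠ 1 ∧ u ≠ s ∧ u * s = s * u) ∨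
      ∃ a : alternatingGroup (Fin 5), a * s = u * a ∧ a * u = s * u * a := by decide +kernel

theorem alt_five_cycle (s u : alternatingGroup (Fin 5)) (h1 : s * s = 1) (h2 : s ≠ 1)
    (h3 : u * u = 1) (h4 : u ≠ 1) (h5 : u ≠ s) (h6 : u * s = s * u) :
    ∃ a : alternatingGroup (Fin 5), a * s * a⁻¹ = u ∧ a * u * a⁻¹ = s * u := by
  obtain ⟨a, ha, hb⟩ :=
    (alt_five_cycle_aux s u).resolve_left fun h => h ⟨h1, h2, h3, h4, h5, h6⟩
  exact ⟨a, by rw [ha, mul_inv_cancel_right], by rw [hb, mul_inv_cancel_right]⟩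

/-- `SL₂` over a field of four elements is the alternating group of degree five. -/
theorem sl_two_four {F : Type} [Field F] [Fintype F] [CharP F 2] (hF : Fintype.card F = 4) :
    Nonempty (Matrix.SpecialLinearGroup (Fin 2) F ≃* alternatingGroup (Fin 5)) := by
  obtain ⟨e⟩ := Cfsg.Agent.S0252.result hF
  have hc : Subgroup.center (Matrix.SpecialLinearGroup (Fin 2) F) = ⊥ := by
    rw [eq_bot_iff]
    intro g hg
    obtain ⟨r, hr, hrg⟩ := Matrix.SpecialLinearGroup.mem_center_iff.mp hg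
    have h1 : r = 1 := by
      rw [Fintype.card_fin] at hr
      have : (r - 1) ^ 2 = 0 := by
        rw [sub_sq, hr]
        linear_combination (1 - r) * CharTwo.two_eq_zero (R := F)
      exact sub_eq_zero.mp (pow_eq_zero_iff two_ne_zero |>.mp this)
    refine Subgroup.mem_bot.mpr (Subtype.ext ?_)
    rw [← hrg, h1, map_one]
    rfl
  exact ⟨(((QuotientGroup.quotientMulEquivOfEq hc).trans QuotientGroup.quotientBot).symm).trans e⟩

namespace Setup

variable {G L : Type u} [Group G] [Group L] (S : Setup G L)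
include S

theorem cent_torus_t {τ g : G} (hτ : τ ∈ S.Tsub) (hτ1 : τ ≠ 1) (h1 : g * τ = τ * g)
    (h2 : g * S.t = S.t * g) : g ∈ S.K := by
  obtain ⟨s, hs, rfl⟩ := S.mem_Tsub.mp hτ
  obtain ⟨l, hl⟩ := S.cent g h2
  have hls : l * s = s * l := by
    apply S.inj
    rcases hl with rfl | rfl
    · rwa [map_mul, map_mul]
    · rw [map_mul, map_mul]
      rw [mul_assoc, ← mul_assoc (S.φ s), ← S.comm, mul_assoc] at h1
      exact mul_left_cancel h1
  have hl' := S.D.cent_y s hs (fun e => hτ1 (by rw [e, map_one])) l hls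
  have hlK : S.φ l ∈ S.K := by
    rcases hl' with h | h
    · exact S.Tsub_le (S.mem_Tsub.mpr ⟨l, h, rfl⟩)
    · have : S.φ (l * S.D.z) * S.φ S.D.z ∈ S.K :=
        mul_mem (S.Tsub_le (S.mem_Tsub.mpr ⟨_, h, rfl⟩)) S.φz_mem_K
      rwa [← map_mul, mul_assoc, S.D.z_sq, mul_one] at this
  rcases hl with rfl | rfl
  · exact hlK
  · exact mul_mem S.t_mem_K hlK

/-- The torus is central in the centralizer of `τ`, which is a direct product with `A₅`. -/
structure Split (τ : G) where
  A : Subgroup G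
  le : A ≤ centralizer ({τ} : Set G)
  iso : A ≃* alternatingGroup (Fin 5)
  central : ∀ g : G, g * τ = τ * g → ∀ s ∈ S.Tsub, g * s = s * g
  cover : ∀ g : G, g * τ = τ * g → ∃ a ∈ A, ∃ s ∈ S.Tsub, g = a * s
  four_le : ∀ v, S.InV v → v ∈ A

variable [Finite G] [IsSimpleGroup G] (hna : ¬ IsMulCommutative G)
include hna

/-- Every involution of the centralizer of `τ` is conjugate there to one of the four-group. -/
theorem four_sylow {τ : G} (hτ : τ ∈ S.Tsub) (hτ1 : τ ≠ 1) :
    ∃ P : Sylow 2 (centralizer ({τ} : Set G)),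
      ∀ x : centralizer ({τ} : Set G), x ∈ (P : Subgroup _) ↔ S.InV x := by
  haveI : Fact (Nat.Prime 2) := ⟨Nat.prime_two⟩
  set M := centralizer ({τ} : Set G)
  have hle : S.Vsub ≤ M := fun v hv =>
    mem_centralizer_singleton_iff.mpr (S.K_comm hv.1 (S.Tsub_le hτ))
  have hV2 : IsPGroup 2 (S.Vsub.subgroupOf M) := IsPGroup.of_card (n := 2) (by
    rw [Nat.card_congr (subgroupOfEquivOfLe hle).toEquiv, S.card_Vsub]; norm_num)
  obtain ⟨P, hP⟩ := hV2.exists_le_sylow
  refine ⟨P, fun x => ⟨fun hx => ?_, fun hx => hP (mem_subgroupOf.mpr (S.mem_Vsub.mpr hx))⟩⟩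
  obtain ⟨hsq, hcomm, -⟩ := S.isPGroup_sq (P.isPGroup'.map M.subtype)
  have htM : S.t ∈ M := hle ⟨S.t_mem_K, S.t_sq⟩
  have htP : S.t ∈ (P : Subgroup M).map M.subtype :=
    ⟨⟨S.t, htM⟩, hP (mem_subgroupOf.mpr ⟨S.t_mem_K, S.t_sq⟩), rfl⟩
  have hxP : (x : G) ∈ (P : Subgroup M).map M.subtype := ⟨x, hx, rfl⟩
  exact S.inV_iff.mpr ⟨S.cent_torus_t hτ hτ1 (mem_centralizer_singleton_iff.mp x.2)
    (hcomm _ hxP _ htP), hsq _ hxP⟩

/-- The centralizer of a nontrivial element of the odd torus. -/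
theorem cent_cases {τ : G} (hτ : τ ∈ S.Tsub) (hτ1 : τ ≠ 1) :
    centralizer ({τ} : Set G) ≤ S.Nm ∨ Nonempty (Split S τ) := by
  classical
  haveI : Fact (Nat.Prime 2) := ⟨Nat.prime_two⟩
  obtain ⟨ρ, hρN, hρ3, hρ1, hρ2, hρ3'⟩ := S.exists_rho hna
  set M := centralizer ({τ} : Set G) with hM
  obtain ⟨P, hP⟩ := S.four_sylow hna hτ hτ1
  have hmem : ∀ {g : G}, g ∈ M ↔ g * τ = τ * g := mem_centralizer_singleton_iff
  -- all involutions have abelian centralizers
  have hab : ∀ v : M, orderOf v = 2 → IsMulCommutative (centralizer ({v} : Set M)) := by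
    intro v hv
    have hv2 : v * v = 1 := by rw [← sq, ← hv, pow_orderOf_eq_one]
    have hv1 : v ≠ 1 := fun e => by rw [e, orderOf_one] at hv; omega
    obtain ⟨R, hR⟩ := (IsPGroup.of_card (n := 1) (show Nat.card (zpowers v) = 2 ^ 1 by
      rw [Nat.card_zpowers, hv, pow_one])).exists_le_sylow
    obtain ⟨c, hc⟩ := MulAction.exists_smul_eq M R P
    have hcv : c * v * c⁻¹ ∈ (P : Subgroup M) := by
      rw [← hc, Sylow.coe_subgroup_smul]
      exact ⟨v, hR (mem_zpowers v), rfl⟩
    have hw : S.InV ((c : G) * v * (c : G)⁻¹) := (hP _).mp hcv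
    have hcτ : (c : G) * τ = τ * c := hmem.mp c.2
    have hvG : (v : G) * v = 1 := congrArg Subtype.val hv2
    have hvG1 : (v : G) ≠ 1 := fun e => hv1 (Subtype.ext e)
    refine ⟨⟨fun g h => Subtype.ext (Subtype.ext ?_)⟩⟩
    have hg := congrArg Subtype.val (mem_centralizer_singleton_iff.mp g.2)
    have hh := congrArg Subtype.val (mem_centralizer_singleton_iff.mp h.2)
    simp only [Subgroup.coe_mul] at hg hh ⊢
    -- move the involution onto `t`
    obtain ⟨d, hdτ, hd⟩ : ∃ d : G, (d * τ * d⁻¹ ∈ S.Tsub ∧ d * τ * d⁻¹ ≠ 1) ∧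
        d * ((c : G) * v * (c : G)⁻¹) * d⁻¹ = S.t := by
      have hT : ∀ {d : G}, d ∈ S.Nm → d * τ * d⁻¹ ∈ S.Tsub := by
        intro d hd
        obtain ⟨σ, hσ, rfl⟩ := S.exists_sq_of_mem_Tsub hτ
        rw [conj_mul']
        exact S.sq_mem_Tsub ((mem_normalizer_iff.mp hd σ).mp (S.Tsub_le hσ))
      have hne : ∀ d : G, d * τ * d⁻¹ ≠ 1 := fun d e => hτ1 (conj_eq_one_iff.mp e)
      rcases hw with h | h | h | h
      · exact absurd (conj_eq_one_iff.mp h) hvG1
      · exact ⟨1, ⟨hT (one_mem _), hne _⟩, by rw [h]; group⟩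
      · refine ⟨ρ⁻¹, ⟨hT (inv_mem hρN), hne _⟩, ?_⟩
        rw [h, ← hρ1]; group
      · exact ⟨ρ, ⟨hT hρN, hne _⟩, by rw [h, hρ3']⟩
    -- transfer to the conjugate torus element
    set w := d * (c : G)
    have key : ∀ x : G, x * τ = τ * x → x * v = v * x → w * x * w⁻¹ ∈ S.K := fun x h1 h2 => by
      have e : ∀ y : G, w * y * w⁻¹ = d * ((c : G) * y * (c : G)⁻¹) * d⁻¹ := fun y => by
        simp [w, mul_assoc]
      have ht : w * v * w⁻¹ = S.t := (e v).trans hd
      have hτ' : w * τ * w⁻¹ = d * τ * d⁻¹ := by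
        rw [e, mul_inv_eq_iff_eq_mul.mpr hcτ]
      refine S.cent_torus_t hdτ.1 hdτ.2 ?_ ?_
      · rw [← hτ', ← conj_mul', ← conj_mul', h1]
      · rw [← ht, ← conj_mul', ← conj_mul', h2]
    have := S.K_comm (key g (hmem.mp g.1.2) hg) (key h (hmem.mp h.1.2) hh)
    rw [← conj_mul', ← conj_mul'] at this
    exact mul_left_cancel (mul_right_cancel this)
  have htM : S.t ∈ M := hmem.mpr (S.K_comm S.t_mem_K (S.Tsub_le hτ))
  have hev : Even (Nat.card M) := by
    rw [even_iff_two_dvd, ← orderOf_eq_prime (show (⟨S.t, htM⟩ : M) ^ 2 = 1 from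
      Subtype.ext (by rw [sq]; exact S.t_sq)) (fun e => S.t_ne (congrArg Subtype.val e))]
    exact orderOf_dvd_natCard _
  rcases Cfsg.Agent.S2202.result hev hab with hcyc | hnorm | ⟨F, hF1, hF2, A₀, hA1, hA2, hchar, hodd, ⟨e⟩⟩
  · exfalso
    haveI := hcyc P
    have hc : Nat.card P = 4 := by
      rw [← S.card_Vsub]
      refine Nat.card_congr (Equiv.ofBijective (fun x : P => (⟨((x : M) : G),
        S.mem_Vsub.mpr ((hP _).mp x.2)⟩ : S.Vsub)) ⟨fun a b h => ?_, fun v => ?_⟩)
      · exact Subtype.ext (Subtype.ext (Subtype.mk.injEq .. ▸ h : ((a : M) : G) = (b : M)))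
      · have hvM : (v : G) ∈ M := hmem.mpr (S.K_comm v.2.1 (S.Tsub_le hτ))
        exact ⟨⟨⟨v, hvM⟩, (hP _).mpr (S.mem_Vsub.mp v.2)⟩, rfl⟩
    obtain ⟨g, hg⟩ := IsCyclic.exists_ofOrder_eq_natCard (α := P)
    have : g * g = 1 := Subtype.ext (Subtype.ext ((hP (g : M)).mp g.2).sq)
    have h2 := orderOf_dvd_of_pow_eq_one (show g ^ 2 = 1 by rw [sq, this])
    rw [hg, hc] at h2
    norm_num at h2
  · refine Or.inl fun g hg => S.mem_Nm_of_four fun v hv => ?_
    have hvM : v ∈ M := hmem.mpr (S.K_comm hv.mem_K (S.Tsub_le hτ))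
    exact (hP _).mp ((hnorm P).conj_mem ⟨v, hvM⟩ ((hP _).mpr hv) ⟨g, hg⟩)
  · refine Or.inr ?_
    haveI := hchar
    -- `M ≅ SL₂(F) × A₀`, the field has four elements
    have hinvol : ∀ x : M, x * x = 1 → (e x).2 = 1 := by
      intro x hx
      have h2 : (e x).2 * (e x).2 = 1 := by rw [← Prod.snd_mul, ← map_mul, hx, map_one]; rfl
      by_contra h
      have := orderOf_dvd_natCard (G := A₀) (e x).2
      rw [orderOf_eq_prime (by rw [sq, h2]) h] at this
      rw [Nat.odd_iff] at hodd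
      omega
    haveI : Fact (Nat.Prime 2) := ⟨Nat.prime_two⟩
    obtain ⟨n, hn2, hn⟩ := FiniteField.card F 2
    have hF4 : Fintype.card F = 4 := by
      let ε : Multiplicative F →* M :=
        e.symm.toMonoidHom.comp ((MonoidHom.inl _ A₀).comp (MonoidHom.mk'
          (fun a : Multiplicative F =>
            (⟨!![1, Multiplicative.toAdd a; 0, 1], by simp [Matrix.det_fin_two_of]⟩ :
              Matrix.SpecialLinearGroup (Fin 2) F))
          (fun a b => Subtype.ext (by
            show !![1, Multiplicative.toAdd (a * b); 0, 1] =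
              !![1, Multiplicative.toAdd a; 0, 1] * !![1, Multiplicative.toAdd b; 0, 1]
            ext i j; fin_cases i <;> fin_cases j <;>
              simp [Matrix.mul_apply, Fin.sum_univ_two, add_comm]))))
      have hinj : Function.Injective ε := fun a b h => by
        have h' := congrArg (fun x => (x.1 : Matrix (Fin 2) (Fin 2) F) 0 1) (e.symm.injective h)
        exact Multiplicative.toAdd.injective h'
      have hr2 : IsPGroup 2 ε.range := by
        refine IsPGroup.of_card (n := n) ?_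
        rw [Nat.card_congr (MonoidHom.ofInjective hinj).toEquiv.symm, Nat.card_eq_fintype_card,
          Fintype.card_multiplicative, hn]
      obtain ⟨R, hR⟩ := hr2.exists_le_sylow
      have hle : Fintype.card F ≤ 4 := by
        rw [← Fintype.card_multiplicative, ← Nat.card_eq_fintype_card,
          Nat.card_congr (MonoidHom.ofInjective hinj).toEquiv]
        refine (card_le_of_le hR).trans ?_
        rw [Nat.card_congr (Sylow.equiv R P).toEquiv, ← S.card_Vsub]
        exact Nat.card_le_card_of_injective (fun x : P => (⟨((x : M) : G),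
          S.mem_Vsub.mpr ((hP _).mp x.2)⟩ : S.Vsub))
          fun a b h => Subtype.ext (Subtype.ext (Subtype.mk.injEq .. ▸ h : ((a : M) : G) = (b : M)))
      have hn0 : 1 ≤ (n : ℕ) := n.pos
      by_contra h
      have hn1 : (n : ℕ) = 1 := by
        by_contra h'
        have : 4 ≤ 2 ^ (n : ℕ) := (show 2 ^ 2 = 4 by norm_num) ▸ Nat.pow_le_pow_right (by norm_num) (by omega)
        omega
      -- a group with a Sylow subgroup of order four is not `SL₂(2) × odd`
      have hcardF : Fintype.card F = 2 := by rw [hn, hn1, pow_one]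
      have hS6 : Nat.card (Matrix.SpecialLinearGroup (Fin 2) F) = 6 := by
        have h1 := Cfsg.Lib.Linear.Two.card_SL_two (F := F)
        rw [hcardF] at h1
        simpa using h1
      have hPc : 4 ∣ Nat.card M := by
        have := P.toSubgroup.card_subgroup_dvd_card
        refine dvd_trans ?_ this
        rw [← S.card_Vsub]
        refine dvd_of_eq (Nat.card_congr (Equiv.ofBijective (fun x : P => (⟨((x : M) : G),
          S.mem_Vsub.mpr ((hP _).mp x.2)⟩ : S.Vsub)) ⟨fun a b h => ?_, fun v => ?_⟩)).symm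
        · exact Subtype.ext (Subtype.ext (Subtype.mk.injEq .. ▸ h : ((a : M) : G) = (b : M)))
        · exact ⟨⟨⟨v, hmem.mpr (S.K_comm v.2.1 (S.Tsub_le hτ))⟩, (hP _).mpr (S.mem_Vsub.mp v.2)⟩, rfl⟩
      rw [Nat.card_congr e.toEquiv, Nat.card_prod, hS6] at hPc
      rw [Nat.odd_iff] at hodd
      omega
    obtain ⟨i₅⟩ := sl_two_four hF4
    let π : M →* alternatingGroup (Fin 5) :=
      i₅.toMonoidHom.comp ((MonoidHom.fst _ A₀).comp e.toMonoidHom)
    set A : Subgroup G := (MonoidHom.ker ((MonoidHom.snd _ A₀).comp e.toMonoidHom)).map M.subtype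
    have hAiso : Function.Bijective fun x : (MonoidHom.ker ((MonoidHom.snd _ A₀).comp e.toMonoidHom)) =>
        π (x : M) := by
      constructor
      · intro a b h
        refine Subtype.ext (e.injective (Prod.ext (i₅.injective h) ?_))
        have ha : (e a).2 = 1 := a.2
        have hb : (e b).2 = 1 := b.2
        rw [ha, hb]
      · intro s
        refine ⟨⟨e.symm (i₅.symm s, 1), ?_⟩, ?_⟩
        · show (e (e.symm (i₅.symm s, 1))).2 = 1
          rw [e.apply_symm_apply]
        · show i₅ (e (e.symm (i₅.symm s, 1))).1 = s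
          rw [e.apply_symm_apply, i₅.apply_symm_apply]
    have hsmall : ∀ x : M, (x : G) ∈ S.Tsub → π x = 1 := by
      intro x hx
      have hxt : x * (⟨S.t, htM⟩ : M) = ⟨S.t, htM⟩ * x :=
        Subtype.ext (S.K_comm (S.Tsub_le hx) S.t_mem_K)
      have ht2 : π ⟨S.t, htM⟩ * π ⟨S.t, htM⟩ = 1 := by
        rw [← map_mul, show (⟨S.t, htM⟩ : M) * ⟨S.t, htM⟩ = 1 from Subtype.ext S.t_sq, map_one]
      have ht1 : π ⟨S.t, htM⟩ ≠ 1 := by
        intro h
        refine S.t_ne (congrArg Subtype.val (e.injective (a₁ := ⟨S.t, htM⟩) (a₂ := 1) ?_))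
        rw [map_one]
        exact Prod.ext (i₅.injective (h.trans (map_one i₅).symm))
          (hinvol _ (Subtype.ext S.t_sq))
      have h2 := alt_five_cent _ (π x) ht2 ht1 (by rw [← map_mul, hxt, map_mul])
      have hT : π x ^ S.D.T = 1 := by
        rw [← map_pow, show x ^ S.D.T = 1 from Subtype.ext (S.Tsub_pow hx), map_one]
      obtain ⟨c, hc⟩ : Odd S.D.T := Nat.odd_iff.mpr S.D.T_facts.1
      rw [hc, pow_succ, pow_mul, sq, h2, one_pow, one_mul] at hT
      exact hT
    have hcentral : ∀ g : G, g * τ = τ * g → ∀ s ∈ S.Tsub, g * s = s * g := by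
      intro g hg s hs
      have hsM : s ∈ M := hmem.mpr (S.K_comm (S.Tsub_le hs) (S.Tsub_le hτ))
      have := e.injective (a₁ := ⟨g, hmem.mpr hg⟩ * ⟨s, hsM⟩) (a₂ := ⟨s, hsM⟩ * ⟨g, hmem.mpr hg⟩) (by
        rw [map_mul, map_mul]
        refine Prod.ext ?_ (mul_comm _ _)
        have h0 : (e ⟨s, hsM⟩).1 = 1 := i₅.injective ((hsmall ⟨s, hsM⟩ hs).trans (map_one i₅).symm)
        simp [h0])
      exact congrArg Subtype.val this
    refine ⟨⟨A, map_subtype_le _, ?_, hcentral, fun g hg => ?_, fun v hv => ?_⟩⟩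
    · exact (equivMapOfInjective _ M.subtype M.subtype_injective).symm.trans
        (MulEquiv.ofBijective (π.comp (Subgroup.subtype _)) hAiso)
    · set x : M := ⟨g, hmem.mpr hg⟩
      set s : M := e.symm (1, (e x).2) with hs
      have hse : e s = (1, (e x).2) := e.apply_symm_apply _
      refine ⟨_, ⟨x * s⁻¹, ?_, rfl⟩, (s : G), ?_, by simp [x]⟩
      · show (e (x * s⁻¹)).2 = 1
        rw [map_mul, map_inv, hse]
        simp
      · have hst : (s : G) * S.t = S.t * s := by
          have := e.injective (a₁ := s * ⟨S.t, htM⟩) (a₂ := ⟨S.t, htM⟩ * s) (by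
            rw [map_mul, map_mul, hse]
            refine Prod.ext ?_ (mul_comm _ _)
            simp)
          exact congrArg Subtype.val this
        have hsK := S.cent_torus_t hτ hτ1 (hmem.mp s.2) hst
        obtain ⟨w, hw, σ, hσ, hsw⟩ := S.exists_mul_of_mem_K hsK
        have hwM : w ∈ M := hmem.mpr (S.K_comm hw.mem_K (S.Tsub_le hτ))
        have hσM : σ ∈ M := hmem.mpr (S.K_comm (S.Tsub_le hσ) (S.Tsub_le hτ))
        have hes : e s = e ⟨w, hwM⟩ * e ⟨σ, hσM⟩ := by
          rw [← map_mul]; exact congrArg e (Subtype.ext hsw)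
        have h0 : (e ⟨w, hwM⟩).1 = 1 := by
          have h1 := congrArg Prod.fst hes
          rw [hse, Prod.fst_mul, show (e ⟨σ, hσM⟩).1 = 1 from
            i₅.injective ((hsmall ⟨σ, hσM⟩ hσ).trans (map_one i₅).symm), mul_one] at h1
          exact h1.symm
        have hw1 : w = 1 := by
          have := e.injective (a₁ := ⟨w, hwM⟩) (a₂ := 1) (by
            rw [map_one]
            exact Prod.ext h0 (hinvol _ (Subtype.ext hw.sq)))
          exact congrArg Subtype.val this
        rw [hsw, hw1, one_mul]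
        exact hσ
    · exact ⟨⟨v, hmem.mpr (S.K_comm hv.mem_K (S.Tsub_le hτ))⟩, hinvol _ (Subtype.ext hv.sq), rfl⟩

end Setup

end Cfsg.Lib.Walter8
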