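import Cfsg.Agent.Lib.Walter8.Centralizers

/-!
# The normalizer of the torus and the fusion in it
-/

set_option autoImplicit false
set_option linter.unusedSectionVars false
set_option linter.unusedVariables false
set_option linter.style.haveILetI false

namespace Cfsg.Lib.Walter8

open Subgroup

universe u

namespace Setup

variable {G L : Type u} [Group G] [Group L] (S : Setup G L)
include S

/-- An element of order three cycling the involutions of the torus. -/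
structure Rot where
  ρ : G
  mem : ρ ∈ S.Nm
  cube : ρ * ρ * ρ = 1
  rt : ρ * S.t * ρ⁻¹ = S.φ S.D.z
  rz : ρ * S.φ S.D.z * ρ⁻¹ = S.t * S.φ S.D.z
  rtz : ρ * (S.t * S.φ S.D.z) * ρ⁻¹ = S.t

theorem nonempty_rot [Finite G] [IsSimpleGroup G] (hna : ¬ IsMulCommutative G) :
    Nonempty (Rot S) := by
  obtain ⟨ρ, a, b, c, d, e⟩ := S.exists_rho hna
  exact ⟨⟨ρ, a, b, c, d, e⟩⟩

variable {S}
variable (R : Rot S)

/-- The rotation fixes the torus pointwise. -/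
def Rot.Triv : Prop := ∀ s ∈ S.Tsub, R.ρ * s = s * R.ρ

theorem conj_Tsub [Finite G] {g : G} (hg : g ∈ S.Nm) {τ : G} (hτ : τ ∈ S.Tsub) :
    g * τ * g⁻¹ ∈ S.Tsub := by
  obtain ⟨σ, hσ, rfl⟩ := S.exists_sq_of_mem_Tsub hτ
  rw [conj_mul']
  exact S.sq_mem_Tsub ((mem_normalizer_iff.mp hg σ).mp (S.Tsub_le hσ))

theorem Rot.triv_of_y (h : R.ρ * S.φ S.D.y = S.φ S.D.y * R.ρ) : R.Triv := fun s hs => by
  obtain ⟨k, rfl⟩ := mem_zpowers_iff.mp hs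
  exact (Commute.zpow_right h k).eq

theorem Tsub_comm {a b : G} (ha : a ∈ S.Tsub) (hb : b ∈ S.Tsub) : a * b = b * a :=
  S.K_comm (S.Tsub_le ha) (S.Tsub_le hb)

theorem eq_one_of_inv_eq {a : G} (ha : a ∈ S.Tsub) (h : a⁻¹ = a) : a = 1 :=
  S.Tsub_sq_eq_one ha (by nth_rewrite 1 [← h]; exact inv_mul_cancel a)

theorem Rot.pow_cube : R.ρ ^ 3 = 1 := by
  rw [show R.ρ ^ 3 = R.ρ * R.ρ * R.ρ by simp [pow_succ], R.cube]

/-- A power of the rotation cannot invert an element of the torus. -/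
theorem Rot.not_inverts {j : ℕ} {τ : G} (hτ : τ ∈ S.Tsub) (hτ1 : τ ≠ 1) :
    R.ρ ^ j * τ * (R.ρ ^ j)⁻¹ ≠ τ⁻¹ := by
  intro h
  have h' : R.ρ ^ j * τ⁻¹ * (R.ρ ^ j)⁻¹ = τ := by rw [← conj_inv, h, inv_inv]
  have h3 : (R.ρ ^ j) * (R.ρ ^ j) * (R.ρ ^ j) = 1 := by
    rw [← pow_add, ← pow_add, show j + j + j = 3 * j by ring, pow_mul, R.pow_cube, one_pow]
  refine hτ1 (eq_one_of_inv_eq hτ ?_)
  calc τ⁻¹ = R.ρ ^ j * (R.ρ ^ j * (R.ρ ^ j * τ * (R.ρ ^ j)⁻¹) * (R.ρ ^ j)⁻¹) * (R.ρ ^ j)⁻¹ := by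
        rw [h, h', h]
    _ = (R.ρ ^ j * R.ρ ^ j * R.ρ ^ j) * τ * (R.ρ ^ j * R.ρ ^ j * R.ρ ^ j)⁻¹ := by group
    _ = τ := by rw [h3]; group

theorem Rot.exists_rep [Finite G] [IsSimpleGroup G] {g : G} (hg : g ∈ S.Nm) :
    ∃ p : Fin 3 × Bool, ∃ k ∈ S.K, g = S.rep R.ρ p * k :=
  S.exists_rep R.mem R.cube R.rt R.rz hg

theorem Rot.rep_t (p : Fin 3 × Bool) {k : G} (hk : k ∈ S.K) :
    S.rep R.ρ p * k * S.t * (S.rep R.ρ p * k)⁻¹ = ![S.t, S.φ S.D.z, S.t * S.φ S.D.z] p.1 := by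
  obtain ⟨j, b⟩ := p
  have hkt : k * S.t * k⁻¹ = S.t := mul_inv_eq_iff_eq_mul.mpr (S.K_comm hk S.t_mem_K)
  have hb : (if b then S.φ S.D.i else 1) * S.t * (if b then S.φ S.D.i else 1)⁻¹ = S.t := by
    cases b
    · simp
    · simpa using S.ι_facts.2.1
  rw [show S.rep R.ρ (j, b) * k * S.t * (S.rep R.ρ (j, b) * k)⁻¹ =
    R.ρ ^ (j : ℕ) * ((if b then S.φ S.D.i else 1) * (k * S.t * k⁻¹) *
      (if b then S.φ S.D.i else 1)⁻¹) * (R.ρ ^ (j : ℕ))⁻¹ by rw [rep]; group, hkt, hb]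
  fin_cases j
  · simp
  · simpa using R.rt
  · show R.ρ ^ 2 * S.t * (R.ρ ^ 2)⁻¹ = _
    rw [sq, show R.ρ * R.ρ * S.t * (R.ρ * R.ρ)⁻¹ = R.ρ * (R.ρ * S.t * R.ρ⁻¹) * R.ρ⁻¹ by group,
      R.rt, R.rz]
    rfl

/-- The conjugation of the torus by a representative. -/
theorem Rot.rep_torus (p : Fin 3 × Bool) {k τ : G} (hk : k ∈ S.K) (hτ : τ ∈ S.Tsub) :
    S.rep R.ρ p * k * τ * (S.rep R.ρ p * k)⁻¹ =
      R.ρ ^ (p.1 : ℕ) * (if p.2 then τ⁻¹ else τ) * (R.ρ ^ (p.1 : ℕ))⁻¹ := by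
  obtain ⟨j, b⟩ := p
  have hkτ : k * τ * k⁻¹ = τ := mul_inv_eq_iff_eq_mul.mpr (S.K_comm hk (S.Tsub_le hτ))
  rw [show S.rep R.ρ (j, b) * k * τ * (S.rep R.ρ (j, b) * k)⁻¹ =
    R.ρ ^ (j : ℕ) * ((if b then S.φ S.D.i else 1) * (k * τ * k⁻¹) *
      (if b then S.φ S.D.i else 1)⁻¹) * (R.ρ ^ (j : ℕ))⁻¹ by rw [rep]; group, hkτ]
  cases b
  · simp
  · simp only [if_true]
    rw [S.ι_facts.2.2.2 τ hτ]

variable [Finite G] [IsSimpleGroup G]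
include R

/-- The elements of the normalizer fixing an element of the torus. -/
theorem Rot.stab_torus {g τ : G} (hg : g ∈ S.Nm) (hτ : τ ∈ S.Tsub) (hτ1 : τ ≠ 1)
    (h : g * τ = τ * g) : ∃ j : Fin 3, ∃ k ∈ S.K, g = R.ρ ^ (j : ℕ) * k ∧
      R.ρ ^ (j : ℕ) * τ = τ * R.ρ ^ (j : ℕ) := by
  obtain ⟨⟨j, b⟩, k, hk, rfl⟩ := R.exists_rep hg
  have h' := R.rep_torus (j, b) hk hτ
  rw [mul_inv_eq_iff_eq_mul.mpr h] at h'
  cases b
  · exact ⟨j, k, hk, by simp [rep], mul_inv_eq_iff_eq_mul.mp (by simpa using h'.symm)⟩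
  · exfalso
    refine R.not_inverts (j := (j : ℕ)) (inv_mem hτ) (inv_ne_one.mpr hτ1) ?_
    rw [inv_inv]
    simpa using h'.symm

/-- The involutions of the normalizer fixing an element of the torus are in the four-group. -/
theorem Rot.invol_stab_torus {g τ : G} (hg : g ∈ S.Nm) (hτ : τ ∈ S.Tsub) (hτ1 : τ ≠ 1)
    (h : g * τ = τ * g) (h2 : g * g = 1) : S.InV g := by
  obtain ⟨j, k, hk, rfl, -⟩ := R.stab_torus hg hτ hτ1 h
  refine S.inV_iff.mpr ⟨?_, h2⟩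
  fin_cases j
  · simpa using hk
  all_goals exfalso
  · have hkt : ∀ v, S.InV v → k * v * k⁻¹ = v := fun v hv =>
      mul_inv_eq_iff_eq_mul.mpr (S.K_comm hk hv.mem_K)
    have e : R.ρ * k * (R.ρ * k) * S.t * (R.ρ * k * (R.ρ * k))⁻¹ = S.t * S.φ S.D.z := by
      rw [show R.ρ * k * (R.ρ * k) * S.t * (R.ρ * k * (R.ρ * k))⁻¹ =
        R.ρ * (k * (R.ρ * (k * S.t * k⁻¹) * R.ρ⁻¹) * k⁻¹) * R.ρ⁻¹ by group, hkt _ S.t_inV, R.rt,
        hkt _ S.z_inV, R.rz]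
    simp only [pow_one] at h2
    rw [h2, one_mul, inv_one, mul_one] at e
    exact S.tz_facts.2.2.2.2.1 e.symm
  · have hkt : ∀ v, S.InV v → k * v * k⁻¹ = v := fun v hv =>
      mul_inv_eq_iff_eq_mul.mpr (S.K_comm hk hv.mem_K)
    have e : R.ρ * R.ρ * k * (R.ρ * R.ρ * k) * S.t * (R.ρ * R.ρ * k * (R.ρ * R.ρ * k))⁻¹ =
        S.φ S.D.z := by
      rw [show R.ρ * R.ρ * k * (R.ρ * R.ρ * k) * S.t * (R.ρ * R.ρ * k * (R.ρ * R.ρ * k))⁻¹ =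
        R.ρ * (R.ρ * (k * (R.ρ * (R.ρ * (k * S.t * k⁻¹) * R.ρ⁻¹) * R.ρ⁻¹) * k⁻¹) * R.ρ⁻¹) * R.ρ⁻¹
          by group, hkt _ S.t_inV, R.rt, R.rz, hkt _ S.tz_inV, R.rtz, R.rt]
    have h2' : R.ρ * R.ρ * k * (R.ρ * R.ρ * k) = 1 := by simpa [sq] using h2
    rw [h2', one_mul, inv_one, mul_one] at e
    exact S.tz_facts.2.2.2.1 e.symm

variable (hna : ¬ IsMulCommutative G)
include hna

theorem Split.triv {τ : G} (X : Split S τ) (hτ : τ ∈ S.Tsub) (hτ1 : τ ≠ 1) : R.Triv := by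
  obtain ⟨h1, h2, h3, h4, h5, h6⟩ := S.tz_facts
  set s : X.A := ⟨S.t, X.four_le _ S.t_inV⟩
  set u : X.A := ⟨S.φ S.D.z, X.four_le _ S.z_inV⟩
  have hs2 : s * s = 1 := Subtype.ext S.t_sq
  have hu2 : u * u = 1 := Subtype.ext S.z_inV.sq
  have hcomm : u * s = s * u := Subtype.ext (S.K_comm S.φz_mem_K S.t_mem_K)
  have hinj := X.iso.injective
  obtain ⟨a', ha, hb⟩ := alt_five_cycle (X.iso s) (X.iso u)
    (by rw [← map_mul, hs2, map_one])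
    (fun e => h1 (congrArg Subtype.val (hinj (e.trans (map_one X.iso).symm))))
    (by rw [← map_mul, hu2, map_one])
    (fun e => h2 (congrArg Subtype.val (hinj (e.trans (map_one X.iso).symm))))
    (fun e => h4 (congrArg Subtype.val (hinj e)))
    (by rw [← map_mul, ← map_mul, hcomm])
  obtain ⟨a, rfl⟩ := X.iso.surjective a'
  have ha' : (a : G) * S.t * (a : G)⁻¹ = S.φ S.D.z :=
    congrArg Subtype.val (hinj (a₁ := a * s * a⁻¹) (a₂ := u) (by simpa using ha))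
  have hb' : (a : G) * S.φ S.D.z * (a : G)⁻¹ = S.t * S.φ S.D.z :=
    congrArg Subtype.val (hinj (a₁ := a * u * a⁻¹) (a₂ := s * u) (by simpa using hb))
  have haM : (a : G) * τ = τ * a := mem_centralizer_singleton_iff.mp (X.le a.2)
  have haN : (a : G) ∈ S.Nm := by
    refine S.mem_Nm_of_four fun v hv => ?_
    rcases hv with rfl | rfl | rfl | rfl
    · exact Or.inl (by group)
    · rw [ha']; exact S.z_inV
    · rw [hb']; exact S.tz_inV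
    · rw [conj_mul', ha', hb', ← mul_assoc, ← S.comm, mul_assoc, ← map_mul, S.D.z_sq, map_one,
        mul_one]
      exact S.t_inV
  obtain ⟨j, k, hk, hak, -⟩ := R.stab_torus haN hτ hτ1 haM
  have hy : R.ρ ^ (j : ℕ) * S.φ S.D.y = S.φ S.D.y * R.ρ ^ (j : ℕ) := by
    have h := X.central a haM _ S.φy_mem
    rw [hak, mul_assoc, S.K_comm hk (S.Tsub_le S.φy_mem), ← mul_assoc, ← mul_assoc] at h
    exact mul_right_cancel h
  refine R.triv_of_y ?_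
  fin_cases j
  · exfalso
    simp only [pow_zero, one_mul] at hak
    rw [hak, mul_inv_eq_iff_eq_mul.mpr (S.K_comm hk S.t_mem_K)] at ha'
    exact h4 ha'.symm
  · simpa using hy
  · have hc : Commute (R.ρ ^ 2) (S.φ S.D.y) := hy
    have e : R.ρ ^ 2 * R.ρ ^ 2 = R.ρ := by
      rw [← pow_add, show 2 + 2 = 3 + 1 by rfl, pow_succ, R.pow_cube, one_mul]
    have := (hc.mul_left hc).eq
    rwa [e] at this

/-- When the rotation moves the torus, its centralizers lie in the normalizer. -/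
theorem Rot.cent_le (hR : ¬ R.Triv) {τ : G} (hτ : τ ∈ S.Tsub) (hτ1 : τ ≠ 1) :
    centralizer ({τ} : Set G) ≤ S.Nm :=
  (S.cent_cases hna hτ hτ1).resolve_right fun ⟨X⟩ => hR (X.triv R hna hτ hτ1)

theorem Rot.mem_Nm_of_torus (hR : ¬ R.Triv) {g τ : G} (hτ : τ ∈ S.Tsub) (hτ1 : τ ≠ 1)
    (h : g * τ * g⁻¹ ∈ S.Tsub) : g ∈ S.Nm := by
  refine S.mem_Nm_of_four fun v hv => ?_
  have hτ' : g * τ * g⁻¹ ≠ 1 := fun e => hτ1 (conj_eq_one_iff.mp e)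
  have hc : g * v * g⁻¹ * (g * τ * g⁻¹) = g * τ * g⁻¹ * (g * v * g⁻¹) := by
    rw [← conj_mul', ← conj_mul', S.K_comm hv.mem_K (S.Tsub_le hτ)]
  exact R.invol_stab_torus (R.cent_le hna hR h hτ' (mem_centralizer_singleton_iff.mpr hc)) h hτ' hc
    (by rw [← conj_mul', hv.sq]; group)

/-- Fusion of the elements of the torus outside the four-group. -/
theorem Rot.mem_Nm_of_fused (hR : ¬ R.Triv) {g x : G} (hx : x ∈ S.K) (hx2 : x * x ≠ 1)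
    (h : g * x * g⁻¹ ∈ S.K) : g ∈ S.Nm :=
  R.mem_Nm_of_torus hna hR (S.sq_mem_Tsub hx) hx2 (by rw [conj_mul']; exact S.sq_mem_Tsub h)

/-- The involutions inverting an element of the torus outside the four-group. -/
theorem Rot.inverter (hR : ¬ R.Triv) {g x : G} (hx : x ∈ S.K) (hx2 : x * x ≠ 1) (hg : g * g = 1)
    (h : g * x * g⁻¹ = x⁻¹) : g * S.φ S.D.i ∈ S.K := by
  have hgN := R.mem_Nm_of_fused hna hR hx hx2 (h ▸ inv_mem hx)
  obtain ⟨⟨j, b⟩, k, hk, rfl⟩ := R.exists_rep hgN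
  have hτ := S.sq_mem_Tsub hx
  have hinv : S.rep R.ρ (j, b) * k * (x * x) * (S.rep R.ρ (j, b) * k)⁻¹ = (x * x)⁻¹ := by
    rw [conj_mul', h, mul_inv_rev]
  rw [R.rep_torus (j, b) hk hτ] at hinv
  cases b
  · exact absurd (by simpa using hinv) (R.not_inverts (j := (j : ℕ)) hτ hx2)
  · have ht : S.rep R.ρ (j, true) * k * S.t * (S.rep R.ρ (j, true) * k)⁻¹ =
        ![S.t, S.φ S.D.z, S.t * S.φ S.D.z] j := R.rep_t (j, true) hk
    fin_cases j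
    · show S.rep R.ρ (0, true) * k * S.φ S.D.i ∈ S.K
      have : S.rep R.ρ (0, true) * k * S.φ S.D.i = S.φ S.D.i * k * (S.φ S.D.i)⁻¹ := by
        simp [rep, inv_eq_of_mul_eq_one_right S.ι_facts.1]
      rw [this]
      exact (mem_normalizer_iff.mp S.ι_mem_Nm k).mp hk
    all_goals
      exfalso
      have hi : ∀ v, S.InV v → S.φ S.D.i * v * (S.φ S.D.i)⁻¹ = v := by
        obtain ⟨-, hit, hiz, -⟩ := S.ι_facts
        rintro v (rfl | rfl | rfl | rfl)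
        · group
        · exact hit
        · exact hiz
        · rw [conj_mul', hit, hiz]
      have hkv : ∀ v, S.InV v → k * v * k⁻¹ = v := fun v hv =>
        mul_inv_eq_iff_eq_mul.mpr (S.K_comm hk hv.mem_K)
      have hact : ∀ v, S.InV v → ∀ n : ℕ,
          R.ρ ^ n * S.φ S.D.i * k * v * (R.ρ ^ n * S.φ S.D.i * k)⁻¹ =
            R.ρ ^ n * v * (R.ρ ^ n)⁻¹ := fun v hv n => by
        rw [show R.ρ ^ n * S.φ S.D.i * k * v * (R.ρ ^ n * S.φ S.D.i * k)⁻¹ =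
          R.ρ ^ n * (S.φ S.D.i * (k * v * k⁻¹) * (S.φ S.D.i)⁻¹) * (R.ρ ^ n)⁻¹ by group, hkv v hv,
          hi v hv]
    · have e : R.ρ ^ 1 * S.φ S.D.i * k * (R.ρ ^ 1 * S.φ S.D.i * k) = 1 := by simpa [rep] using hg
      have h1 := hact _ S.t_inV 1
      have h2 := hact _ S.z_inV 1
      rw [pow_one] at h1 h2 e
      rw [R.rt] at h1
      rw [R.rz] at h2
      have : R.ρ * S.φ S.D.i * k * (R.ρ * S.φ S.D.i * k) * S.t *
          (R.ρ * S.φ S.D.i * k * (R.ρ * S.φ S.D.i * k))⁻¹ = S.t * S.φ S.D.z := by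
        rw [show R.ρ * S.φ S.D.i * k * (R.ρ * S.φ S.D.i * k) * S.t *
          (R.ρ * S.φ S.D.i * k * (R.ρ * S.φ S.D.i * k))⁻¹ = R.ρ * S.φ S.D.i * k *
            (R.ρ * S.φ S.D.i * k * S.t * (R.ρ * S.φ S.D.i * k)⁻¹) *
              (R.ρ * S.φ S.D.i * k)⁻¹ by group, h1, h2]
      rw [e, one_mul, inv_one, mul_one] at this
      exact S.tz_facts.2.2.2.2.1 this.symm
    · have e : R.ρ ^ 2 * S.φ S.D.i * k * (R.ρ ^ 2 * S.φ S.D.i * k) = 1 := by simpa [rep] using hg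
      have h1 : R.ρ ^ 2 * S.φ S.D.i * k * S.t * (R.ρ ^ 2 * S.φ S.D.i * k)⁻¹ = S.t * S.φ S.D.z := by
        rw [hact _ S.t_inV 2, sq, show R.ρ * R.ρ * S.t * (R.ρ * R.ρ)⁻¹ =
          R.ρ * (R.ρ * S.t * R.ρ⁻¹) * R.ρ⁻¹ by group, R.rt, R.rz]
      have h2 : R.ρ ^ 2 * S.φ S.D.i * k * (S.t * S.φ S.D.z) * (R.ρ ^ 2 * S.φ S.D.i * k)⁻¹ =
          S.φ S.D.z := by
        rw [hact _ S.tz_inV 2, sq, show R.ρ * R.ρ * (S.t * S.φ S.D.z) * (R.ρ * R.ρ)⁻¹ =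
          R.ρ * (R.ρ * (S.t * S.φ S.D.z) * R.ρ⁻¹) * R.ρ⁻¹ by group, R.rtz, R.rt]
      have : R.ρ ^ 2 * S.φ S.D.i * k * (R.ρ ^ 2 * S.φ S.D.i * k) * S.t *
          (R.ρ ^ 2 * S.φ S.D.i * k * (R.ρ ^ 2 * S.φ S.D.i * k))⁻¹ = S.φ S.D.z := by
        rw [show R.ρ ^ 2 * S.φ S.D.i * k * (R.ρ ^ 2 * S.φ S.D.i * k) * S.t *
          (R.ρ ^ 2 * S.φ S.D.i * k * (R.ρ ^ 2 * S.φ S.D.i * k))⁻¹ = R.ρ ^ 2 * S.φ S.D.i * k *
            (R.ρ ^ 2 * S.φ S.D.i * k * S.t * (R.ρ ^ 2 * S.φ S.D.i * k)⁻¹) *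
              (R.ρ ^ 2 * S.φ S.D.i * k)⁻¹ by group, h1, h2]
      rw [e, one_mul, inv_one, mul_one] at this
      exact S.tz_facts.2.2.2.1 this.symm

end Setup

end Cfsg.Lib.Walter8
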