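import Cfsg.Agent.Lib.Walter8.Columns
import Cfsg.Agent.Lib.Walter8.Fusion

/-!
# Linear characters of the torus `V × ⟨y⟩` and class functions restricted to it
-/

set_option autoImplicit false
set_option linter.unusedSectionVars false
set_option linter.style.haveILetI false

namespace Cfsg.Lib.Walter8

open Subgroup Cfsg Cfsg.Lib.Char
open scoped ComplexConjugate

universe u

/-- Orthogonality to the trivial character of a subgroup, for a function on the group. -/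
theorem sum_hom_eq {A : Type*} [Group A] [Fintype A] [DecidableEq (A →* ℂˣ)] (f : A →* ℂˣ) :
    ∑ a, (f a : ℂ) = if f = 1 then (Nat.card A : ℂ) else 0 := by
  split_ifs with h
  · subst h; simp [Nat.card_eq_fintype_card]
  · obtain ⟨b, hb⟩ : ∃ b, f b ≠ 1 := by
      by_contra hc
      push Not at hc
      exact h (MonoidHom.ext fun a => by rw [hc a, MonoidHom.one_apply])
    have e : ∑ a, (f a : ℂ) = (f b : ℂ) * ∑ a, (f a : ℂ) := by
      rw [Finset.mul_sum]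
      exact (Fintype.sum_equiv (Equiv.mulLeft b) _ _ fun a => by simp).symm
    have hb' : (f b : ℂ) - 1 ≠ 0 := sub_ne_zero.2 fun e => hb (Units.ext e)
    exact (mul_eq_zero.1 (show ((f b : ℂ) - 1) * ∑ a, (f a : ℂ) = 0 by
      linear_combination -e)).resolve_left hb'

namespace Setup

variable {G L : Type u} [Group G] [Group L] (S : Setup G L)
include S

theorem K_le_C : S.K ≤ S.C := fun _ hg => mem_centralizer_singleton_iff.mpr (S.mem_K.mp hg).1

/-- The sign on the torus, with kernel `⟨φ z⟩ × ⟨φ y⟩`. -/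
noncomputable def nu : S.K →* ℂˣ := S.sgnC.comp (inclusion S.K_le_C)

theorem nu_φ {l : L} (h : S.φ l ∈ S.K) : (S.nu ⟨S.φ l, h⟩ : ℂ) = 1 := by
  show (S.sgnC ⟨S.φ l, _⟩ : ℂ) = 1
  rw [sgnC_apply, sp_inl]

theorem nu_tφ {l : L} (h : S.t * S.φ l ∈ S.K) : (S.nu ⟨S.t * S.φ l, h⟩ : ℂ) = -1 := by
  show (S.sgnC ⟨S.t * S.φ l, _⟩ : ℂ) = -1
  rw [sgnC_apply, sp_inr]

theorem nu_Tsub {k : S.K} (h : (k : G) ∈ S.Tsub) : S.nu k = 1 := by
  obtain ⟨s, -, hs⟩ := S.mem_Tsub.mp h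
  apply Units.ext
  rw [show k = ⟨S.φ s, hs ▸ k.2⟩ from Subtype.ext hs, S.nu_φ, Units.val_one]

theorem nu_t : (S.nu ⟨S.t, S.t_mem_K⟩ : ℂ) = -1 := by
  have h : S.t * S.φ 1 ∈ S.K := by rw [map_one, mul_one]; exact S.t_mem_K
  rw [← S.nu_tφ h]
  congr 2
  exact Subtype.ext (by simp)

theorem nu_z : (S.nu ⟨S.φ S.D.z, S.φz_mem_K⟩ : ℂ) = 1 := S.nu_φ _

theorem nu_tz : (S.nu ⟨S.t * S.φ S.D.z, mul_mem S.t_mem_K S.φz_mem_K⟩ : ℂ) = -1 := S.nu_tφ _

/-- The component in `⟨φ y⟩` of an element of the torus. -/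
noncomputable def comp : S.K →* S.Tsub :=
  MonoidHom.mk' (fun k => ⟨(k : G) ^ (S.D.T + 1), by
      obtain ⟨c, hc⟩ : Even (S.D.T + 1) := by
        have := S.D.T_facts.1
        exact Nat.even_iff.mpr (by omega)
      rw [hc, ← two_mul, pow_mul, sq]
      exact pow_mem (S.sq_mem_Tsub k.2) c⟩)
    fun a b => Subtype.ext ((show Commute (a : G) b from S.K_comm a.2 b.2).mul_pow _)

theorem comp_V {k : S.K} (h : S.InV (k : G)) : S.comp k = 1 := by
  refine Subtype.ext ?_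
  show (k : G) ^ (S.D.T + 1) = 1
  obtain ⟨c, hc⟩ : Even (S.D.T + 1) := by
    have := S.D.T_facts.1
    exact Nat.even_iff.mpr (by omega)
  rw [hc, ← two_mul, pow_mul, sq, h.sq, one_pow]

theorem comp_Tsub {k : S.K} (h : (k : G) ∈ S.Tsub) : (S.comp k : G) = k := by
  show (k : G) ^ (S.D.T + 1) = k
  rw [pow_succ, S.Tsub_pow h, one_mul]

/-- A nontrivial linear character of the torus with the four-group in its kernel. -/
structure IsTor (lam : S.K →* ℂˣ) : Prop where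
  inV : ∀ k : S.K, S.InV (k : G) → lam k = 1
  ne : lam ≠ 1

/-- The two factors of an element of the torus. -/
theorem exists_factor (k : S.K) : ∃ v s : S.K, S.InV (v : G) ∧ (s : G) ∈ S.Tsub ∧ k = v * s := by
  obtain ⟨v, hv, s, hs, e⟩ := S.exists_mul_of_mem_K k.2
  exact ⟨⟨v, hv.mem_K⟩, ⟨s, S.Tsub_le hs⟩, hv, hs, Subtype.ext e⟩

/-- A faithful character of `⟨φ y⟩`, seen on the torus. -/
theorem exists_faithful [Finite G] : ∃ lam : S.K →* ℂˣ, IsTor S lam ∧
    ∀ k : S.K, lam k = 1 → S.InV (k : G) := by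
  classical
  have hT : S.D.T ≠ 0 := by have := S.D.T_facts.2; omega
  set w : ℂ := Complex.exp (2 * Real.pi * Complex.I / (S.D.T : ℕ)) with hw
  have hprim : IsPrimitiveRoot w S.D.T := Complex.isPrimitiveRoot_exp S.D.T hT
  set wu : ℂˣ := (hprim.isUnit hT).unit with hwu
  have hu : IsPrimitiveRoot wu S.D.T := IsPrimitiveRoot.coe_units_iff.mp
    (by rw [hwu, IsUnit.unit_spec]; exact hprim)
  have hgen : ∀ x : S.Tsub, x ∈ zpowers (⟨S.φ S.D.y, S.φy_mem⟩ : S.Tsub) := fun x => by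
    obtain ⟨n, hn⟩ := mem_zpowers_iff.mp x.2
    exact mem_zpowers_iff.mpr ⟨n, Subtype.ext (by simpa using hn)⟩
  have hdvd : orderOf wu ∣ orderOf (⟨S.φ S.D.y, S.φy_mem⟩ : S.Tsub) := by
    rw [Subgroup.orderOf_mk, S.orderOf_φy, ← hu.eq_orderOf]
  set f : S.Tsub →* ℂˣ := monoidHomOfForallMemZpowers hgen hdvd with hf
  have hinj : ∀ x : S.Tsub, f x = 1 → x = 1 := by
    intro x hx
    obtain ⟨n, rfl⟩ := mem_zpowers_iff.mp (hgen x)
    rw [map_zpow, hf, monoidHomOfForallMemZpowers_apply_gen,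
      ← orderOf_dvd_iff_zpow_eq_one, ← hu.eq_orderOf] at hx
    rw [← orderOf_dvd_iff_zpow_eq_one, Subgroup.orderOf_mk, S.orderOf_φy]
    exact hx
  refine ⟨f.comp S.comp, ⟨fun k hk => by rw [MonoidHom.comp_apply, S.comp_V hk, map_one],
    fun e => ?_⟩, fun k hk => ?_⟩
  · have h := hinj _ (DFunLike.congr_fun e ⟨S.φ S.D.y, S.Tsub_le S.φy_mem⟩)
    have h' : (S.comp ⟨S.φ S.D.y, S.Tsub_le S.φy_mem⟩ : G) = 1 := by rw [h]; rfl
    rw [S.comp_Tsub S.φy_mem] at h'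
    exact S.φy_ne h'
  · obtain ⟨v, s, hv, hs, rfl⟩ := S.exists_factor k
    rw [map_mul, MonoidHom.comp_apply, MonoidHom.comp_apply, S.comp_V hv, map_one, one_mul] at hk
    have h' := congrArg Subtype.val (hinj _ hk)
    rw [S.comp_Tsub hs, OneMemClass.coe_one] at h'
    rw [show s = 1 from Subtype.ext h', mul_one]
    exact hv

theorem IsTor.exists_ne {lam : S.K →* ℂˣ} (h : IsTor S lam) :
    ∃ s : S.K, (s : G) ∈ S.Tsub ∧ lam s ≠ 1 := by
  by_contra hc
  push Not at hc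
  refine h.ne (MonoidHom.ext fun k => ?_)
  obtain ⟨v, s, hv, hs, rfl⟩ := S.exists_factor k
  rw [map_mul, h.inV v hv, hc s hs, one_mul, MonoidHom.one_apply]

theorem IsTor.inv {lam : S.K →* ℂˣ} (h : IsTor S lam) : IsTor S lam⁻¹ :=
  ⟨fun k hk => by rw [MonoidHom.inv_apply, h.inV k hk, inv_one], fun e => h.ne (MonoidHom.ext fun k =>
    inv_eq_one.mp (DFunLike.congr_fun e k))⟩

theorem IsTor.inv_ne [Finite G] {lam : S.K →* ℂˣ} (h : IsTor S lam) : lam⁻¹ ≠ lam := fun e => by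
  obtain ⟨s, hs, hne⟩ := h.exists_ne
  refine hne ?_
  have h2 : lam s * lam s = 1 := by
    nth_rewrite 1 [← e]
    rw [MonoidHom.inv_apply, inv_mul_cancel]
  obtain ⟨σ, hσ, hsσ⟩ := S.exists_sq_of_mem_Tsub hs
  obtain ⟨c, hc⟩ : Odd S.D.T := Nat.odd_iff.mpr S.D.T_facts.1
  have hT : s ^ S.D.T = 1 := Subtype.ext (by rw [SubmonoidClass.coe_pow]; exact S.Tsub_pow hs)
  have := congrArg lam hT
  rw [map_pow, map_one, hc, pow_succ, pow_mul, sq, h2, one_pow, one_mul] at this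
  exact this

variable [Fintype G] [Fintype S.K]

open Classical in
/-- The basic sums over the torus of a character trivial on the four-group. -/
theorem sum_lam {lam : S.K →* ℂˣ} (h : IsTor S lam) :
    ∑ k : S.K, (lam k : ℂ) = 0 ∧
      ∑ k : S.K, (if (k : G) ∈ S.Tsub then (lam k : ℂ) else 0) = 0 := by
  refine ⟨by rw [sum_hom_eq, if_neg h.ne], ?_⟩
  obtain ⟨b, hb, hne⟩ := h.exists_ne
  set A := ∑ k : S.K, (if (k : G) ∈ S.Tsub then (lam k : ℂ) else 0) with hA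
  have e : A = (lam b : ℂ) * A := by
    rw [hA, Finset.mul_sum]
    refine (Fintype.sum_equiv (Equiv.mulLeft b) _ _ fun a => ?_).symm
    have hiff : ((b * a : S.K) : G) ∈ S.Tsub ↔ (a : G) ∈ S.Tsub := Subgroup.mul_mem_cancel_left _ hb
    simp only [Equiv.coe_mulLeft, hiff]
    split_ifs <;> simp
  exact (mul_eq_zero.1 (show ((lam b : ℂ) - 1) * A = 0 by linear_combination -e)).resolve_left
    (sub_ne_zero.2 fun e => hne (Units.ext e))

open Classical in
theorem sum_ite_Tsub : ∑ k : S.K, (if (k : G) ∈ S.Tsub then (1 : ℂ) else 0) = S.D.T := by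
  rw [Finset.sum_boole, ← S.card_Tsub]
  congr 1
  rw [← Fintype.card_subtype, ← Nat.card_eq_fintype_card]
  exact Nat.card_congr (Equiv.subtypeSubtypeEquivSubtype fun hx => S.Tsub_le hx)

theorem card_K' : (Fintype.card S.K : ℂ) = 4 * S.D.T := by
  rw [← Nat.card_eq_fintype_card, S.card_K]; push_cast; ring

theorem T_ne : (S.D.T : ℂ) ≠ 0 := Nat.cast_ne_zero.2 (by have := S.D.T_facts.2; omega)

end Setup

namespace Setup

variable {G L : Type u} [Group G] [Group L] [Fintype G] {S : Setup G L} (R : Rot S)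

theorem Rot.rep_mem (p : Fin 3 × Bool) : S.rep R.ρ p ∈ S.Nm := by
  obtain ⟨j, b⟩ := p
  refine mul_mem (pow_mem R.mem _) ?_
  cases b
  · exact one_mem _
  · exact S.ι_mem_Nm

/-- Conjugation by an element of the normalizer on the torus. -/
def cj {g : G} (hg : g ∈ S.Nm) : S.K →* S.K :=
  MonoidHom.mk' (fun k => ⟨g * k * g⁻¹, (mem_normalizer_iff.mp hg k).mp k.2⟩)
    fun a b => Subtype.ext (conj_mul' g a b)

theorem cj_apply {g : G} (hg : g ∈ S.Nm) (k : S.K) : (cj hg k : G) = g * k * g⁻¹ := rfl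

theorem cj_bijective {g : G} (hg : g ∈ S.Nm) : Function.Bijective (cj hg) := by
  refine (Finite.injective_iff_bijective).1 fun a b h => Subtype.ext ?_
  exact mul_left_cancel (mul_right_cancel (congrArg Subtype.val h))

theorem cj_inV {g : G} (hg : g ∈ S.Nm) {k : S.K} (hk : S.InV (k : G)) : S.InV (cj hg k : G) :=
  S.conj_inV hg hk

theorem IsTor.comp_cj {lam : S.K →* ℂˣ} (h : IsTor S lam) {g : G} (hg : g ∈ S.Nm) :
    IsTor S (lam.comp (cj hg)) :=
  ⟨fun k hk => h.inV _ (cj_inV hg hk), fun e => h.ne (MonoidHom.ext fun k => by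
    obtain ⟨k', rfl⟩ := (cj_bijective hg).2 k
    exact DFunLike.congr_fun e k')⟩

/-- The six transforms of a character. -/
noncomputable def Rot.act (p : Fin 3 × Bool) (f : S.K →* ℂˣ) : S.K →* ℂˣ :=
  f.comp (cj (R.rep_mem p))

theorem Rot.act_apply (p : Fin 3 × Bool) (f : S.K →* ℂˣ) (k : S.K) :
    R.act p f k = f (cj (R.rep_mem p) k) := rfl

theorem Rot.act_tor (p : Fin 3 × Bool) {lam : S.K →* ℂˣ} (h : IsTor S lam) :
    IsTor S (R.act p lam) := h.comp_cj _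

theorem nu_cj_ι (k : S.K) : S.nu (cj S.ι_mem_Nm k) = S.nu k := by
  obtain ⟨-, hit, hiz, hiτ⟩ := S.ι_facts
  obtain ⟨v, s, hv, hs, rfl⟩ := S.exists_factor k
  have hs' : (cj S.ι_mem_Nm s : G) ∈ S.Tsub := by rw [cj_apply, hiτ _ hs]; exact inv_mem hs
  rw [map_mul, map_mul, map_mul, S.nu_Tsub hs, S.nu_Tsub hs', mul_one, mul_one]
  congr 1
  refine Subtype.ext ?_
  rw [cj_apply]
  rcases hv with h | h | h | h <;> rw [h]
  · group
  · exact hit
  · exact hiz
  · rw [conj_mul', hit, hiz]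

theorem Rot.rep_z (p : Fin 3 × Bool) :
    S.rep R.ρ p * S.φ S.D.z * (S.rep R.ρ p)⁻¹ = ![S.φ S.D.z, S.t * S.φ S.D.z, S.t] p.1 := by
  obtain ⟨-, -, hiz, -⟩ := S.ι_facts
  obtain ⟨j, b⟩ := p
  have hb : (if b then S.φ S.D.i else 1) * S.φ S.D.z * (if b then S.φ S.D.i else 1)⁻¹ =
      S.φ S.D.z := by
    cases b
    · simp
    · simpa using hiz
  rw [show S.rep R.ρ (j, b) * S.φ S.D.z * (S.rep R.ρ (j, b))⁻¹ = R.ρ ^ (j : ℕ) *
    ((if b then S.φ S.D.i else 1) * S.φ S.D.z * (if b then S.φ S.D.i else 1)⁻¹) *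
      (R.ρ ^ (j : ℕ))⁻¹ by rw [rep]; group, hb]
  fin_cases j
  · simp
  · simpa using R.rz
  · show R.ρ ^ 2 * S.φ S.D.z * (R.ρ ^ 2)⁻¹ = _
    rw [sq, show R.ρ * R.ρ * S.φ S.D.z * (R.ρ * R.ρ)⁻¹ = R.ρ * (R.ρ * S.φ S.D.z * R.ρ⁻¹) * R.ρ⁻¹
      by group, R.rz, R.rtz]
    rfl

theorem Rot.nu_act_eq (p : Fin 3 × Bool) : R.act p S.nu = S.nu ↔ p.1 = 0 := by
  constructor
  · intro h
    have h1 := congrArg Units.val (DFunLike.congr_fun h ⟨S.φ S.D.z, S.φz_mem_K⟩)
    rw [S.nu_z, R.act_apply] at h1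
    have key : ∀ (g : G) (hg : g ∈ S.K), S.rep R.ρ p * S.φ S.D.z * (S.rep R.ρ p)⁻¹ = g →
        (S.nu ⟨g, hg⟩ : ℂ) = 1 := fun g hg e => by
      rw [← h1]
      congr 2
      exact Subtype.ext e.symm
    have h2 := R.rep_z p
    obtain ⟨j, b⟩ := p
    fin_cases j
    · rfl
    · exact absurd ((key _ (mul_mem S.t_mem_K S.φz_mem_K) h2).symm.trans S.nu_tz) (by norm_num)
    · exact absurd ((key _ S.t_mem_K h2).symm.trans S.nu_t) (by norm_num)
  · rintro hp
    obtain ⟨j, b⟩ := p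
    obtain rfl : j = 0 := hp
    refine MonoidHom.ext fun k => ?_
    rw [R.act_apply]
    cases b
    · congr 1
      exact Subtype.ext (by rw [cj_apply]; simp [rep])
    · rw [← nu_cj_ι k]
      congr 1
      exact Subtype.ext (by rw [cj_apply, cj_apply]; simp [rep])

theorem Rot.act_lam_zero {lam : S.K →* ℂˣ} (h : IsTor S lam) :
    R.act (0, false) lam = lam ∧ R.act (0, true) lam = lam⁻¹ := by
  constructor <;> refine MonoidHom.ext fun k => ?_
  · rw [R.act_apply]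
    congr 1
    exact Subtype.ext (by rw [cj_apply]; simp [rep])
  · obtain ⟨v, s, hv, hs, rfl⟩ := S.exists_factor k
    rw [R.act_apply, map_mul, map_mul, h.inV _ (cj_inV _ hv), MonoidHom.inv_apply, map_mul,
      h.inV v hv, one_mul, one_mul, ← map_inv]
    congr 1
    exact Subtype.ext (by
      rw [cj_apply, Subgroup.coe_inv, show S.rep R.ρ (0, true) = S.φ S.D.i by simp [rep],
        S.ι_facts.2.2.2 _ hs])

theorem Rot.act_pow (j : Fin 3) (b : Bool) {lam : S.K →* ℂˣ} (h : IsTor S lam) :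
    R.act (j, b) lam = if b then (R.act (j, false) lam)⁻¹ else R.act (j, false) lam := by
  cases b
  · rfl
  · rw [if_pos rfl]
    refine MonoidHom.ext fun k => ?_
    obtain ⟨v, s, hv, hs, rfl⟩ := S.exists_factor k
    rw [R.act_apply, map_mul, map_mul, h.inV _ (cj_inV _ hv), one_mul, MonoidHom.inv_apply,
      R.act_apply, map_mul, map_mul, h.inV _ (cj_inV _ hv), one_mul, ← map_inv]
    congr 1
    refine Subtype.ext ?_
    rw [cj_apply, Subgroup.coe_inv, cj_apply]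
    simp only [rep, if_true, Bool.false_eq_true, if_false, mul_one]
    rw [show R.ρ ^ (j : ℕ) * S.φ S.D.i * (s : G) * (R.ρ ^ (j : ℕ) * S.φ S.D.i)⁻¹ =
      R.ρ ^ (j : ℕ) * (S.φ S.D.i * (s : G) * (S.φ S.D.i)⁻¹) * (R.ρ ^ (j : ℕ))⁻¹ by group,
      S.ι_facts.2.2.2 _ hs]
    group

include R in
/-- An element of the torus outside the four-group and `⟨φ y⟩` is conjugate to some `t φ s`. -/
theorem Rot.conj_to_sect {k : S.K} (hV : ¬ S.InV (k : G)) (hT : (k : G) ∉ S.Tsub) :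
    ∃ g : G, ∃ s ∈ zpowers S.D.y, s ≠ 1 ∧ g * k * g⁻¹ = S.t * S.φ s := by
  obtain ⟨v, hv, τ, hτ, e⟩ := S.exists_mul_of_mem_K k.2
  have hτ1 : τ ≠ 1 := fun h => hV (by rw [e, h, mul_one]; exact hv)
  obtain ⟨g, hg, hgv⟩ : ∃ g ∈ S.Nm, g * v * g⁻¹ = S.t := by
    rcases hv with rfl | rfl | rfl | rfl
    · exact absurd (by rw [e, one_mul]; exact hτ) hT
    · exact ⟨1, one_mem _, by group⟩
    · exact ⟨R.ρ⁻¹, inv_mem R.mem, by rw [← R.rt]; group⟩
    · exact ⟨R.ρ, R.mem, R.rtz⟩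
  obtain ⟨s, hs, hs'⟩ := S.mem_Tsub.mp (conj_Tsub hg hτ)
  refine ⟨g, s, hs, fun h => hτ1 ?_, by rw [e, conj_mul', hgv, hs']⟩
  rw [h, map_one] at hs'
  exact conj_eq_one_iff.mp hs'

variable [Fintype S.K]

include R in
open Classical in
/-- Sums over the torus of a class function that is constant on the section of `t`. -/
theorem Rot.sum_const {F : G → ℂ} (hF : IsClassFunction G F) {c : ℂ}
    (hc : ∀ s ∈ zpowers S.D.y, s ≠ 1 → F (S.t * S.φ s) = c) {g : S.K → ℂ}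
    (hg : ∀ k : S.K, S.InV (k : G) → g k = 0) :
    ∑ k : S.K, g k * F k = ∑ k : S.K, (if (k : G) ∈ S.Tsub then g k * F k else 0) +
      c * (∑ k : S.K, g k - ∑ k : S.K, (if (k : G) ∈ S.Tsub then g k else 0)) := by
  rw [← Finset.sum_sub_distrib, Finset.mul_sum, ← Finset.sum_add_distrib]
  refine Finset.sum_congr rfl fun k _ => ?_
  by_cases hV : S.InV (k : G)
  · rw [hg k hV]; simp
  by_cases hT : (k : G) ∈ S.Tsub
  · rw [if_pos hT, if_pos hT]; ring
  · obtain ⟨x, s, hs, hs1, e⟩ := R.conj_to_sect hV hT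
    rw [if_neg hT, if_neg hT, ← hF (k : G) x, e, hc s hs hs1]
    ring

end Setup

end Cfsg.Lib.Walter8
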