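import Cfsg.Agent.Lib.Walter8.Columns
import Cfsg.Agent.Lib.Block.SubsectionApps

/-!
# The principal block of the centralizer and the values on the section of `t`

The principal two-block of `⟨t⟩ × L` consists of the eight products of the linear characters of
`⟨t⟩` with `1, St, η, η'`.  Brauer's second main theorem then reads off the values of a character
of `G` on the section of `t` from the three decomposition numbers.
-/

set_option autoImplicit false
set_option linter.unusedSectionVars false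
set_option linter.style.haveILetI false

namespace Cfsg.Lib.Walter8

open Subgroup Cfsg Cfsg.Lib.Char Cfsg.Lib.Block
open scoped ComplexConjugate

universe u

namespace LModel

variable {L : Type u} [Group L] (D : LModel L)
include D

/-- The trivial character and the three others of the principal block. -/
noncomputable def xi (k : Fin 4) : IrrCharacter L :=
  ![⟨fun _ => 1, isIrrCharacter_one⟩, D.st, D.eta, D.eta'] k

theorem xi_injective : Function.Injective D.xi := by
  obtain ⟨n1, n2, n3, n4, n5⟩ := D.st_ne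
  have e : ∀ {a b : IrrCharacter L}, (a : L → ℂ) ≠ b → a ≠ b := fun h h' => h (h' ▸ rfl)
  have n6 := D.eta_ne
  have m1 : D.st ≠ ⟨fun _ => 1, isIrrCharacter_one⟩ := e n1
  have m2 : D.eta ≠ ⟨fun _ => 1, isIrrCharacter_one⟩ := e n2
  have m3 : D.eta' ≠ ⟨fun _ => 1, isIrrCharacter_one⟩ := e n3
  have m4 : D.st ≠ D.eta := e n4
  have m5 : D.st ≠ D.eta' := e n5
  intro i j h
  fin_cases i <;> fin_cases j <;>
    simp [xi, m1, m2, m3, m4, m5, n6, m1.symm, m2.symm, m3.symm, m4.symm, m5.symm, n6.symm] at h ⊢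

variable [Fintype L]

theorem sum_xi_ne : ∀ k : Fin 4,
    ∑ l ∈ Finset.univ.filter (fun l : L => ¬ 2 ∣ orderOf l), (D.xi k : L → ℂ) l ≠ 0 := by
  classical
  have hE : ((Finset.univ.filter fun l : L => 2 ∣ orderOf l).card : ℂ) ≠ 0 :=
    Nat.cast_ne_zero.2 (Finset.card_ne_zero.2 ⟨D.z, by simp [D.orderOf_z]⟩)
  have hσ : (D.σ : ℂ) ≠ 0 := fun e => by
    have := D.σC_sq; rw [e, zero_mul] at this; exact zero_ne_one this
  have key : ∀ (χ : IrrCharacter L) (c : ℂ), (χ : L → ℂ) ≠ (fun _ => 1) → c ≠ 0 →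
      (∀ l, 2 ∣ orderOf l → (χ : L → ℂ) l = c) →
      ∑ l ∈ Finset.univ.filter (fun l : L => ¬ 2 ∣ orderOf l), (χ : L → ℂ) l ≠ 0 := by
    intro χ c hne hc hv h
    have h0 := classInner_irr_ne χ.2 isIrrCharacter_one hne
    rw [classInner, mul_eq_zero, or_iff_right (inv_ne_zero Char.card_cast_ne_zero)] at h0
    simp only [map_one, mul_one] at h0
    rw [← Finset.sum_filter_add_sum_filter_not Finset.univ (fun l : L => 2 ∣ orderOf l), h,
      add_zero, Finset.sum_congr rfl (fun l hl => hv l (Finset.mem_filter.1 hl).2),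
      Finset.sum_const, nsmul_eq_mul, mul_eq_zero] at h0
    exact h0.elim hE hc
  intro k
  fin_cases k
  · simp only [xi, Fin.zero_eta, Matrix.cons_val_zero, Finset.sum_const, nsmul_eq_mul, mul_one]
    exact Nat.cast_ne_zero.2 (Finset.card_ne_zero.2 ⟨1, by simp⟩)
  · exact key D.st (-D.σ) D.st_ne.1 (neg_ne_zero.2 hσ) fun l hl => (D.val_even hl).1
  · exact key D.eta D.σ D.st_ne.2.1 hσ fun l hl => (D.val_even hl).2.1
  · exact key D.eta' D.σ D.st_ne.2.2.1 hσ fun l hl => (D.val_even hl).2.2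

/-- The regular part of the weighted sum of the four characters. -/
theorem sum_xi (l : L) : ∑ k, (D.xi k : L → ℂ) 1 * (D.xi k : L → ℂ) l =
    if 2 ∣ orderOf l then 0
    else (D.Q + 1 : ℂ) + (3 * D.h + 1) * (D.σ * (D.eta : L → ℂ) l + D.σ * (D.eta' : L → ℂ) l) := by
  obtain ⟨a, b⟩ := D.eta_one'
  have hs := D.σC_sq
  have hQ : (D.Q : ℂ) = 2 * D.h + 1 := by exact_mod_cast D.Q_eq
  have hq : (D.q : ℂ) = D.σ * D.Q := by exact_mod_cast D.q_eq_σQ
  simp only [Fin.sum_univ_four, xi, Matrix.cons_val_zero, Matrix.cons_val_one, Matrix.cons_val,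
    D.st_one, a, b]
  split_ifs with hl
  · obtain ⟨va, vb, vc⟩ := D.val_even hl
    rw [va, vb, vc, hq, hQ]
    linear_combination (-1 : ℂ) * hs
  · have hr := D.rel_odd l hl
    rw [hq, hQ]
    linear_combination (2 * (D.h : ℂ) + 1) * hr

theorem four_dvd : 4 ∣ D.Q + 1 ∧ 4 ∣ 3 * D.h + 1 := by
  have := D.Q_mod
  have := D.h_mod
  constructor <;> omega

theorem card_L_eq : ∃ m : ℕ, Nat.card L = 4 * m ∧ ¬ 2 ∣ m := by
  have h := D.card_L
  have hq8 := D.sign.imp And.right And.right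
  rcases hq8 with hq8 | hq8
  · obtain ⟨c, hc⟩ : ∃ c, D.q = 8 * c + 3 := ⟨D.q / 8, by omega⟩
    refine ⟨(8 * c + 3) * (8 * c * c + 6 * c + 1), ?_, ?_⟩
    · rw [hc, show (8 * c + 3) * (8 * c + 3) = 8 * (8 * c * c + 6 * c + 1) + 1 by ring,
        Nat.add_sub_cancel] at h
      linarith
    · rw [Nat.Prime.dvd_mul Nat.prime_two, show 8 * c * c + 6 * c + 1 = 2 * (4 * c * c + 3 * c) + 1 by ring]
      omega
  · obtain ⟨c, hc⟩ : ∃ c, D.q = 8 * c + 5 := ⟨D.q / 8, by omega⟩
    refine ⟨(8 * c + 5) * (8 * c * c + 10 * c + 3), ?_, ?_⟩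
    · rw [hc, show (8 * c + 5) * (8 * c + 5) = 8 * (8 * c * c + 10 * c + 3) + 1 by ring,
        Nat.add_sub_cancel] at h
      linarith
    · rw [Nat.Prime.dvd_mul Nat.prime_two, show 8 * c * c + 10 * c + 3 = 2 * (4 * c * c + 5 * c + 1) + 1 by ring]
      omega

end LModel

namespace Setup

variable {G L : Type u} [Group G] [Group L] (S : Setup G L)
include S

/-- The linear characters of `⟨t⟩`, seen on the centralizer. -/
noncomputable def eps (a : Fin 2) : S.C →* ℂˣ := ![1, S.sgnC] a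

theorem proj_surjective : Function.Surjective S.proj := fun l =>
  ⟨⟨S.φ l, S.φ_mem_C l⟩, by rw [proj_apply, sp_inl]⟩

theorem proj_one : S.proj ⟨S.φ 1, S.φ_mem_C 1⟩ = 1 := by rw [proj_apply, sp_inl]

theorem not_reg_inr (l : L) :
    2 ∣ orderOf (⟨S.t * S.φ l, S.tφ_mem_C l⟩ : S.C) := by
  by_contra h
  have hn : Odd (orderOf (⟨S.t * S.φ l, S.tφ_mem_C l⟩ : S.C)) := Nat.odd_iff.mpr (by omega)
  have h1 := congrArg Subtype.val (pow_orderOf_eq_one (⟨S.t * S.φ l, S.tφ_mem_C l⟩ : S.C))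
  rw [SubmonoidClass.coe_pow, OneMemClass.coe_one,
    (show Commute S.t (S.φ l) from S.comm l).mul_pow, ← map_pow] at h1
  obtain ⟨c, hc⟩ := hn
  have ht : S.t ^ orderOf (⟨S.t * S.φ l, S.tφ_mem_C l⟩ : S.C) = S.t := by
    rw [hc, pow_succ, pow_mul, sq, S.t_sq, one_pow, one_mul]
  rw [ht, ← map_one S.φ] at h1
  exact S.t_mul_φ_ne _ _ h1

theorem orderOf_inl (l : L) : orderOf (⟨S.φ l, S.φ_mem_C l⟩ : S.C) = orderOf l := by
  rw [← Subgroup.orderOf_coe, orderOf_injective S.φ S.inj]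

variable [Fintype G]

/-- The eight characters. -/
noncomputable def bchar (x : Fin 2 × Fin 4) : IrrCharacter S.C :=
  ⟨(fun c => (S.D.xi x.2 : L → ℂ) (S.proj c)) * fun c => (S.eps x.1 c : ℂ),
    isIrrCharacter_mul_linear ((S.D.xi x.2).2.comp_surjective S.proj S.proj_surjective) _⟩

theorem bchar_inl (x : Fin 2 × Fin 4) (l : L) :
    (S.bchar x : S.C → ℂ) ⟨S.φ l, S.φ_mem_C l⟩ = (S.D.xi x.2 : L → ℂ) l := by
  obtain ⟨a, k⟩ := x
  show (S.D.xi k : L → ℂ) (S.proj _) * (S.eps a _ : ℂ) = _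
  rw [proj_apply, sp_inl]
  fin_cases a <;> simp [eps, sgnC_apply, sp_inl]

theorem bchar_inr (x : Fin 2 × Fin 4) (l : L) :
    (S.bchar x : S.C → ℂ) ⟨S.t * S.φ l, S.tφ_mem_C l⟩ = ![1, -1] x.1 * (S.D.xi x.2 : L → ℂ) l := by
  obtain ⟨a, k⟩ := x
  show (S.D.xi k : L → ℂ) (S.proj _) * (S.eps a _ : ℂ) = _
  rw [proj_apply, sp_inr]
  fin_cases a <;> simp [eps, sgnC_apply, sp_inr]

theorem bchar_one (x : Fin 2 × Fin 4) :
    (S.bchar x : S.C → ℂ) 1 = (S.D.xi x.2 : L → ℂ) 1 := by
  rw [show (1 : S.C) = ⟨S.φ 1, S.φ_mem_C 1⟩ from Subtype.ext (map_one S.φ).symm, S.bchar_inl]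

theorem bchar_injective : Function.Injective S.bchar := by
  haveI := S.finite_L
  rintro ⟨a, k⟩ ⟨b, m⟩ h
  have hk : k = m := S.D.xi_injective (Subtype.ext (funext fun l => by
    rw [← S.bchar_inl (a, k) l, ← S.bchar_inl (b, m) l, h]))
  subst hk
  have h1 := S.bchar_inr (a, k) 1
  rw [h, S.bchar_inr] at h1
  have hne := (S.D.xi k).2.apply_one_ne_zero
  fin_cases a <;> fin_cases b <;> simp at h1 ⊢ <;>
    exact hne (by first
      | linear_combination (1 / 2 : ℂ) * h1
      | linear_combination (-1 / 2 : ℂ) * h1)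

open Classical in
theorem principal_C {M : Ideal AlgInt} (hM : IsPModular 2 M) [Fintype S.C] :
    principalBlock M S.C = Set.range S.bchar := by
  haveI := S.finite_L
  haveI := Fintype.ofFinite L
  haveI : Fact (Nat.Prime 2) := ⟨Nat.prime_two⟩
  have hsub : Set.range S.bchar ⊆ principalBlock M S.C := by
    rintro _ ⟨x, rfl⟩
    refine mem_principal_of_regSum_ne hM _ ?_
    rw [S.sum_C]
    have hz : ∀ l : L, pRegularPart 2 (S.bchar x : S.C → ℂ) ⟨S.t * S.φ l, S.tφ_mem_C l⟩ = 0 :=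
      fun l => pRegularPart_of_sing (fun h => h (S.not_reg_inr l))
    simp only [hz, Finset.sum_const_zero, add_zero]
    intro h
    refine S.D.sum_xi_ne x.2 ?_
    rw [Finset.sum_filter]
    refine Eq.trans (Finset.sum_congr rfl fun l _ => ?_) h
    by_cases hl : 2 ∣ orderOf l
    · rw [if_neg (not_not.2 hl), pRegularPart_of_sing (fun h => h (by rwa [S.orderOf_inl]))]
    · rw [if_pos hl, pRegularPart_of_reg (by rw [IsPRegular, S.orderOf_inl]; exact hl),
        S.bchar_inl]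
  refine Set.Subset.antisymm ?_ hsub
  have hv : VInt hM (indVec (Set.range S.bchar)) := by
    intro c
    obtain ⟨m, hm, hm2⟩ := S.D.card_L_eq
    have hzc : zc (indVec (Set.range S.bchar)) c = (Nat.card S.C : ℂ)⁻¹ *
        ∑ x, (S.bchar x : S.C → ℂ) 1 * (S.bchar x : S.C → ℂ) c⁻¹ := by
      rw [zc]
      congr 1
      rw [← Finset.sum_image (f := fun η : IrrCharacter S.C => (η : S.C → ℂ) 1 * (η : S.C → ℂ) c⁻¹)
        (fun a _ b _ e => S.bchar_injective e)]
      refine (Finset.sum_subset (Finset.subset_univ _) ?_).symm.trans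
        (Finset.sum_congr rfl fun η hη => ?_)
      · intro η _ hη
        rw [indVec, if_neg, zero_mul, zero_mul]
        rintro ⟨x, rfl⟩
        exact hη (Finset.mem_image_of_mem _ (Finset.mem_univ x))
      · obtain ⟨x, -, rfl⟩ := Finset.mem_image.1 hη
        rw [indVec, if_pos (Set.mem_range_self x), one_mul]
    rw [hzc, S.card_C, hm]
    simp only [Fintype.sum_prod_type, Fin.sum_univ_two, S.bchar_one]
    rcases S.C_cases c⁻¹ with ⟨l, e⟩ | ⟨l, e⟩ <;> rw [e]
    · simp only [S.bchar_inl, ← two_mul, S.D.sum_xi]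
      split_ifs
      · simp
      · obtain ⟨⟨a, ha⟩, b, hb⟩ := S.D.four_dvd
        have ha' : (S.D.Q : ℂ) + 1 = 4 * a := by exact_mod_cast ha
        have hb' : 3 * (S.D.h : ℂ) + 1 = 4 * b := by exact_mod_cast hb
        have hm0 : (m : ℂ) ≠ 0 := Nat.cast_ne_zero.2 (by omega)
        rw [ha', hb', show (2 * ((4 * m : ℕ) : ℂ))⁻¹ * (2 * (4 * (a : ℂ) + 4 * b *
            (S.D.σ * (S.D.eta : L → ℂ) l + S.D.σ * (S.D.eta' : L → ℂ) l))) =
          (m : ℂ)⁻¹ * (a + b * (S.D.σ * (S.D.eta : L → ℂ) l + S.D.σ * (S.D.eta' : L → ℂ) l)) by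
            push_cast; field_simp]
        refine Subring.mul_mem _ (inv_natCast_mem_locRing hM hm2) (Subring.add_mem _ ?_ ?_)
        · exact intCast_mem _ a
        · refine Subring.mul_mem _ (intCast_mem _ b) (Subring.add_mem _ ?_ ?_) <;>
            refine Subring.mul_mem _ (intCast_mem _ _)
              (isIntegral_mem_locRing hM (IsCharacter.isIntegral ?_ l))
          · exact S.D.eta.2.isCharacter
          · exact S.D.eta'.2.isCharacter
    · simp [S.bchar_inr]
  have h1 : trivChar S.C ∈ Set.range S.bchar := by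
    refine ⟨(0, 0), Subtype.ext (funext fun c => ?_)⟩
    show (S.D.xi 0 : L → ℂ) (S.proj c) * (S.eps 0 c : ℂ) = _
    simp [LModel.xi, eps, trivChar_coe]
  have h2 := eq_blockOf_of_mem hM isPBlock_principal (trivChar_mem_principal (G := S.C) hM)
  rw [h2]
  exact blockOf_subset_of_vInt hM hv h1

open Classical in
/-- The principal part of a character on the section of `t`. -/
theorem blockPart_principal {M : Ideal AlgInt} (hM : IsPModular 2 M) [Fintype L]
    [Fintype S.C] (χ : IrrCharacter G) {l : L} (hl : ¬ 2 ∣ orderOf l) :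
    (if χ ∈ principalBlock M G then (χ : G → ℂ) (S.t * S.φ l) else 0) =
      ∑ k, classInner (fun m => (χ : G → ℂ) (S.t * S.φ m)) (S.D.xi k : L → ℂ) *
        (S.D.xi k : L → ℂ) l := by
  haveI : Fact (Nat.Prime 2) := ⟨Nat.prime_two⟩
  have hu : ∃ k : ℕ, orderOf S.t = 2 ^ k :=
    ⟨1, by rw [pow_one, orderOf_eq_prime (by rw [sq, S.t_sq]) S.t_ne]⟩
  have hHu : ∀ c : S.C, Commute S.t (c : G) := fun c =>
    (mem_centralizer_singleton_iff.1 c.2).symm
  have hy : IsPRegular 2 (⟨S.φ l, S.φ_mem_C l⟩ : S.C) := by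
    rw [IsPRegular, S.orderOf_inl]; exact hl
  have h := blockPart_indSet hM hu hHu le_rfl isPBlock_principal χ hy
  rw [indSet_principal hM hu hHu le_rfl, S.principal_C hM] at h
  rw [← h]
  simp only [blockPart, finsum_mem_eq_toFinset_sum]
  rw [show (Set.range S.bchar).toFinset = Finset.univ.image S.bchar by ext; simp,
    Finset.sum_image fun a _ b _ e => S.bchar_injective e, Fintype.sum_prod_type, Finset.sum_comm]
  refine Finset.sum_congr rfl fun k _ => ?_
  simp only [S.bchar_inl, ← Finset.sum_mul]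
  congr 1
  simp only [Fin.sum_univ_two, classInner]
  have hsum : ∀ (i : Fintype S.C) (F : S.C → ℂ), @Finset.sum _ _ _ (@Finset.univ _ i) F =
      (∑ l : L, F ⟨S.φ l, S.φ_mem_C l⟩) + ∑ l : L, F ⟨S.t * S.φ l, S.tφ_mem_C l⟩ :=
    fun i F => @sum_C _ _ _ _ S _ _ _ _ i F
  rw [← mul_add, hsum, hsum, S.card_C]
  simp only [S.bchar_inl, S.bchar_inr, Matrix.cons_val_zero, Matrix.cons_val_one, one_mul,
    map_neg, secFn, neg_mul, mul_neg, Finset.sum_neg_distrib]
  field_simp
  ring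

/-- The values on the section of `t` in and outside the principal block. -/
theorem section_value {M : Ideal AlgInt} (hM : IsPModular 2 M) (χ : IrrCharacter G)
    [Decidable (χ ∈ principalBlock M G)] {l : L} (hl : ¬ 2 ∣ orderOf l) :
    (if χ ∈ principalBlock M G then (χ : G → ℂ) (S.t * S.φ l) else 0) =
      ∑ j, (S.d j χ : ℂ) * S.D.phi j l := by
  haveI := S.finite_L
  haveI := Fintype.ofFinite L
  haveI := Fintype.ofFinite S.C
  classical
  set f : L → ℂ := fun m => (χ : G → ℂ) (S.t * S.φ m) with hf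
  have hd : ∀ j, classInner f (S.D.Phi j) = S.d j χ := fun j => by
    rw [← classInner_conj_symm, ← S.inner_W_left j χ.2.isClassFunction, S.d_spec, map_intCast]
  have e : ∀ j, S.D.Phi j = ![(fun _ => (1 : ℂ)) + (S.D.σ : ℂ) • (S.D.st : L → ℂ),
      (S.D.σ : ℂ) • ((S.D.eta : L → ℂ) + (S.D.st : L → ℂ)),
      (S.D.σ : ℂ) • ((S.D.eta' : L → ℂ) + (S.D.st : L → ℂ))] j := fun j => by
    funext m; fin_cases j <;> simp [LModel.Phi, mul_add]
  refine (Eq.trans ?_ (S.blockPart_principal hM χ hl)).trans ?_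
  · congr 1
  simp only [← hd, e, Fin.sum_univ_four, Fin.sum_univ_three, LModel.xi, LModel.phi, hf,
    Matrix.cons_val_zero, Matrix.cons_val_one, Matrix.cons_val, classInner_add_right,
    classInner_smul_right, map_intCast]
  have hs := S.D.σC_sq
  have hr := S.D.rel_odd l hl
  grind

/-- Decomposition numbers vanish outside the principal block. -/
theorem mem_principal_of_d {M : Ideal AlgInt} (hM : IsPModular 2 M)
    {χ : IrrCharacter G} (hχ : ∃ j, S.d j χ ≠ 0) : χ ∈ principalBlock M G := by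
  haveI := S.finite_L
  haveI := Fintype.ofFinite L
  classical
  by_contra hn
  obtain ⟨i, hi⟩ := hχ
  refine hi ?_
  have h0 : classInner (S.D.Phi i) (fun l => ∑ j, (S.d j χ : ℂ) * S.D.phi j l) = 0 := by
    rw [classInner, Finset.sum_eq_zero, mul_zero]
    intro l _
    by_cases hl : 2 ∣ orderOf l
    · rw [S.D.Phi_even hl, zero_mul]
    · rw [← S.section_value hM χ hl, if_neg hn, map_zero, mul_zero]
  rw [show (fun l => ∑ j, (S.d j χ : ℂ) * S.D.phi j l) =
      (S.d 0 χ : ℂ) • S.D.phi 0 + (S.d 1 χ : ℂ) • S.D.phi 1 + (S.d 2 χ : ℂ) • S.D.phi 2 from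
    funext fun l => by simp [Fin.sum_univ_three]] at h0
  simp only [classInner_add_right, classInner_smul_right, S.D.Phi_phi, map_intCast] at h0
  fin_cases i <;> simp at h0 ⊢ <;> exact h0

/-- The values on the section of `t` of a character with nonzero decomposition numbers. -/
theorem value_sect {χ : IrrCharacter G} (hχ : ∃ j, S.d j χ ≠ 0) {l : L}
    (hl : ¬ 2 ∣ orderOf l) :
    (χ : G → ℂ) (S.t * S.φ l) = ∑ j, (S.d j χ : ℂ) * S.D.phi j l := by
  classical
  obtain ⟨M, hM⟩ := exists_isPModular (q := 2) Nat.prime_two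
  rw [← S.section_value hM χ hl, if_pos (S.mem_principal_of_d hM hχ)]

theorem value_t {χ : IrrCharacter G} (hχ : ∃ j, S.d j χ ≠ 0) :
    (χ : G → ℂ) S.t = S.d 0 χ + S.D.h * (S.d 1 χ + S.d 2 χ) := by
  have h := S.value_sect hχ (l := 1) (by simp)
  rw [map_one, mul_one] at h
  simp only [h, Fin.sum_univ_three, S.D.phi_one, Matrix.cons_val_zero, Matrix.cons_val_one,
    Matrix.cons_val]
  ring

theorem value_torus {χ : IrrCharacter G} (hχ : ∃ j, S.d j χ ≠ 0) {s : L}
    (hs : s ∈ zpowers S.D.y) (hs1 : s ≠ 1) :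
    (χ : G → ℂ) (S.t * S.φ s) = S.d 0 χ - S.d 1 χ - S.d 2 χ := by
  rw [S.value_sect hχ (S.D.odd_of_pow_T (S.D.pow_T_of_mem hs))]
  simp only [Fin.sum_univ_three, S.D.phi_torus hs hs1, Matrix.cons_val_zero, Matrix.cons_val_one,
    Matrix.cons_val]
  ring

end Setup

end Cfsg.Lib.Walter8
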