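import Cfsg.Agent.Lib.Walter8.Setup
import Cfsg.Agent.Lib.Char.TI
import Cfsg.Agent.Lib.J1Order.Main

/-!
# The three columns of generalized decomposition numbers at the central involution

The functions `(1 - sgn) Φⱼ` of the centralizer, induced to the whole group.
-/

set_option autoImplicit false
set_option linter.unusedSectionVars false
set_option linter.style.haveILetI false

namespace Cfsg.Lib.Walter8

open Subgroup Cfsg Cfsg.Lib.Char
open scoped ComplexConjugate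

universe u

namespace Setup

variable {G L : Type u} [Group G] [Group L] (S : Setup G L)
include S

/-- The centralizer of the involution. -/
abbrev C : Subgroup G := centralizer ({S.t} : Set G)

theorem φ_mem_C (l : L) : S.φ l ∈ S.C := mem_centralizer_singleton_iff.mpr (S.comm l).symm

theorem tφ_mem_C (l : L) : S.t * S.φ l ∈ S.C :=
  mem_centralizer_singleton_iff.mpr (S.mem_cent _ ⟨l, Or.inr rfl⟩)

theorem centEquiv_inl (l : L) : S.centEquiv (Sum.inl l) = ⟨S.φ l, S.φ_mem_C l⟩ := rfl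

theorem centEquiv_inr (l : L) : S.centEquiv (Sum.inr l) = ⟨S.t * S.φ l, S.tφ_mem_C l⟩ := rfl

/-- The sign and the projection, as functions. -/
noncomputable def sp (c : S.C) : ℂ × L := Sum.elim (fun l => (1, l)) (fun l => (-1, l)) (S.centEquiv.symm c)

theorem sp_inl (l : L) : S.sp ⟨S.φ l, S.φ_mem_C l⟩ = (1, l) := by
  rw [sp, ← S.centEquiv_inl, Equiv.symm_apply_apply]; rfl

theorem sp_inr (l : L) : S.sp ⟨S.t * S.φ l, S.tφ_mem_C l⟩ = (-1, l) := by
  rw [sp, ← S.centEquiv_inr, Equiv.symm_apply_apply]; rfl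

theorem C_cases (c : S.C) : (∃ l, c = ⟨S.φ l, S.φ_mem_C l⟩) ∨
    ∃ l, c = ⟨S.t * S.φ l, S.tφ_mem_C l⟩ := by
  obtain ⟨l, hl | hl⟩ := S.cent c (mem_centralizer_singleton_iff.mp c.2)
  · exact Or.inl ⟨l, Subtype.ext hl⟩
  · exact Or.inr ⟨l, Subtype.ext hl⟩

theorem sp_mul (a b : S.C) : S.sp (a * b) = S.sp a * S.sp b := by
  have e1 : ∀ l m : L, (⟨S.φ l, S.φ_mem_C l⟩ * ⟨S.φ m, S.φ_mem_C m⟩ : S.C) =
      ⟨S.φ (l * m), S.φ_mem_C _⟩ := fun l m => Subtype.ext (map_mul _ _ _).symm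
  have e2 : ∀ l m : L, (⟨S.φ l, S.φ_mem_C l⟩ * ⟨S.t * S.φ m, S.tφ_mem_C m⟩ : S.C) =
      ⟨S.t * S.φ (l * m), S.tφ_mem_C _⟩ := fun l m => Subtype.ext (by
    show S.φ l * (S.t * S.φ m) = _
    rw [← mul_assoc, ← S.comm, mul_assoc, ← map_mul])
  have e3 : ∀ l m : L, (⟨S.t * S.φ l, S.tφ_mem_C l⟩ * ⟨S.φ m, S.φ_mem_C m⟩ : S.C) =
      ⟨S.t * S.φ (l * m), S.tφ_mem_C _⟩ := fun l m => Subtype.ext (by
    show S.t * S.φ l * S.φ m = _
    rw [mul_assoc, ← map_mul])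
  have e4 : ∀ l m : L, (⟨S.t * S.φ l, S.tφ_mem_C l⟩ * ⟨S.t * S.φ m, S.tφ_mem_C m⟩ : S.C) =
      ⟨S.φ (l * m), S.φ_mem_C _⟩ := fun l m => Subtype.ext (S.t_φ_mul l m)
  rcases S.C_cases a with ⟨l, rfl⟩ | ⟨l, rfl⟩ <;> rcases S.C_cases b with ⟨m, rfl⟩ | ⟨m, rfl⟩
  · rw [e1, sp_inl, sp_inl, sp_inl]; simp
  · rw [e2, sp_inr, sp_inl, sp_inr]; simp
  · rw [e3, sp_inr, sp_inr, sp_inl]; simp
  · rw [e4, sp_inl, sp_inr, sp_inr]; simp

theorem sp_one : S.sp 1 = (1, 1) := by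
  rw [show (1 : S.C) = ⟨S.φ 1, S.φ_mem_C 1⟩ from Subtype.ext (map_one _).symm, sp_inl]

/-- The projection to `L`. -/
noncomputable def proj : S.C →* L :=
  MonoidHom.mk' (fun c => (S.sp c).2) fun a b => by rw [sp_mul]; rfl

/-- The sign on the centralizer. -/
noncomputable def sgnC : S.C →* ℂˣ :=
  MonoidHom.toHomUnits
    { toFun := fun c => (S.sp c).1
      map_one' := by rw [sp_one]
      map_mul' := fun a b => by rw [sp_mul]; rfl }

theorem proj_apply (c : S.C) : S.proj c = (S.sp c).2 := rfl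

theorem sgnC_apply (c : S.C) : (S.sgnC c : ℂ) = (S.sp c).1 := rfl

theorem sgnC_cases (c : S.C) : (S.sgnC c : ℂ) = 1 ∨ (S.sgnC c : ℂ) = -1 := by
  rcases S.C_cases c with ⟨l, rfl⟩ | ⟨l, rfl⟩
  · exact Or.inl (by rw [sgnC_apply, sp_inl])
  · exact Or.inr (by rw [sgnC_apply, sp_inr])

/-- The local functions. -/
noncomputable def Wloc (j : Fin 3) (c : S.C) : ℂ := (1 - (S.sgnC c : ℂ)) * S.D.Phi j (S.proj c)

theorem Wloc_inl (j : Fin 3) (l : L) : S.Wloc j ⟨S.φ l, S.φ_mem_C l⟩ = 0 := by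
  rw [Wloc, sgnC_apply, sp_inl]; simp

theorem Wloc_inr (j : Fin 3) (l : L) :
    S.Wloc j ⟨S.t * S.φ l, S.tφ_mem_C l⟩ = 2 * S.D.Phi j l := by
  rw [Wloc, sgnC_apply, proj_apply, sp_inr]; norm_num

theorem Wloc_isGeneralized (j : Fin 3) : IsGeneralizedCharacter S.C (S.Wloc j) :=
  (((isCharacter_one (G := S.C)).isGeneralized).sub
    (isIrrCharacter_linear S.sgnC).isGeneralized).mul ((S.D.Phi_isGeneralized j).comp S.proj)

theorem Wloc_one (j : Fin 3) : S.Wloc j 1 = 0 := by simp [Wloc]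

/-- The elements `t l` with `l` of odd order. -/
def sect : Set G := {g | ∃ l : L, ¬ 2 ∣ orderOf l ∧ g = S.t * S.φ l}

theorem sect_pow [Finite G] {g : G} (hg : g ∈ S.sect) :
    ∃ m : ℕ, ∀ n : ℕ, Odd n → g ^ (m * n) = S.t ∧ Odd m := by
  haveI := S.finite_L
  obtain ⟨l, hl, rfl⟩ := hg
  have hm : Odd (orderOf l) := Nat.odd_iff.mpr (by omega)
  refine ⟨orderOf l, fun n hn => ⟨?_, hm⟩⟩
  rw [(show Commute S.t (S.φ l) from S.comm l).mul_pow, ← map_pow,
    orderOf_dvd_iff_pow_eq_one.mp (dvd_mul_right _ n), map_one, mul_one]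
  obtain ⟨c, hc⟩ := hm.mul hn
  rw [hc, pow_succ, pow_mul, sq, S.t_sq, one_pow, one_mul]

theorem sect_conj [Finite G] {x g : G} (hg : g ∈ S.sect) (h : x * g * x⁻¹ ∈ S.sect) :
    x * S.t * x⁻¹ = S.t := by
  obtain ⟨m, hm⟩ := S.sect_pow hg
  obtain ⟨m', hm'⟩ := S.sect_pow h
  have h1 := (hm 1 odd_one).2
  have h1' := (hm' 1 odd_one).2
  have e := (hm' m h1).1
  rw [conj_pow, mul_comm m' m, (hm m' h1').1] at e
  exact e

theorem sect_TI [Finite G] : ∀ x : G, x ∉ S.C → ∀ g ∈ S.sect, g ≠ 1 → x * g * x⁻¹ ∉ S.sect :=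
  fun _ hx _ hg _ h =>
    hx (mem_centralizer_singleton_iff.mpr (mul_inv_eq_iff_eq_mul.mp (S.sect_conj hg h)))

theorem Wloc_supp [Finite G] (j : Fin 3) (c : S.C) (hc : (c : G) ∉ S.sect) : S.Wloc j c = 0 := by
  haveI := S.finite_L
  rcases S.C_cases c with ⟨l, rfl⟩ | ⟨l, rfl⟩
  · exact S.Wloc_inl j l
  · rw [Wloc_inr]
    by_cases h : 2 ∣ orderOf l
    · rw [S.D.Phi_even h, mul_zero]
    · exact absurd ⟨l, h, rfl⟩ hc

variable [Fintype G]

/-- The induced functions. -/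
noncomputable def W (j : Fin 3) : G → ℂ := indFun S.C (S.Wloc j)

theorem W_isGeneralized (j : Fin 3) : IsGeneralizedCharacter G (S.W j) := by
  haveI := Fintype.ofFinite S.C
  exact isGeneralizedCharacter_indFun S.C (S.Wloc_isGeneralized j)

theorem W_one (j : Fin 3) : S.W j 1 = 0 := by rw [W, indFun_apply_one, Wloc_one, mul_zero]

theorem W_sect (j : Fin 3) {l : L} (hl : ¬ 2 ∣ orderOf l) :
    S.W j (S.t * S.φ l) = 2 * S.D.Phi j l := by
  rw [W, ← S.Wloc_inr j l]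
  exact indFun_eq_of_TI S.C S.sect S.sect_TI (S.Wloc_isGeneralized j).isClassFunction
    (S.Wloc_supp j) ⟨_, S.tφ_mem_C l⟩ ⟨l, hl, rfl⟩
    (fun e => S.t_mul_φ_ne l 1 (e.trans (map_one _).symm))

theorem W_odd (j : Fin 3) {g : G} (hg : ¬ 2 ∣ orderOf g) : S.W j g = 0 := by
  simp only [W, indFun]
  rw [Finset.sum_eq_zero, mul_zero]
  intro x _
  by_cases hm : x⁻¹ * g * x ∈ S.C
  · rw [extendByZero_of_mem S.C _ hm]
    refine S.Wloc_supp j _ fun h => ?_
    obtain ⟨m, hm'⟩ := S.sect_pow h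
    have e := (hm' (orderOf g) (Nat.odd_iff.mpr (by omega))).1
    have h1 : (x⁻¹ * g * x) ^ orderOf g = 1 := by
      rw [show x⁻¹ * g * x = x⁻¹ * g * (x⁻¹)⁻¹ by group, conj_pow, pow_orderOf_eq_one]; group
    exact S.t_ne (by rw [← e, mul_comm, pow_mul, h1, one_pow])
  · rw [extendByZero_of_notMem S.C _ hm]

theorem sum_C {M : Type*} [AddCommMonoid M] [Fintype L] [Fintype S.C] (F : S.C → M) :
    ∑ c, F c = (∑ l : L, F ⟨S.φ l, S.φ_mem_C l⟩) + ∑ l : L, F ⟨S.t * S.φ l, S.tφ_mem_C l⟩ := by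
  rw [← Equiv.sum_comp S.centEquiv F, Fintype.sum_sum_type]
  rfl

theorem card_C [Fintype L] : (Nat.card S.C : ℂ) = 2 * Nat.card L := by
  rw [← Nat.card_congr S.centEquiv, Nat.card_sum]
  push_cast
  ring

theorem inner_W_left [Fintype L] (j : Fin 3) {χ : G → ℂ} (hχ : IsClassFunction G χ) :
    classInner (S.W j) χ =
      classInner (S.D.Phi j) (fun l => χ (S.t * S.φ l)) := by
  classical
  haveI := Fintype.ofFinite S.C
  rw [W, classInner_indFun S.C _ hχ, classInner, classInner, S.sum_C, S.card_C]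
  simp only [Wloc_inl, Wloc_inr, zero_mul, Finset.sum_const_zero, zero_add, mul_assoc,
    ← Finset.mul_sum]
  field_simp

theorem inner_W_W [Fintype L] (i j : Fin 3) :
    classInner (S.W i) (S.W j) = if i = j then 4 else 2 := by
  classical
  haveI := Fintype.ofFinite S.C
  rw [W, W, classInner_indFun_TI S.C S.sect S.sect_TI (S.Wloc_isGeneralized j).isClassFunction
    (S.Wloc_supp i) (S.Wloc_supp j) (S.Wloc_one i)]
  have h := S.D.Phi_Phi i j
  simp only [classInner] at h ⊢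
  rw [S.sum_C, S.card_C]
  simp only [Wloc_inl, Wloc_inr, zero_mul, Finset.sum_const_zero, zero_add, map_mul, map_ofNat,
    mul_mul_mul_comm (2 : ℂ), ← Finset.mul_sum]
  rw [mul_inv, show (2 : ℂ)⁻¹ * (Nat.card L : ℂ)⁻¹ *
      (2 * 2 * ∑ l, S.D.Phi i l * conj (S.D.Phi j l)) =
    2 * ((Nat.card L : ℂ)⁻¹ * ∑ l, S.D.Phi i l * conj (S.D.Phi j l)) by ring, h]
  split_ifs <;> norm_num

theorem exists_d (j : Fin 3) (χ : IrrCharacter G) : ∃ n : ℤ, classInner (S.W j) (χ : G → ℂ) = n :=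
  (S.W_isGeneralized j).exists_int_classInner χ.2.isGeneralized

/-- The decomposition numbers. -/
noncomputable def d (j : Fin 3) (χ : IrrCharacter G) : ℤ := (S.exists_d j χ).choose

theorem d_spec (j : Fin 3) (χ : IrrCharacter G) :
    classInner (S.W j) (χ : G → ℂ) = S.d j χ := (S.exists_d j χ).choose_spec

theorem W_eq_sum (j : Fin 3) (g : G) :
    S.W j g = ∑ χ : IrrCharacter G, (S.d j χ : ℂ) * (χ : G → ℂ) g := by
  conv_lhs => rw [eq_sum_classInner (S.W_isGeneralized j).isClassFunction]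
  simp [Finset.sum_apply, S.d_spec]

theorem d_gram (i j : Fin 3) :
    ∑ χ : IrrCharacter G, S.d i χ * S.d j χ = if i = j then 4 else 2 := by
  haveI := S.finite_L
  haveI := Fintype.ofFinite L
  have h := S.inner_W_W i j
  rw [classInner_eq_sum (S.W_isGeneralized i).isClassFunction] at h
  simp only [S.d_spec, map_intCast] at h
  have h' : ((∑ χ : IrrCharacter G, S.d i χ * S.d j χ : ℤ) : ℂ) = ((if i = j then 4 else 2 : ℤ) : ℂ) := by
    push_cast [apply_ite (Int.cast (R := ℂ))]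
    exact h
  exact Int.cast_injective h'

theorem d_one (j : Fin 3) {one : IrrCharacter G} (h1 : (one : G → ℂ) = fun _ => 1) :
    S.d j one = if j = 0 then 1 else 0 := by
  haveI := S.finite_L
  haveI := Fintype.ofFinite L
  have h := S.inner_W_left j one.2.isClassFunction
  rw [S.d_spec] at h
  have h0 := S.D.Phi_phi j 0
  have e : S.D.phi 0 = fun _ => 1 := funext fun l => by simp [LModel.phi]
  simp only [h1] at h
  rw [e] at h0
  rw [h0] at h
  split_ifs at h ⊢ <;> exact_mod_cast h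

theorem d_degree (j : Fin 3) :
    ∑ χ : IrrCharacter G, (S.d j χ : ℂ) * (χ : G → ℂ) 1 = 0 := by
  rw [← S.W_eq_sum, W_one]

theorem invol_inl (l : L) :
    ((⟨S.φ l, S.φ_mem_C l⟩ : S.C) ≠ 1 ∧
      (⟨S.φ l, S.φ_mem_C l⟩ * ⟨S.φ l, S.φ_mem_C l⟩ : S.C) = 1) ↔ (l ≠ 1 ∧ l * l = 1) := by
  simp only [ne_eq, Subtype.ext_iff, Subgroup.coe_mul, OneMemClass.coe_one, ← map_mul,
    map_eq_one_iff S.φ S.inj]

theorem invol_inr (l : L) :
    ((⟨S.t * S.φ l, S.tφ_mem_C l⟩ : S.C) ≠ 1 ∧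
      (⟨S.t * S.φ l, S.tφ_mem_C l⟩ * ⟨S.t * S.φ l, S.tφ_mem_C l⟩ : S.C) = 1) ↔ l * l = 1 := by
  simp only [ne_eq, Subtype.ext_iff, Subgroup.coe_mul, OneMemClass.coe_one, S.t_φ_pow_two,
    map_eq_one_iff S.φ S.inj, and_iff_right_iff_imp]
  exact fun _ e => S.t_mul_φ_ne l 1 (e.trans (map_one _).symm)

/-- The local pair sums. -/
theorem pair_Wloc [Fintype L] [Fintype S.C] [DecidableEq L] [DecidableEq S.C] (j : Fin 3) :
    ∑ x ∈ involFinset S.C, ∑ y ∈ involFinset S.C, S.Wloc j (x * y) =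
      4 * ∑ x ∈ involFinset L, ∑ y ∈ involFinset L, S.D.Phi j (x * y) := by
  have hsplit : ∀ F : S.C → ℂ, ∑ x ∈ involFinset S.C, F x =
      (∑ l ∈ involFinset L, F ⟨S.φ l, S.φ_mem_C l⟩) +
        ∑ l ∈ insert 1 (involFinset L), F ⟨S.t * S.φ l, S.tφ_mem_C l⟩ := by
    intro F
    rw [involFinset, Finset.sum_filter, S.sum_C, involFinset]
    simp only [S.invol_inl, S.invol_inr, ← Finset.sum_filter]
    congr 2
    ext l
    by_cases h : l = 1 <;> simp [h]
  have hI : (1 : L) ∉ involFinset L := by simp [mem_involFinset]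
  have h0 : ∀ l ∈ involFinset L, S.D.Phi j l = 0 := fun l hl => by
    obtain ⟨h1, h2⟩ := mem_involFinset.1 hl
    exact S.D.Phi_even (by rw [orderOf_eq_prime (by rw [sq, h2]) h1]) j
  have hp : ∀ a b : S.C, S.Wloc j (a * b) =
      (1 - (S.sp a).1 * (S.sp b).1) * S.D.Phi j ((S.sp a).2 * (S.sp b).2) := fun a b => by
    rw [Wloc, sgnC_apply, proj_apply, sp_mul]
    rfl
  have hz := Finset.sum_eq_zero h0
  simp only [hsplit, hp, sp_inl, sp_inr, Finset.sum_insert hI, Finset.sum_add_distrib]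
  simp [← Finset.mul_sum, hz]
  ring

variable [IsSimpleGroup G] (hna : ¬ IsMulCommutative G)
include hna

/-- The pair equation of a column. -/
theorem pair_W (j : Fin 3) :
    ((S.C).index : ℂ) * ∑ χ : IrrCharacter G,
        (S.d j χ : ℂ) * ((χ : G → ℂ) S.t ^ 2 / (χ : G → ℂ) 1) =
      ![(S.D.Q : ℂ) * (S.D.Q - 1) ^ 2 * (S.D.Q + 1), (S.D.Q : ℂ) * (S.D.Q - 1) * (3 * S.D.Q - 1),
        (S.D.Q : ℂ) * (S.D.Q - 1) * (3 * S.D.Q - 1)] j := by
  classical
  haveI := S.finite_L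
  haveI := Fintype.ofFinite L
  haveI := Fintype.ofFinite S.C
  have hcl : involFinset G = classFinset S.t := by
    ext x
    rw [mem_involFinset, mem_classFinset]
    constructor
    · rintro ⟨h1, h2⟩
      obtain ⟨g, hg⟩ := S.exists_conj_t hna h2 h1
      exact isConj_iff.2 ⟨g, hg⟩
    · intro h
      obtain ⟨g, rfl⟩ := isConj_iff.1 h
      exact mem_involFinset.1 (conj_mem_involFinset g (mem_involFinset.2 ⟨S.t_ne, S.t_sq⟩))
  have hsum : ∀ χ : IrrCharacter G,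
      ∑ x ∈ involFinset G, (χ : G → ℂ) x = ((S.C).index : ℂ) * (χ : G → ℂ) S.t := fun χ => by
    rw [hcl, Finset.sum_congr rfl fun x hx => ?_, Finset.sum_const, card_classFinset, nsmul_eq_mul]
    obtain ⟨g, rfl⟩ := isConj_iff.1 (mem_classFinset.1 hx)
    exact χ.2.isClassFunction _ _
  have h1 := sum_invol_pair_eq (S.W_isGeneralized j).isClassFunction
  simp only [S.d_spec, hsum, mul_pow, mul_div_assoc] at h1
  have h2 := Cfsg.Lib.J1Order.sum_invol_pair_section S.C (ψ := S.Wloc j) (fun c hc x hx => by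
    have hs : (c : G) ∈ S.sect := by_contra fun h => hc (S.Wloc_supp j c h)
    obtain ⟨m, hm⟩ := S.sect_pow hs
    refine mem_centralizer_singleton_iff.2 (mul_inv_eq_iff_eq_mul.1 ?_)
    rw [← (hm 1 odd_one).1, ← conj_pow, hx, inv_pow, (hm 1 odd_one).1, S.t_inv])
  rw [← W, h1, S.pair_Wloc, S.D.pair_Phi] at h2
  refine mul_left_cancel₀ (Nat.cast_ne_zero.2 (index_ne_zero_of_finite (H := S.C)) : ((S.C).index : ℂ) ≠ 0) ?_
  rw [← h2, Finset.mul_sum, Finset.mul_sum]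
  exact Finset.sum_congr rfl fun χ _ => by ring

end Setup

end Cfsg.Lib.Walter8
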