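import Cfsg.Agent.Lib.Walter8.Columns
import Cfsg.Agent.Lib.Walter8.Fusion
import Cfsg.Agent.Lib.ReeType.Count

/-!
# The number of involutions and the degrees modulo eight
-/

set_option autoImplicit false
set_option linter.unusedSectionVars false
set_option linter.style.haveILetI false

namespace Cfsg.Lib.Walter8

open Subgroup Cfsg Cfsg.Lib.Char
open Cfsg.Lib.ReeType (IsInvol numInvol card_of_transitive)
open scoped ComplexConjugate

universe u

namespace Setup

variable {G L : Type u} [Group G] [Group L] [Finite G] (S : Setup G L)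
include S

theorem t_isInvol : IsInvol S.t := ⟨S.t_ne, S.t_sq⟩

theorem card_invol_L : (Nat.card {l : L // IsInvol l} : ℤ) * 2 = S.D.Q * (S.D.Q - 1) := by
  classical
  haveI := S.finite_L
  haveI := Fintype.ofFinite L
  rw [← S.D.card_invol, Nat.card_eq_fintype_card, Fintype.card_of_subtype (involFinset L)]
  intro l
  rw [mem_involFinset]
  rfl

/-- The involutions of the centralizer of `t`. -/
theorem card_invol_cent :
    (Nat.card {x : G // IsInvol x ∧ x * S.t = S.t * x} : ℤ) = S.D.Q * (S.D.Q - 1) + 1 := by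
  classical
  haveI := S.finite_L
  rw [← S.card_invol_L, mul_two, ← Nat.cast_add, ← Nat.card_sum, ← Nat.cast_one, ← Nat.cast_add,
    ← Nat.card_unique (α := Unit), ← Nat.card_sum, Nat.cast_inj]
  symm
  refine Nat.card_eq_of_bijective (Sum.elim (Sum.elim
    (fun l => ⟨S.φ l.1, ⟨fun e => l.2.1 (S.inj (e.trans (map_one _).symm)),
      by rw [← map_mul, l.2.2, map_one]⟩, (S.comm _).symm⟩)
    (fun l => ⟨S.t * S.φ l.1, ⟨fun e => S.t_mul_φ_ne l.1 1 (e.trans (map_one _).symm),
      by rw [S.t_φ_pow_two, l.2.2, map_one]⟩, S.mem_cent _ ⟨_, Or.inr rfl⟩⟩))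
    (fun _ => ⟨S.t, S.t_isInvol, rfl⟩)) ⟨?_, ?_⟩
  · rintro ((⟨l, hl⟩ | ⟨l, hl⟩) | u) ((⟨l', hl'⟩ | ⟨l', hl'⟩) | u') e <;>
      have e' := congrArg Subtype.val e <;> simp only [Sum.elim_inl, Sum.elim_inr] at e'
    · obtain rfl := S.inj e'; rfl
    · exact absurd e'.symm (S.t_mul_φ_ne _ _)
    · exact absurd e' (S.not_mem _)
    · exact absurd e' (S.t_mul_φ_ne _ _)
    · obtain rfl := S.inj (mul_left_cancel e'); rfl
    · exact absurd (S.inj ((mul_left_cancel (e'.trans (mul_one _).symm)).trans (map_one _).symm)) hl.1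
    · exact absurd e'.symm (S.not_mem _)
    · exact absurd (S.inj ((mul_left_cancel (e'.symm.trans (mul_one _).symm)).trans (map_one _).symm)) hl'.1
    · rfl
  · rintro ⟨x, hx, hxt⟩
    obtain ⟨l, hl2, h⟩ := S.involution_cent hxt hx.2
    by_cases hl1 : l = 1
    · rcases h with h | h
      · exact absurd (by rw [h, hl1, map_one]) hx.1
      · exact ⟨Sum.inr (), Subtype.ext (by simp [h, hl1])⟩
    · rcases h with h | h
      · exact ⟨Sum.inl (Sum.inl ⟨l, hl1, hl2⟩), Subtype.ext h.symm⟩
      · exact ⟨Sum.inl (Sum.inr ⟨l, hl1, hl2⟩), Subtype.ext h.symm⟩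

theorem card_G : Nat.card G = (S.C).index * (S.D.q * (S.D.q * S.D.q - 1)) := by
  haveI := S.finite_L
  rw [← S.card_cent, mul_comm, card_mul_index]

variable [IsSimpleGroup G] (hna : ¬ IsMulCommutative G)
include hna

theorem numInvol_eq : numInvol G = (S.C).index :=
  card_of_transitive IsInvol S.t S.t_isInvol (fun g _ h => h.conj g)
    fun _ hx => S.exists_conj_t hna hx.2 hx.1

theorem card_invol_cent_of {e : G} (he : IsInvol e) :
    (Nat.card {x : G // IsInvol x ∧ x * e = e * x} : ℤ) = S.D.Q * (S.D.Q - 1) + 1 := by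
  obtain ⟨g, rfl⟩ := S.exists_conj_t hna he.2 he.1
  exact (S.conj g).card_invol_cent

theorem N_mod_eight : ((S.C).index : ℤ) % 8 = 7 := by
  classical
  let act : MulAction S.elem {x : G // IsInvol x} :=
    { smul := fun e x => ⟨e * x * (e : G)⁻¹, x.2.conj _⟩
      one_smul := fun x => Subtype.ext (by show ((1 : S.elem) : G) * x * _ = x; simp)
      mul_smul := fun a b x => Subtype.ext (by
        show ((a * b : S.elem) : G) * x * _ = (a : G) * (b * x * (b : G)⁻¹) * _
        simp only [Subgroup.coe_mul]; group) }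
  haveI := Fintype.ofFinite S.elem
  haveI : ∀ e : S.elem, Fintype (MulAction.fixedBy {x : G // IsInvol x} e) := fun e =>
    Fintype.ofFinite _
  haveI := Fintype.ofFinite (MulAction.orbitRel.Quotient S.elem {x : G // IsInvol x})
  have hb := MulAction.sum_card_fixedBy_eq_card_orbits_mul_card_group S.elem {x : G // IsInvol x}
  have hfix : ∀ e : S.elem, (Fintype.card (MulAction.fixedBy {x : G // IsInvol x} e) : ℤ) =
      if e = 1 then ((S.C).index : ℤ) else S.D.Q * (S.D.Q - 1) + 1 := by
    intro e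
    rw [← Nat.card_eq_fintype_card]
    split_ifs with he
    · subst he
      rw [MulAction.fixedBy_one_eq_univ, Nat.card_congr (Equiv.Set.univ _), ← S.numInvol_eq hna]
      rfl
    · have hei : IsInvol (e : G) := ⟨fun h => he (Subtype.ext h), S.elem_sq e.2⟩
      rw [← S.card_invol_cent_of hna hei, Nat.cast_inj]
      refine Nat.card_congr ?_
      refine Equiv.trans (Equiv.subtypeSubtypeEquivSubtypeExists _ _)
        (Equiv.subtypeEquivRight fun x => ?_)
      constructor
      · rintro ⟨hx, h⟩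
        exact ⟨hx, (mul_inv_eq_iff_eq_mul.mp (congrArg Subtype.val h)).symm⟩
      · rintro ⟨hx, h⟩
        exact ⟨hx, Subtype.ext (mul_inv_eq_iff_eq_mul.mpr h.symm)⟩
  have hb' := congrArg (fun n : ℕ => (n : ℤ)) hb
  rw [Nat.cast_sum, Finset.sum_congr rfl fun e _ => hfix e,
    ← Finset.add_sum_erase _ _ (Finset.mem_univ (1 : S.elem)), if_pos rfl,
    Finset.sum_congr rfl fun e he => if_neg (Finset.ne_of_mem_erase he), Finset.sum_const,
    Finset.card_erase_of_mem (Finset.mem_univ _), Finset.card_univ, ← Nat.card_eq_fintype_card,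
    ← Nat.card_eq_fintype_card, S.card_elem, Nat.cast_mul, nsmul_eq_mul] at hb'
  have hQ := S.D.Q_mod
  obtain ⟨c, hc⟩ : ∃ c, S.D.Q = 8 * c + 3 := ⟨S.D.Q / 8, by omega⟩
  rw [hc, show (8 * c + 3) * (8 * c + 3 - 1) = 8 * (8 * c * c + 5 * c) + 6 by ring] at hb'
  push_cast at hb'
  omega

/-- When the rotation moves the torus, the number of involutions is three modulo its order. -/
theorem N_mod_T (R : Rot S) (hR : ¬ R.Triv) : (S.D.T : ℤ) ∣ ((S.C).index : ℤ) - 3 := by
  classical
  let X := {x : G // IsInvol x ∧ x ∉ S.K}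
  have hnot : ∀ τ ∈ S.Tsub, ∀ x : G, x ∈ S.K ↔ τ * x * τ⁻¹ ∈ S.K := fun τ hτ x => by
    constructor
    · exact fun h => mul_mem (mul_mem (S.Tsub_le hτ) h) (inv_mem (S.Tsub_le hτ))
    · intro h
      have := mul_mem (mul_mem (inv_mem (S.Tsub_le hτ)) h) (S.Tsub_le hτ)
      rwa [show τ⁻¹ * (τ * x * τ⁻¹) * τ = x by group] at this
  let act : MulAction S.Tsub X :=
    { smul := fun e x => ⟨e * x * (e : G)⁻¹, x.2.1.conj _, fun h => x.2.2 ((hnot _ e.2 _).mpr h)⟩
      one_smul := fun x => Subtype.ext (by show ((1 : S.Tsub) : G) * x * _ = x; simp)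
      mul_smul := fun a b x => Subtype.ext (by
        show ((a * b : S.Tsub) : G) * x * _ = (a : G) * (b * x * (b : G)⁻¹) * _
        simp only [Subgroup.coe_mul]; group) }
  haveI := Fintype.ofFinite S.Tsub
  haveI : ∀ e : S.Tsub, Fintype (MulAction.fixedBy X e) := fun e => Fintype.ofFinite _
  haveI := Fintype.ofFinite (MulAction.orbitRel.Quotient S.Tsub X)
  have hb := MulAction.sum_card_fixedBy_eq_card_orbits_mul_card_group S.Tsub X
  have hfix : ∀ e : S.Tsub, Fintype.card (MulAction.fixedBy X e) =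
      if e = 1 then Nat.card X else 0 := by
    intro e
    rw [← Nat.card_eq_fintype_card]
    split_ifs with he
    · subst he
      rw [MulAction.fixedBy_one_eq_univ, Nat.card_congr (Equiv.Set.univ _)]
    · rw [Nat.card_eq_zero]
      refine Or.inl ⟨fun ⟨x, hx⟩ => x.2.2 ?_⟩
      have h := mul_inv_eq_iff_eq_mul.mp (congrArg Subtype.val hx)
      have he' : (e : G) ≠ 1 := fun h' => he (Subtype.ext h')
      exact (R.invol_stab_torus (R.cent_le hna hR e.2 he'
        (mem_centralizer_singleton_iff.mpr h.symm)) e.2 he' h.symm x.2.1.2).mem_K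
  rw [Finset.sum_congr rfl fun e _ => hfix e, Finset.sum_ite_eq' Finset.univ (1 : S.Tsub),
    if_pos (Finset.mem_univ _), ← Nat.card_eq_fintype_card, ← Nat.card_eq_fintype_card,
    S.card_Tsub] at hb
  obtain ⟨h1, h2, h3, h4, h5, h6⟩ := S.tz_facts
  have hsplit : numInvol G = 3 + Nat.card X := by
    rw [numInvol, ← Nat.card_congr (Equiv.sumCompl fun x : {x : G // IsInvol x} => (x : G) ∈ S.K),
      Nat.card_sum]
    congr 1
    · rw [Nat.card_congr (Equiv.subtypeSubtypeEquivSubtypeInter _ (fun x => x ∈ S.K))]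
      have hX : {x : G | IsInvol x ∧ x ∈ S.K} =
          ↑({S.t, S.φ S.D.z, S.t * S.φ S.D.z} : Finset G) := by
        ext x
        simp only [Set.mem_ofPred_eq, Finset.coe_insert, Finset.coe_singleton, Set.mem_insert_iff,
          Set.mem_singleton_iff]
        constructor
        · rintro ⟨⟨hx1, hx2⟩, hxK⟩
          exact (S.inV_iff.mpr ⟨hxK, hx2⟩).resolve_left hx1
        · intro hx
          have hV : S.InV x := Or.inr hx
          refine ⟨⟨?_, hV.sq⟩, hV.mem_K⟩
          rcases hx with rfl | rfl | rfl <;> assumption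
      show Nat.card {x : G | IsInvol x ∧ x ∈ S.K} = 3
      rw [hX, Nat.card_coe_set_eq, Set.ncard_coe_finset]
      simp [h4.symm, h5.symm, h6.symm]
    · exact Nat.card_congr (Equiv.subtypeSubtypeEquivSubtypeInter _ (fun x => x ∉ S.K))
  exact ⟨(Nat.card (MulAction.orbitRel.Quotient S.Tsub X) : ℤ), by
    rw [← S.numInvol_eq hna, hsplit, hb]; push_cast; ring⟩

/-- Degrees and values at `t` agree modulo eight. -/
theorem deg_mod_eight (χ : IrrCharacter G) {a v : ℤ} (ha : (χ : G → ℂ) 1 = a)
    (hv : (χ : G → ℂ) S.t = v) : (a - v) % 8 = 0 := by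
  classical
  haveI : Fintype S.elem := Fintype.ofFinite _
  obtain ⟨n, hn⟩ := (χ.2.isCharacter.comp S.elem.subtype).exists_nat_classInner
    (isCharacter_one (G := S.elem))
  simp only [classInner, map_one, mul_one, S.card_elem, Subgroup.coe_subtype] at hn
  have hval : ∀ x ∈ Finset.univ.erase (1 : S.elem), (χ : G → ℂ) x = (v : ℂ) := by
    intro x hx
    have hx1 : (x : G) ≠ 1 := fun h => (Finset.ne_of_mem_erase hx) (Subtype.ext h)
    obtain ⟨g, hg⟩ := S.exists_conj_t hna (S.elem_sq x.2) hx1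
    rw [← hg, χ.2.isClassFunction, hv]
  rw [← Finset.add_sum_erase _ _ (Finset.mem_univ (1 : S.elem)), Finset.sum_congr rfl hval,
    Finset.sum_const, Finset.card_erase_of_mem (Finset.mem_univ _), Finset.card_univ,
    ← Nat.card_eq_fintype_card, S.card_elem, OneMemClass.coe_one, ha] at hn
  have : ((a + 7 * v : ℤ) : ℂ) = ((8 * (n : ℤ) : ℤ) : ℂ) := by
    push_cast
    have h8 : (8 : ℂ) ≠ 0 := by norm_num
    field_simp at hn
    simp at hn
    linear_combination hn
  have := Int.cast_injective this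
  omega

end Setup

end Cfsg.Lib.Walter8
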