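import Cfsg.Agent.Lib.Walter8.ModelElements

/-!
# The characters of the principal two-block on `SL₂(q)`, `q ≡ 3, 5 (mod 8)`
-/

set_option autoImplicit false
set_option linter.unusedSectionVars false
set_option linter.style.haveILetI false

namespace Cfsg.Lib.Walter8

open Cfsg Cfsg.Lib.Char Cfsg.Lib.TwoDim Matrix
open scoped MatrixGroups

universe u

variable {F : Type u} [Field F] [Fintype F] [DecidableEq F]

local notation "q" => Fintype.card F

variable (F) in
/-- The facts about a character of norm two trivial on the centre needed for the model. -/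
structure BlockChar (σ : ℤ) (T : ℕ) where
  π : SL(2, F) → ℂ
  χ : SL(2, F) → ℂ
  ψ : SL(2, F) → ℂ
  ν : Fˣ
  hν : ¬ IsSquare (ν : F)
  split : IsSplit π ν χ ψ
  apply_one : π 1 = (q : ℂ) - σ
  neg : π (-1) = π 1
  rational : ∀ g, ∃ r : ℚ, π g = r
  even : ∀ g : SL(2, F), g ^ (4 * T) = 1 → g ≠ 1 → g ≠ -1 →
    ¬ IsSc (g : M2 F) ∧ (g : M2 F).trace ^ 2 ≠ 4 ∧ stR F g = -σ ∧
      (g ^ (2 * T) = 1 → π g = -2 * σ) ∧ (g ^ (2 * T) ≠ 1 → π g = 2 * σ)
  rel : ∀ (g : SL(2, F)) (n : ℕ), Odd n → g ^ (2 * n) = 1 → σ * stR F g = 1 + σ * π g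

theorem stR_apply_neg (g : SL(2, F)) : stR F (-g) = stR F g := by
  rw [apply_neg_mul irr_stR (ε := 1) (by rw [stR_neg_one, one_mul]), one_mul]

theorem split_neg_apply {π : SL(2, F) → ℂ} {ν : Fˣ} {χ ψ : SL(2, F) → ℂ} (h : IsSplit π ν χ ψ)
    (hneg : π (-1) = π 1) (g : SL(2, F)) : π (-g) = π g := by
  rw [h.eq, Pi.add_apply, Pi.add_apply,
    apply_neg_mul h.irr (ε := 1) (h.apply_neg (by rw [one_mul]; exact hneg)),
    apply_neg_mul h.irr' (ε := 1) (h.symm.apply_neg (by rw [one_mul]; exact hneg)), one_mul, one_mul]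

/-- The case `q ≡ 5 (mod 8)`. -/
theorem exists_blockChar_five {T : ℕ} (hT : 4 * T + 1 = q) :
    Nonempty (BlockChar F (-1) T) := by
  have hodd : Odd q := ⟨2 * T, by omega⟩
  have hch := ringChar_ne_two hodd
  obtain ⟨D⟩ := exists_halfData (F := F) hodd
  have hsq : ∀ {a : F}, a ≠ 0 → (IsSquare a ↔ a ^ (2 * T) = 1) := fun {a} ha => by
    rw [FiniteField.isSquare_iff hch ha, show q / 2 = 2 * T by omega]
  have h2T : Even (2 * T) := even_two_mul T
  have hα : ∀ a : Fˣ, (a ^ (2 * T) = 1 → D.α0 a = 1) ∧ (a ^ (2 * T) ≠ 1 → D.α0 a = -1) := fun a => by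
    have h := quadratic_cases D.α0_sq D.α0_ne a.ne_zero
    have e : (a : F) ^ (2 * T) = 1 ↔ a ^ (2 * T) = 1 := by
      rw [← Units.val_pow_eq_pow_val, Units.val_eq_one]
    rw [hsq a.ne_zero, e] at h
    exact h
  have hneg : psR D.α0 (-1) = psR D.α0 1 := by
    rw [neg_one_val_psR, (quadratic_cases D.α0_sq D.α0_ne (neg_ne_zero.2 one_ne_zero)).1
      ((hsq (neg_ne_zero.2 one_ne_zero)).2 h2T.neg_one_pow), one_mul]
  have hπneg := split_neg_apply D.psplit hneg
  have hinv : ∀ a : F, D.α0 a⁻¹ = D.α0 a := fun a => by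
    rw [← MulChar.inv_apply', show D.α0⁻¹ = D.α0 from inv_eq_of_mul_eq_one_right (by rw [← sq]; exact D.α0_sq)]
  refine ⟨⟨psR D.α0, D.p1, D.p2, D.ν, D.hν, D.psplit, ?_, hneg, ?_, ?_, ?_⟩⟩
  · rw [psR_one]; push_cast; ring
  · intro g
    rcases element_cases hch g with (rfl | rfl) | ⟨y, rfl | rfl⟩ | ⟨-, -, ⟨a, ha, hc⟩ | ⟨k, x, -, -, he⟩⟩
    · exact ⟨(q + 1 : ℕ), by rw [psR_one]; norm_num⟩
    · exact ⟨(q + 1 : ℕ), by rw [hneg, psR_one]; norm_num⟩
    · exact ⟨1, by rw [psR_uu]; norm_num⟩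
    · exact ⟨1, by rw [hπneg, psR_uu]; norm_num⟩
    · rw [psR_split _ ha hc, hinv]
      by_cases h : a ^ (2 * T) = 1
      · exact ⟨2, by rw [(hα a).1 h]; norm_num⟩
      · exact ⟨-2, by rw [(hα a).2 h]; norm_num⟩
    · exact ⟨0, by rw [psR_no_eigen _ he, Rat.cast_zero]⟩
  · intro g hg hg1 hg2
    have h4 : ((4 * T : ℕ) : F) ≠ 0 := by
      have hz := cast_q (F := F)
      rw [← hT, Nat.cast_add, Nat.cast_one] at hz
      intro e
      rw [e, zero_add] at hz
      exact one_ne_zero hz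
    rcases element_cases hch g with (rfl | rfl) | ⟨y, rfl | rfl⟩ | ⟨hs, ht, ⟨a, ha, hc⟩ | ⟨k, x, hk, hx, he⟩⟩
    · exact absurd rfl hg1
    · exact absurd rfl hg2
    · exact absurd hg (uu_not_pow_one h4)
    · rw [(show Even (4 * T) from ⟨2 * T, by omega⟩).neg_pow] at hg
      exact absurd hg (uu_not_pow_one h4)
    · refine ⟨hs, ht, by rw [stR_split ha hc]; norm_num, fun h => ?_, fun h => ?_⟩ <;>
        simp only [ne_eq, splitSL_pow_eq_one hc] at h <;> rw [psR_split _ ha hc, hinv]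
      · rw [(hα a).1 h]; norm_num
      · rw [(hα a).2 h]; norm_num
    · exfalso
      rw [torusSL_pow_eq_one hx] at hg
      have hcard : k ^ (4 * T + 2) = 1 := by
        rw [show 4 * T + 2 = Nat.card ↥(normOne F) by rw [card_normOne]; omega, pow_card_eq_one']
      rw [pow_add, hg, one_mul] at hcard
      exact sq_ne_one_of_outside hch hk hcard
  · intro g n hn hg
    rcases element_cases hch g with (rfl | rfl) | ⟨y, rfl | rfl⟩ | ⟨-, -, ⟨a, ha, hc⟩ | ⟨k, x, -, -, he⟩⟩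
    · rw [stR_one, psR_one]; push_cast; ring
    · rw [stR_neg_one, hneg, stR_one, psR_one]; push_cast; ring
    · rw [stR_uu, psR_uu]; push_cast; ring
    · rw [stR_apply_neg, hπneg, stR_uu, psR_uu]; push_cast; ring
    · rw [splitSL_pow_eq_one hc] at hg
      have h1 : a ^ (2 * T) = 1 := by
        refine eq_one_of_sq_odd ?_ hn ?_
        · rw [← pow_mul, show 2 * T * 2 = 4 * T by omega]
          have := pow_card_eq_one (G := Fˣ) (x := a)
          rwa [Fintype.card_units, show q - 1 = 4 * T by omega] at this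
        · rw [← pow_mul, show 2 * T * n = 2 * n * T by ring, pow_mul, hg, one_pow]
      rw [stR_split ha hc, psR_split _ ha hc, hinv, (hα a).1 h1]
      push_cast; ring
    · rw [stR_elliptic he, psR_no_eigen _ he]; push_cast; ring

/-- The case `q ≡ 3 (mod 8)`. -/
theorem exists_blockChar_three {T : ℕ} (hT : 4 * T = q + 1) :
    Nonempty (BlockChar F 1 T) := by
  have hT1 : 0 < T := by omega
  have hodd : Odd q := ⟨2 * T - 1, by omega⟩
  have hch := ringChar_ne_two hodd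
  obtain ⟨D⟩ := exists_halfData (F := F) hodd
  have hm : Nat.card ↥(normOne F) = 2 * (2 * T) := by rw [card_normOne]; omega
  have hcard : ∀ k : ↥(normOne F), k ^ (4 * T) = 1 := fun k => by
    rw [show 4 * T = Nat.card ↥(normOne F) by rw [hm]; omega, pow_card_eq_one']
  have hφ : ∀ k : ↥(normOne F), (k ^ (2 * T) = 1 → (D.φ0 k : ℂ) = 1) ∧ (k ^ (2 * T) ≠ 1 → (D.φ0 k : ℂ) = -1) :=
    fun k => invol_hom_cases hm D.φ0_sq D.φ0_ne k
  have hneg : cuQ D.φ0 (-1) = cuQ D.φ0 1 := by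
    have hmem : (-1 : (Quad F)ˣ) ∈ normOne F := mem_normOne.2 (by
      rw [Units.val_neg, Units.val_one, ← map_one (inc (F := F)), ← map_neg, nm_inc, neg_one_sq])
    have e : lift1 D.φ0 (inc (-1)) = (D.φ0 ⟨-1, hmem⟩ : ℂ) := by
      rw [← lift1_apply]; simp
    rw [neg_one_val_cuQ, e, (hφ ⟨-1, hmem⟩).1 (Subtype.ext (by
      rw [Subgroup.coe_pow, Subgroup.coe_one, (even_two_mul T).neg_one_pow])), one_mul]
  have hπneg := split_neg_apply D.csplit hneg
  have hone : cuQ D.φ0 1 = (q : ℂ) - 1 := by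
    rw [cuQ, cuR_one, Nat.cast_sub Fintype.card_pos, Nat.cast_one]
  have hell : ∀ {g : SL(2, F)} {k : ↥(normOne F)} {x : GL (Fin 2) F},
      ((k : (Quad F)ˣ) : Quad F) ∈ outside → cj x (torusSL k) = g →
        (k ^ (2 * T) = 1 → cuQ D.φ0 g = -2) ∧ (k ^ (2 * T) ≠ 1 → cuQ D.φ0 g = 2) := by
    intro g k x hk hx
    constructor <;> intro h <;> rw [← hx, cuQ_torus _ hk]
    · rw [(hφ k).1 h]; norm_num
    · rw [(hφ k).2 h]; norm_num
  refine ⟨⟨cuQ D.φ0, D.c1, D.c2, D.ν, D.hν, D.csplit, ?_, hneg, ?_, ?_, ?_⟩⟩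
  · rw [hone, Int.cast_one]
  · intro g
    rcases element_cases hch g with (rfl | rfl) | ⟨y, rfl | rfl⟩ | ⟨-, -, ⟨a, ha, hc⟩ | ⟨k, x, hk, hx, -⟩⟩
    · exact ⟨(q : ℚ) - 1, by rw [hone]; push_cast; rfl⟩
    · exact ⟨(q : ℚ) - 1, by rw [hneg, hone]; push_cast; rfl⟩
    · exact ⟨-1, by rw [cuQ_uu]; norm_num⟩
    · exact ⟨-1, by rw [hπneg, cuQ_uu]; norm_num⟩
    · exact ⟨0, by rw [cuQ_split D.φ0_ne ha hc, Rat.cast_zero]⟩
    · by_cases h : k ^ (2 * T) = 1
      · exact ⟨-2, by rw [(hell hk hx).1 h]; norm_num⟩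
      · exact ⟨2, by rw [(hell hk hx).2 h]; norm_num⟩
  · intro g hg hg1 hg2
    have h4 : ((4 * T : ℕ) : F) ≠ 0 := by
      rw [hT, Nat.cast_add, cast_q, zero_add, Nat.cast_one]
      exact one_ne_zero
    rcases element_cases hch g with (rfl | rfl) | ⟨y, rfl | rfl⟩ | ⟨hs, ht, ⟨a, ha, hc⟩ | ⟨k, x, hk, hx, he⟩⟩
    · exact absurd rfl hg1
    · exact absurd rfl hg2
    · exact absurd hg (uu_not_pow_one h4)
    · rw [(show Even (4 * T) from ⟨2 * T, by omega⟩).neg_pow] at hg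
      exact absurd hg (uu_not_pow_one h4)
    · exfalso
      rw [splitSL_pow_eq_one hc] at hg
      have := pow_card_eq_one (G := Fˣ) (x := a)
      rw [Fintype.card_units] at this
      rw [show 4 * T = (q - 1) + 2 by omega, pow_add, this, one_mul] at hg
      exact ha hg
    · refine ⟨hs, ht, by rw [stR_elliptic he]; norm_num, fun h => ?_, fun h => ?_⟩ <;>
        simp only [ne_eq, torusSL_pow_eq_one hx] at h
      · rw [(hell hk hx).1 h]; norm_num
      · rw [(hell hk hx).2 h]; norm_num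
  · intro g n hn hg
    rcases element_cases hch g with (rfl | rfl) | ⟨y, rfl | rfl⟩ | ⟨-, -, ⟨a, ha, hc⟩ | ⟨k, x, hk, hx, he⟩⟩
    · rw [stR_one, hone]; push_cast; ring
    · rw [stR_neg_one, hneg, stR_one, hone]; push_cast; ring
    · rw [stR_uu, cuQ_uu]; push_cast; ring
    · rw [stR_apply_neg, hπneg, stR_uu, cuQ_uu]; push_cast; ring
    · rw [stR_split ha hc, cuQ_split D.φ0_ne ha hc]; push_cast; ring
    · rw [torusSL_pow_eq_one hx] at hg
      have h1 : k ^ (2 * T) = 1 := by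
        refine eq_one_of_sq_odd ?_ hn ?_
        · rw [← pow_mul, show 2 * T * 2 = 4 * T by omega, hcard]
        · rw [← pow_mul, show 2 * T * n = 2 * n * T by ring, pow_mul, hg, one_pow]
      rw [stR_elliptic he, (hell hk hx).1 h1]
      push_cast; ring

end Cfsg.Lib.Walter8
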