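import Cfsg.Agent.Lib.TwoDim.Normalizers
import Cfsg.Agent.Lib.TwoDim.DegreeSets
import Cfsg.Agent.Lib.Char.Galois

/-!
# The elements of `SL₂(q)`, `q` odd, for the values of the characters of the principal two-block
-/

set_option autoImplicit false
set_option linter.unusedSectionVars false
set_option linter.style.haveILetI false

namespace Cfsg.Lib.Walter8

open Cfsg Cfsg.Lib.Char Cfsg.Lib.TwoDim Matrix
open scoped MatrixGroups

universe u

section Generic

variable {G : Type*} [Monoid G]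

theorem eq_one_of_sq_odd {x : G} {n : ℕ} (h2 : x ^ 2 = 1) (hn : Odd n) (hxn : x ^ n = 1) : x = 1 := by
  obtain ⟨m, rfl⟩ := hn
  rwa [pow_succ, pow_mul, h2, one_pow, one_mul] at hxn

end Generic

variable {F : Type u} [Field F]

/-- An element of `SL₂` of square one is `1` or `-1`. -/
theorem pm_one_of_mul_self (h2 : (2 : F) ≠ 0) {g : SL(2, F)} (h : g * g = 1) : g = 1 ∨ g = -1 := by
  have hd := g.2
  rw [Matrix.det_fin_two] at hd
  have e : (g : M2 F) = (g : M2 F).adjugate := by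
    rw [← Matrix.SpecialLinearGroup.coe_inv, ← eq_inv_of_mul_eq_one_left h]
  have e00 := congrFun (congrFun e 0) 0
  have e01 := congrFun (congrFun e 0) 1
  have e10 := congrFun (congrFun e 1) 0
  simp [Matrix.adjugate_fin_two] at e00 e01 e10
  have h01 : g 0 1 = 0 := mul_left_cancel₀ h2 (by linear_combination e01)
  have h10 : g 1 0 = 0 := mul_left_cancel₀ h2 (by linear_combination e10)
  rw [h01, zero_mul, sub_zero, ← e00] at hd
  rcases mul_self_eq_one_iff.1 hd with a | a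
  · exact Or.inl (Matrix.SpecialLinearGroup.ext _ _ fun i j => by
      fin_cases i <;> fin_cases j <;> simp [h01, h10, ← e00, a])
  · exact Or.inr (Matrix.SpecialLinearGroup.ext _ _ fun i j => by
      fin_cases i <;> fin_cases j <;> simp [h01, h10, ← e00, a])

theorem cj_neg (x : GL (Fin 2) F) (g : SL(2, F)) : cj x (-g) = -cj x g := Subtype.ext (by
  simp [cj_coe, Matrix.SpecialLinearGroup.coe_neg])

theorem units_sq_ne {a : Fˣ} (ha : a ^ 2 ≠ 1) : (a : F) ^ 2 ≠ 1 := fun e => ha (Units.ext (by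
  rw [Units.val_pow_eq_pow_val, e, Units.val_one]))

variable [Fintype F] [DecidableEq F]

local notation "q" => Fintype.card F

/-- The powers of the unipotent element. -/
theorem uu_pow_coe (n : ℕ) : ((uu F ^ n : SL(2, F)) : M2 F) = !![1, (n : F); 0, 1] := by
  rw [Matrix.SpecialLinearGroup.coe_pow, uu_coe, pow_unitri, mul_one]

theorem uu_pow_eq_cj {n : ℕ} (hn : (n : F) ≠ 0) : uu F ^ n = cj (x0 (Units.mk0 _ hn)) (uu F) := by
  have hx : ((x0 (Units.mk0 (n : F) hn))⁻¹ : GL (Fin 2) F) = x0 (Units.mk0 (n : F) hn)⁻¹ :=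
    inv_eq_of_mul_eq_one_right (Units.ext (by
      rw [Units.val_mul]
      ext i j
      fin_cases i <;> fin_cases j <;> simp [x0_coe, Matrix.mul_apply, Fin.sum_univ_two, hn]))
  refine Subtype.ext ?_
  rw [uu_pow_coe, cj_coe, hx, x0_coe, x0_coe, uu_coe]
  ext i j
  fin_cases i <;> fin_cases j <;> simp [Matrix.mul_apply, Fin.sum_univ_two, hn]

theorem uu_not_pow_one {y : GL (Fin 2) F} {n : ℕ} (hn : (n : F) ≠ 0) : (cj y (uu F)) ^ n ≠ 1 := by
  rw [← map_pow]
  intro h
  have h' : uu F ^ n = 1 := cj_injective y (h.trans (map_one _).symm)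
  have := congrArg (fun g : SL(2, F) => (g : M2 F) 0 1) h'
  rw [uu_pow_coe] at this
  exact hn (by simpa using this)

theorem splitSL_pow_eq_one {g : SL(2, F)} {a : Fˣ} (h : IsConj g (splitSL F a)) (n : ℕ) :
    g ^ n = 1 ↔ a ^ n = 1 := by
  obtain ⟨c, hc⟩ := isConj_iff.1 h
  rw [← map_eq_one_iff (splitSL F) splitSL_injective, map_pow, ← hc, conj_pow, conj_eq_one_iff]

theorem torusSL_pow_eq_one {g : SL(2, F)} {k : ↥(normOne F)} {x : GL (Fin 2) F} (h : cj x (torusSL k) = g) (n : ℕ) :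
    g ^ n = 1 ↔ k ^ n = 1 := by
  rw [← h, ← map_pow, ← map_pow, map_eq_one_iff (cj x) (cj_injective x),
    map_eq_one_iff torusSL torusSL_injective]

theorem not_eigen_of_roots {M : M2 F} (h : roots M.trace M.det = ∅) (c : F) (v : Fin 2 → F) (hv : v ≠ 0) :
    M.mulVec v ≠ c • v := by
  intro e
  refine Finset.notMem_empty c (h ▸ ?_)
  have h0 : (M - c • (1 : M2 F)).det = 0 := Matrix.exists_mulVec_eq_zero_iff.1
    ⟨v, hv, by rw [Matrix.sub_mulVec, Matrix.smul_mulVec, Matrix.one_mulVec, e, sub_self]⟩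
  rw [mem_roots, Matrix.trace_fin_two, Matrix.det_fin_two]
  simp [Matrix.det_fin_two] at h0
  linear_combination h0

/-- The four kinds of elements: central, unipotent up to sign, split, elliptic. -/
theorem element_cases (hodd : ringChar F ≠ 2) (g : SL(2, F)) :
    (g = 1 ∨ g = -1) ∨ (∃ y : GL (Fin 2) F, g = cj y (uu F) ∨ g = -cj y (uu F)) ∨
      (¬ IsSc (g : M2 F) ∧ (g : M2 F).trace ^ 2 ≠ 4 ∧
        ((∃ a : Fˣ, a ^ 2 ≠ 1 ∧ IsConj g (splitSL F a)) ∨
          ∃ (k : ↥(normOne F)) (x : GL (Fin 2) F), ((k : (Quad F)ˣ) : Quad F) ∈ outside ∧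
            cj x (torusSL k) = g ∧ ∀ (c : F) (v : Fin 2 → F), v ≠ 0 → (g : M2 F).mulVec v ≠ c • v)) := by
  have h2 : (2 : F) ≠ 0 := Ring.two_ne_zero hodd
  by_cases hs : IsSc (g : M2 F)
  · left
    obtain ⟨c, hc⟩ := isSc_iff.1 hs
    refine pm_one_of_mul_self h2 (Subtype.ext ?_)
    have hd := g.2
    rw [hc, Matrix.det_smul, Matrix.det_one, mul_one, Fintype.card_fin] at hd
    rw [Matrix.SpecialLinearGroup.coe_mul, Matrix.SpecialLinearGroup.coe_one, hc, smul_mul_smul_comm, one_mul, ← sq,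
      hd, one_smul]
  right
  by_cases h4 : (g : M2 F).trace ^ 2 = 4
  · left
    have huu : ¬ IsSc (uu F : M2 F) := not_isSc_of_upper (by simp [uu_coe])
    have key : ∀ g' : SL(2, F), ¬ IsSc (g' : M2 F) → (g' : M2 F).trace = 2 →
        ∃ y : GL (Fin 2) F, g' = cj y (uu F) := by
      intro g' hg' ht
      obtain ⟨y, hy⟩ := isConj_iff.1 (isConj_of_tr_det (g := Matrix.SpecialLinearGroup.toGL (uu F))
        (h := Matrix.SpecialLinearGroup.toGL g') huu hg'
        (by
          show (uu F : M2 F).trace = (g' : M2 F).trace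
          rw [ht, uu_coe]; simp [Matrix.trace_fin_two, one_add_one_eq_two])
        ((uu F).2.trans g'.2.symm))
      rw [← toGL_cj] at hy
      exact ⟨y, Subtype.ext (congrArg Units.val hy.symm)⟩
    rcases eq_or_eq_neg_of_sq_eq_sq _ (2 : F) (h4.trans (by norm_num)) with ht | ht
    · obtain ⟨y, hy⟩ := key g hs ht
      exact ⟨y, Or.inl hy⟩
    · obtain ⟨y, hy⟩ := key (-g) (fun e => hs (by
          obtain ⟨c, hc⟩ := isSc_iff.1 e
          rw [Matrix.SpecialLinearGroup.coe_neg] at hc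
          exact isSc_iff.2 ⟨-c, by rw [neg_smul, ← hc, neg_neg]⟩))
        (by rw [Matrix.SpecialLinearGroup.coe_neg, Matrix.trace_neg, ht, neg_neg])
      exact ⟨y, Or.inr (by rw [← hy, neg_neg])⟩
  right
  refine ⟨hs, h4, ?_⟩
  rcases Finset.eq_empty_or_nonempty (roots (g : M2 F).trace (g : M2 F).det) with hr | ⟨a, ha⟩
  · have hne := not_eigen_of_roots hr
    obtain ⟨k, x, hk, hx, -⟩ := exists_torus hne
    exact Or.inr ⟨k, x, hk, hx, hne⟩
  · rw [mem_roots, g.2] at ha
    have ha0 : a ≠ 0 := fun e => by rw [e] at ha; simp at ha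
    have ht : (g : M2 F).trace = a + a⁻¹ := by field_simp; linear_combination -ha
    have ha2 : Units.mk0 a ha0 ^ 2 ≠ 1 := fun e => h4 (by
      have e' : a ^ 2 = 1 := by simpa using congrArg Units.val e
      rw [ht, inv_eq_of_mul_eq_one_right ((sq a).symm.trans e')]
      linear_combination 4 * e')
    refine Or.inl ⟨Units.mk0 a ha0, ha2, isConj_of_trace hodd hs ?_ ?_ h4⟩
    · refine not_isSc_of_diag ?_
      rw [splitSL_coe]
      simpa using fun e : a = a⁻¹ => ha2 (Units.ext (by simp [sq]; nth_rw 2 [e]; exact mul_inv_cancel₀ ha0))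
    · rw [splitSL_coe, ht]
      simp [Matrix.trace_fin_two]

theorem psR_uu (α : MulChar F ℂ) (y : GL (Fin 2) F) : psR α (cj y (uu F)) = 1 :=
  (sF_cj _ _ y (uu F)).trans
    (psR_unip α (by simp [uu_coe]) (by simp [uu_coe]) (by simp [uu_coe]) (by simp [uu_coe]))

theorem cuQ_uu (φ : ↥(normOne F) →* ℂˣ) (y : GL (Fin 2) F) : cuQ φ (cj y (uu F)) = -1 :=
  (sF_cj _ _ y (uu F)).trans
    (cuQ_unip φ (by simp [uu_coe]) (by simp [uu_coe]) (by simp [uu_coe]) (by simp [uu_coe]))

theorem stR_uu (y : GL (Fin 2) F) : stR F (cj y (uu F)) = 0 :=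
  (sF_cj _ _ y (uu F)).trans (stR_unip (by simp [uu_coe]) (by simp [uu_coe]) (by simp [uu_coe]))

theorem psR_split (α : MulChar F ℂ) {g : SL(2, F)} {a : Fˣ} (ha : a ^ 2 ≠ 1) (h : IsConj g (splitSL F a)) :
    psR α g = α a + α (a : F)⁻¹ := by
  obtain ⟨c, hc⟩ := isConj_iff.1 h
  rw [← (isCharacter_psR α).isClassFunction g c, hc,
    psR_diag α (by simp [splitSL_coe]) (by rw [splitSL_coe]; exact units_sq_ne ha)]
  simp [splitSL_coe]

theorem cuQ_split {φ : ↥(normOne F) →* ℂˣ} (hφ : φ ≠ 1) {g : SL(2, F)} {a : Fˣ} (ha : a ^ 2 ≠ 1)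
    (h : IsConj g (splitSL F a)) : cuQ φ g = 0 := by
  obtain ⟨c, hc⟩ := isConj_iff.1 h
  rw [← (isCharacter_cuQ hφ).isClassFunction g c, hc,
    cuQ_diag φ (by simp [splitSL_coe]) (by rw [splitSL_coe]; exact units_sq_ne ha)]

theorem stR_split {g : SL(2, F)} {a : Fˣ} (ha : a ^ 2 ≠ 1) (h : IsConj g (splitSL F a)) : stR F g = 1 := by
  rw [stR_eq, Pi.sub_apply, psR_split _ ha h, oneR_eq, MulChar.one_apply a.isUnit,
    MulChar.one_apply (Ne.isUnit (inv_ne_zero a.ne_zero))]
  ring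

theorem stR_elliptic {g : SL(2, F)}
    (h : ∀ (c : F) (v : Fin 2 → F), v ≠ 0 → (g : M2 F).mulVec v ≠ c • v) : stR F g = -1 := by
  rw [stR_eq, Pi.sub_apply, psR_no_eigen _ h, oneR_eq, zero_sub]

/-- A power map with exponent a nonsquare of the field exchanges the two halves of a character with rational
values. -/
theorem swap_pow {π χ ψ : SL(2, F) → ℂ} {ν : Fˣ} (h : IsSplit π ν χ ψ) (hodd : ringChar F ≠ 2)
    (hν : ¬ IsSquare (ν : F)) (hneg : π (-1) = π 1) (hrat : ∀ g, ∃ r : ℚ, π g = r) {k : ℕ}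
    (hk : k.Coprime (Nat.card SL(2, F))) (hko : Odd k) (hks : ¬ IsSquare (k : F)) (g : SL(2, F)) :
    χ (g ^ k) = ψ g := by
  have hχn := h.apply_neg (ε := 1) (by rw [one_mul]; exact hneg)
  have hψn := h.symm.apply_neg (ε := 1) (by rw [one_mul]; exact hneg)
  have hk0 : (k : F) ≠ 0 := fun e => hks (e ▸ IsSquare.zero)
  have huni : ∀ y : GL (Fin 2) F, χ (cj y (uu F) ^ k) = ψ (cj y (uu F)) := by
    intro y
    have hd : IsSquare ((y * x0 (Units.mk0 _ hk0) * y⁻¹ * (x0 ν)⁻¹ : GL (Fin 2) F) : M2 F).det := by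
      by_contra hns
      refine hks ?_
      have e : (k : F) = ((y * x0 (Units.mk0 _ hk0) * y⁻¹ * (x0 ν)⁻¹ : GL (Fin 2) F) : M2 F).det * ν := by
        rw [← det_x0 ν, ← Matrix.det_mul, ← Units.val_mul, inv_mul_cancel_right, Units.val_mul, Units.val_mul,
          Matrix.det_mul, Matrix.det_mul, det_x0, Units.val_mk0, mul_right_comm, ← Matrix.det_mul, ← Units.val_mul,
          mul_inv_cancel, Units.val_one, Matrix.det_one, one_mul]
      rw [e, isSquare_mul_nonsquare hν (Matrix.GeneralLinearGroup.det_ne_zero _)]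
      exact hns
    rw [← map_pow, uu_pow_eq_cj hk0, ← cj_mul, ← h.swap (cj y (uu F)),
      ← classFn_cj hd h.irr.isClassFunction (cj (x0 ν) _), ← cj_mul, ← cj_mul, inv_mul_cancel_right,
      inv_mul_cancel_right]
  rcases element_cases hodd g with hg | ⟨y, rfl | rfl⟩ | ⟨hs, h4, -⟩
  · have hsc : IsSc (g : M2 F) := by
      rcases hg with rfl | rfl
      · simp [IsSc]
      · exact isSc_neg_one
    have hgk : g ^ k = g := by
      rcases hg with rfl | rfl
      · exact one_pow k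
      · exact hko.neg_one_pow
    rw [hgk]
    linear_combination (1 / 2 : ℂ) * h.scalar hsc - (1 / 2 : ℂ) * h.symm.scalar hsc
  · exact huni y
  · rw [hko.neg_pow, apply_neg_mul h.irr (ε := 1) hχn, apply_neg_mul h.irr' (ε := 1) hψn, huni y]
  · obtain ⟨r, hr⟩ := hrat g
    have e1 := h.regular hodd hs h4
    have e2 := h.symm.regular hodd hs h4
    have hval : χ g = ((r / 2 : ℚ) : ℂ) := by push_cast; rw [← hr]; linear_combination (1 / 2 : ℂ) * e1
    rw [pow_invariant_of_rat h.irr.isCharacter g hval hk]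
    linear_combination (1 / 2 : ℂ) * e1 - (1 / 2 : ℂ) * e2

end Cfsg.Lib.Walter8
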