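import Mathlib.Algebra.BigOperators.Fin
import Mathlib.Algebra.Order.BigOperators.Ring.Finset
import Mathlib.Tactic.Linarith
import Mathlib.Tactic.Ring

/-!
# Integer vectors of small norm occurring as multiplicities of the exceptional characters
-/

set_option autoImplicit false
set_option linter.unusedSectionVars false

namespace Cfsg.Lib.Walter8

theorem bound_one {a : ℤ} (h : a * a ≤ 2) : a = 0 ∨ a = 1 ∨ a = -1 := by
  have h1 : a ≤ 1 := by nlinarith
  have h2 : -1 ≤ a := by nlinarith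
  omega

/-- The rows of `ψ'` in the shape with eight rows. -/
theorem options8 {x u u' v v' A B : ℤ} (c0 : x + A + B = 0) (c1 : u + u' + A + B = 1)
    (c2 : v + v' + A + B = 1)
    (hM : x * x + u * u + u' * u' + v * v + v' * v' + A * A + B * B ≤ 2) :
    (x = -1 ∧ u = 0 ∧ u' = 0 ∧ v = 0 ∧ v' = 0 ∧ ((A = 1 ∧ B = 0) ∨ (A = 0 ∧ B = 1))) ∨
      (x = 0 ∧ A = 0 ∧ B = 0 ∧ ((u = 1 ∧ u' = 0) ∨ (u = 0 ∧ u' = 1)) ∧
        ((v = 1 ∧ v' = 0) ∨ (v = 0 ∧ v' = 1))) := by
  rcases bound_one (a := x) (by nlinarith) with rfl | rfl | rfl <;>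
    rcases bound_one (a := A) (by nlinarith) with rfl | rfl | rfl <;>
    rcases bound_one (a := u) (by nlinarith) with rfl | rfl | rfl <;>
    rcases bound_one (a := v) (by nlinarith) with rfl | rfl | rfl <;>
    first
      | omega
      | (exfalso; nlinarith)

/-- The rows of `ψ'` in the shape with seven rows. -/
theorem options7 {s s' A p p' r : ℤ} (c0 : A + p + p' = 0) (c1 : s + A + p + r = 1)
    (c2 : s' + A + p' + r = 1)
    (hM : s * s + s' * s' + A * A + p * p + p' * p' + r * r ≤ 2) :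
    (s = 1 ∧ s' = 1 ∧ A = 0 ∧ p = 0 ∧ p' = 0 ∧ r = 0) ∨
      (s = 0 ∧ s' = 0 ∧ A = 0 ∧ p = 0 ∧ p' = 0 ∧ r = 1) := by
  rcases bound_one (a := A) (by nlinarith) with rfl | rfl | rfl <;>
    rcases bound_one (a := p) (by nlinarith) with rfl | rfl | rfl <;>
    rcases bound_one (a := r) (by nlinarith) with rfl | rfl | rfl <;>
    first
      | omega
      | (exfalso; nlinarith)

section Unit

variable {ι : Type*} {O : Finset ι}

/-- A vector of norm one. -/
theorem exists_unit [DecidableEq ι] {f : ι → ℤ} (h : ∑ χ ∈ O, f χ * f χ = 1) :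
    ∃ p ∈ O, (f p = 1 ∨ f p = -1) ∧ ∀ χ ∈ O, χ ≠ p → f χ = 0 := by
  obtain ⟨p, hp, hp0⟩ : ∃ p ∈ O, f p ≠ 0 := by
    by_contra hc
    push Not at hc
    rw [Finset.sum_eq_zero fun χ hχ => by rw [hc χ hχ, zero_mul]] at h
    exact zero_ne_one h
  rw [← Finset.add_sum_erase _ _ hp] at h
  have h0 : 0 ≤ ∑ χ ∈ O.erase p, f χ * f χ := Finset.sum_nonneg fun χ _ => mul_self_nonneg _
  have hb := bound_one (a := f p) (by linarith)
  have hz : ∑ χ ∈ O.erase p, f χ * f χ = 0 := by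
    rcases hb with e | e | e <;> rw [e] at h hp0 <;> omega
  refine ⟨p, hp, by omega, fun χ hχ hne => mul_self_eq_zero.1
    ((Finset.sum_eq_zero_iff_of_nonneg fun χ _ => mul_self_nonneg _).1 hz χ
      (Finset.mem_erase.2 ⟨hne, hχ⟩))⟩

/-- Two vectors of norm one have product at most one. -/
theorem inner_le_one {f g : ι → ℤ} (hf : ∑ χ ∈ O, f χ * f χ = 1) (hg : ∑ χ ∈ O, g χ * g χ = 1) :
    ∑ χ ∈ O, f χ * g χ ≤ 1 := by
  have h : 0 ≤ ∑ χ ∈ O, (f χ - g χ) * (f χ - g χ) := Finset.sum_nonneg fun χ _ => mul_self_nonneg _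
  simp only [mul_sub, sub_mul, Finset.sum_sub_distrib, mul_comm (g _) (f _)] at h
  omega

/-- A vector of norm two. -/
theorem exists_pair [DecidableEq ι] {f : ι → ℤ} (h : ∑ χ ∈ O, f χ * f χ = 2) :
    ∃ p ∈ O, ∃ q ∈ O, p ≠ q ∧ (f p = 1 ∨ f p = -1) ∧ (f q = 1 ∨ f q = -1) ∧
      ∀ χ ∈ O, χ ≠ p → χ ≠ q → f χ = 0 := by
  obtain ⟨p, hp, hp0⟩ : ∃ p ∈ O, f p ≠ 0 := by
    by_contra hc
    push Not at hc
    rw [Finset.sum_eq_zero fun χ hχ => by rw [hc χ hχ, zero_mul]] at h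
    exact two_ne_zero h.symm
  rw [← Finset.add_sum_erase _ _ hp] at h
  have h0 : 0 ≤ ∑ χ ∈ O.erase p, f χ * f χ := Finset.sum_nonneg fun χ _ => mul_self_nonneg _
  have hb := bound_one (a := f p) (by linarith)
  have hz : ∑ χ ∈ O.erase p, f χ * f χ = 1 := by
    rcases hb with e | e | e <;> rw [e] at h hp0 <;> omega
  obtain ⟨q, hq, hq1, hq0⟩ := exists_unit hz
  exact ⟨p, hp, q, (Finset.mem_erase.1 hq).2, (Finset.mem_erase.1 hq).1.symm, by omega, hq1,
    fun χ hχ h1 h2 => hq0 χ (Finset.mem_erase.2 ⟨h1, hχ⟩) h2⟩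

theorem sum_pair_vec [DecidableEq ι] {f : ι → ℤ} {R : Type*} [CommRing R] (g : ι → R) {p q : ι}
    (hp : p ∈ O) (hq : q ∈ O) (hpq : p ≠ q) (h : ∀ χ ∈ O, χ ≠ p → χ ≠ q → f χ = 0) :
    ∑ χ ∈ O, (f χ : R) * g χ = (f p : R) * g p + (f q : R) * g q := by
  rw [← Finset.sum_subset (s₁ := {p, q}) (Finset.insert_subset hp (by simpa using hq))
    fun χ hχ hn => ?_, Finset.sum_pair hpq]
  simp only [Finset.mem_insert, Finset.mem_singleton, not_or] at hn
  rw [h χ hχ hn.1 hn.2, Int.cast_zero, zero_mul]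

/-- Vectors of norm two with mutual products one, and a vector with product one with each of them,
form a star. -/
theorem exists_star [DecidableEq ι] {n : ℕ} (hn : 3 ≤ n) (b : Fin n → ι → ℤ)
    (hbb : ∀ i, ∑ χ ∈ O, b i χ * b i χ = 2)
    (hbc : ∀ i j, i ≠ j → ∑ χ ∈ O, b i χ * b j χ = 1) (a : ι → ℤ)
    (hab : ∀ i, ∑ χ ∈ O, a χ * b i χ = 1) :
    ∃ F ∈ O, ∃ f : ℤ, (f = 1 ∨ f = -1) ∧ ∃ L : Fin n → ι, Function.Injective L ∧
      ∀ i, L i ∈ O ∧ L i ≠ F ∧ b i F = f ∧ (b i (L i) = 1 ∨ b i (L i) = -1) ∧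
        ∀ χ ∈ O, χ ≠ F → χ ≠ L i → b i χ = 0 := by
  choose p hp q hq hpq hpv hqv hz using fun i => exists_pair (hbb i)
  have key : ∀ (i : Fin n) (g : ι → ℤ),
      ∑ χ ∈ O, b i χ * g χ = b i (p i) * g (p i) + b i (q i) * g (q i) := fun i g => by
    simpa using sum_pair_vec (f := b i) g (hp i) (hq i) (hpq i) (hz i)
  have hne : ∀ i j, i ≠ j → b i (p i) * b j (p i) + b i (q i) * b j (q i) = 1 := fun i j h => by
    rw [← key]; exact hbc i j h
  have hval : ∀ i χ, χ ∈ O → b i χ = 0 ∨ b i χ = 1 ∨ b i χ = -1 := fun i χ hχ => by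
    by_cases h1 : χ = p i
    · rw [h1]; have := hpv i; tauto
    by_cases h2 : χ = q i
    · rw [h2]; have := hqv i; tauto
    exact Or.inl (hz i χ hχ h1 h2)
  -- common element of two vectors
  have common : ∀ i j, i ≠ j →
      (b j (p i) = b i (p i) ∧ b j (q i) = 0) ∨ (b j (q i) = b i (q i) ∧ b j (p i) = 0) := by
    intro i j h
    have e := hne i j h
    rcases hpv i with e1 | e1 <;> rcases hqv i with e2 | e2 <;> rw [e1, e2] at e ⊢ <;>
      rcases hval j _ (hp i) with e3 | e3 | e3 <;> rcases hval j _ (hq i) with e4 | e4 | e4 <;>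
      rw [e3, e4] at e <;> simp_all
  set z : Fin n := ⟨0, by omega⟩
  set o : Fin n := ⟨1, by omega⟩
  have hzo : z ≠ o := by simp [z, o, Fin.ext_iff]
  obtain ⟨F, hF, L0, hL0, hFL, hoF, hoL, hzF, hzL, hzz⟩ : ∃ F ∈ O, ∃ L0 ∈ O, F ≠ L0 ∧
      b o F = b z F ∧ b o L0 = 0 ∧ (b z F = 1 ∨ b z F = -1) ∧ (b z L0 = 1 ∨ b z L0 = -1) ∧
      ∀ χ ∈ O, χ ≠ F → χ ≠ L0 → b z χ = 0 := by
    rcases common z o hzo with ⟨e1, e2⟩ | ⟨e1, e2⟩
    · exact ⟨p z, hp z, q z, hq z, hpq z, e1, e2, hpv z, hqv z, hz z⟩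
    · exact ⟨q z, hq z, p z, hp z, (hpq z).symm, e1, e2, hqv z, hpv z,
        fun χ hχ h1 h2 => hz z χ hχ h2 h1⟩
  have prodz : ∀ g : ι → ℤ, ∑ χ ∈ O, b z χ * g χ = b z F * g F + b z L0 * g L0 := fun g => by
    simpa using sum_pair_vec (f := b z) g hF hL0 hFL hzz
  obtain ⟨L1, hL1, hFL1, hoL1, hoz⟩ : ∃ L1 ∈ O, L1 ≠ F ∧ (b o L1 = 1 ∨ b o L1 = -1) ∧
      ∀ χ ∈ O, χ ≠ F → χ ≠ L1 → b o χ = 0 := by
    by_cases h1 : F = p o
    · exact ⟨q o, hq o, h1 ▸ (hpq o).symm, hqv o, fun χ hχ a b' => hz o χ hχ (h1 ▸ a) b'⟩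
    by_cases h2 : F = q o
    · exact ⟨p o, hp o, h2 ▸ (hpq o), hpv o, fun χ hχ a b' => hz o χ hχ b' (h2 ▸ a)⟩
    have := hz o F hF h1 h2
    omega
  have prodo : ∀ g : ι → ℤ, ∑ χ ∈ O, b o χ * g χ = b o F * g F + b o L1 * g L1 := fun g => by
    simpa using sum_pair_vec (f := b o) g hF hL1 hFL1.symm hoz
  -- the centre lies in all vectors
  have hcentre : ∀ i, b i F = b z F := by
    intro i
    by_cases hiz : i = z
    · rw [hiz]
    by_cases hio : i = o
    · rw [hio, hoF]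
    have e1 := hbc z i (Ne.symm hiz)
    rw [prodz] at e1
    have e2 := hbc o i (Ne.symm hio)
    rw [prodo, hoF] at e2
    rcases hval i F hF with e | e
    · exfalso
      rw [e, mul_zero, zero_add] at e1 e2
      have hne : L0 ≠ L1 := fun h => by subst h; omega
      have v0 : b i L0 = b z L0 := by rcases hzL with h | h <;> rw [h] at e1 ⊢ <;> linarith
      have v1 : b i L1 = b o L1 := by rcases hoL1 with h | h <;> rw [h] at e2 ⊢ <;> linarith
      have hiF : ∀ χ ∈ O, χ ≠ L0 → χ ≠ L1 → b i χ = 0 := by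
        intro χ hχ h0 h1
        by_contra hc
        have hsub : ({χ, L0, L1} : Finset ι) ⊆ O := by
          simp [Finset.insert_subset_iff, hχ, hL0, hL1]
        have hle := Finset.sum_le_sum_of_subset_of_nonneg hsub
          (f := fun x => b i x * b i x) fun x _ _ => mul_self_nonneg _
        rw [hbb, Finset.sum_insert (by simp [h0, h1]), Finset.sum_pair hne] at hle
        have a1 : b i L0 * b i L0 = 1 := by
          rcases hzL with h | h <;> rw [v0, h] <;> norm_num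
        have a2 : b i L1 * b i L1 = 1 := by
          rcases hoL1 with h | h <;> rw [v1, h] <;> norm_num
        have := mul_self_pos.2 hc
        omega
      have az := hab z
      have ao := hab o
      have ai := hab i
      rw [Finset.sum_congr rfl fun χ _ => mul_comm (a χ) _] at az ao ai
      rw [prodz] at az
      rw [prodo, hoF] at ao
      have hsum := sum_pair_vec (f := b i) a hL0 hL1 hne hiF
      simp only [Int.cast_id] at hsum
      rw [hsum] at ai
      rw [v0, v1] at ai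
      rcases hzL with h | h <;> rcases hoL1 with h' | h' <;> rw [h] at az ai <;>
        rw [h'] at ao ai <;> rcases hzF with hf | hf <;> rw [hf] at az ao <;> omega
    · rcases hzF with h | h <;> rw [h] at e1 ⊢ <;> rcases e with e | e <;> rw [e] at e1 ⊢ <;>
        rcases hzL with h' | h' <;> rw [h'] at e1 <;>
        rcases hval i L0 hL0 with h'' | h'' | h'' <;> rw [h''] at e1 <;> omega
  have hleaf : ∀ i, ∃ l ∈ O, l ≠ F ∧ (b i l = 1 ∨ b i l = -1) ∧
      ∀ χ ∈ O, χ ≠ F → χ ≠ l → b i χ = 0 := by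
    intro i
    have := hcentre i
    by_cases h1 : F = p i
    · exact ⟨q i, hq i, h1 ▸ (hpq i).symm, hqv i, fun χ hχ a b' => hz i χ hχ (h1 ▸ a) b'⟩
    by_cases h2 : F = q i
    · exact ⟨p i, hp i, h2 ▸ (hpq i), hpv i, fun χ hχ a b' => hz i χ hχ b' (h2 ▸ a)⟩
    have := hz i F hF h1 h2
    omega
  choose L hL hLF hLv hLz using hleaf
  refine ⟨F, hF, b z F, hzF, L, fun i j hij => ?_,
    fun i => ⟨hL i, hLF i, hcentre i, hLv i, hLz i⟩⟩
  by_contra hne'
  have e := hbc i j hne'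
  have hs := sum_pair_vec (f := b i) (b j) hF (hL i) (hLF i).symm (hLz i)
  simp only [Int.cast_id] at hs
  rw [hs, hcentre i, hcentre j, hij] at e
  have v1 := hLv i
  rw [hij] at v1
  have v2 := hLv j
  rcases hzF with h | h <;> rw [h] at e <;> rcases v1 with h1 | h1 <;> rw [h1] at e <;>
    rcases v2 with h2 | h2 <;> rw [h2] at e <;> omega

end Unit

end Cfsg.Lib.Walter8
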