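import Cfsg.Agent.Lib.Walter8.Block
import Cfsg.Agent.Lib.Walter8.Count

/-!
# The two shapes of the three columns

The columns have four entries `±1`, agree on the two common rows of each pair, and the first one
alone meets the trivial character.  Hence there are eight rows (a row of `1`, a second row of the
first column, two rows of each other column and two common rows) or seven (one common row and one
for each pair).
-/

set_option autoImplicit false
set_option linter.unusedSectionVars false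
set_option linter.style.haveILetI false

namespace Cfsg.Lib.Walter8

open Subgroup Cfsg Cfsg.Lib.Char
open scoped ComplexConjugate

universe u

/-- The rows `1, x, u, u', v, v', A, B`. -/
def pat8 : Fin 3 → Fin 8 → ℤ :=
  ![![1, 1, 0, 0, 0, 0, 1, 1], ![0, 0, 1, 1, 0, 0, 1, 1], ![0, 0, 0, 0, 1, 1, 1, 1]]

/-- The rows `1, s₁, s₂, A, p₀₁, p₀₂, p₁₂`. -/
def pat7 : Fin 3 → Fin 7 → ℤ :=
  ![![1, 0, 0, 1, 1, 1, 0], ![0, 1, 0, 1, 1, 0, 1], ![0, 0, 1, 1, 0, 1, 1]]

section Comb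

variable {ι : Type*} [Fintype ι] [DecidableEq ι]

theorem entry_le_one {d deg : ι → ℤ} (hsq : ∑ i, d i * d i = 4)
    (hdeg : ∑ i, d i * deg i = 0) (hpos : ∀ i, 0 < deg i) (i : ι) :
    d i = 0 ∨ d i = 1 ∨ d i = -1 := by
  rw [← Finset.add_sum_erase _ _ (Finset.mem_univ i)] at hsq hdeg
  have h0 : 0 ≤ ∑ j ∈ Finset.univ.erase i, d j * d j :=
    Finset.sum_nonneg fun j _ => mul_self_nonneg _
  have h2 : d i ≤ 2 := by nlinarith
  have h2' : -2 ≤ d i := by nlinarith
  by_contra hc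
  have he : d i * d i = 4 := by
    have : d i = 2 ∨ d i = -2 := by omega
    rcases this with e | e <;> rw [e] <;> norm_num
  have hz : ∀ j ∈ Finset.univ.erase i, d j * d j = 0 :=
    (Finset.sum_eq_zero_iff_of_nonneg fun j _ => mul_self_nonneg _).1 (by omega)
  rw [Finset.sum_eq_zero (s := Finset.univ.erase i) (f := fun j => d j * deg j) fun j hj => by
    rw [mul_self_eq_zero.1 (hz j hj), zero_mul], add_zero, mul_eq_zero] at hdeg
  have := hpos i
  omega

theorem overlap {a b deg : ι → ℤ} (ha : ∀ i, a i = 0 ∨ a i = 1 ∨ a i = -1)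
    (hb : ∀ i, b i = 0 ∨ b i = 1 ∨ b i = -1) (haa : ∑ i, a i * a i = 4)
    (hbb : ∑ i, b i * b i = 4) (hab : ∑ i, a i * b i = 2) (hda : ∑ i, a i * deg i = 0)
    (hdb : ∑ i, b i * deg i = 0) (hpos : ∀ i, 0 < deg i) :
    (∀ i, a i ≠ 0 → b i ≠ 0 → a i = b i) ∧
      (Finset.univ.filter fun i => a i ≠ 0 ∧ b i ≠ 0).card = 2 := by
  have hdiff : ∑ i, (a i - b i) * (a i - b i) = 4 := by
    simp only [mul_sub, sub_mul, Finset.sum_sub_distrib, mul_comm (b _) (a _)]
    omega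
  have hd0 : ∑ i, (a i - b i) * deg i = 0 := by
    simp only [sub_mul, Finset.sum_sub_distrib]; omega
  have key : ∀ i, a i ≠ 0 → b i ≠ 0 → a i = b i := by
    intro i hai hbi
    have := entry_le_one hdiff hd0 hpos i
    have := ha i
    have := hb i
    omega
  refine ⟨key, ?_⟩
  have h : ∀ i, a i * b i = if a i ≠ 0 ∧ b i ≠ 0 then 1 else 0 := by
    intro i
    by_cases hi : a i ≠ 0 ∧ b i ≠ 0
    · rw [if_pos hi, key i hi.1 hi.2]
      rcases hb i with e | e | e
      · exact absurd e hi.2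
      · rw [e]; norm_num
      · rw [e]; norm_num
    · rw [if_neg hi, mul_eq_zero]
      tauto
  rw [Finset.sum_congr rfl fun i _ => h i, Finset.sum_boole] at hab
  exact_mod_cast hab

theorem card_support {a : ι → ℤ} (ha : ∀ i, a i = 0 ∨ a i = 1 ∨ a i = -1)
    (haa : ∑ i, a i * a i = 4) : (Finset.univ.filter fun i => a i ≠ 0).card = 4 := by
  have h : ∀ i, a i * a i = if a i ≠ 0 then 1 else 0 := by
    intro i
    rcases ha i with e | e | e <;> rw [e] <;> norm_num
  rw [Finset.sum_congr rfl fun i _ => h i, Finset.sum_boole] at haa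
  exact_mod_cast haa

/-- The shapes of three such sets. -/
theorem sets_shape (A : Fin 3 → Finset ι) (h4 : ∀ j, (A j).card = 4)
    (h2 : ∀ i j, i ≠ j → (A i ∩ A j).card = 2) {o : ι} (ho : o ∈ A 0) (ho1 : o ∉ A 1)
    (ho2 : o ∉ A 2) :
    (∃ e : Fin 8 → ι, Function.Injective e ∧ e 0 = o ∧
        (∀ j k, (if e k ∈ A j then (1 : ℤ) else 0) = pat8 j k) ∧
        ∀ j, A j ⊆ Finset.univ.image e) ∨
    (∃ e : Fin 7 → ι, Function.Injective e ∧ e 0 = o ∧
        (∀ j k, (if e k ∈ A j then (1 : ℤ) else 0) = pat7 j k) ∧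
        ∀ j, A j ⊆ Finset.univ.image e) := by
  set T := A 0 ∩ A 1 ∩ A 2 with hT
  have hT01 : T ⊆ A 0 ∩ A 1 := Finset.inter_subset_left
  have hT02 : T ⊆ A 0 ∩ A 2 := fun i hi => by
    simp only [hT, Finset.mem_inter] at hi ⊢; exact ⟨hi.1.1, hi.2⟩
  have hT12 : T ⊆ A 1 ∩ A 2 := fun i hi => by
    simp only [hT, Finset.mem_inter] at hi ⊢; exact ⟨hi.1.2, hi.2⟩
  have c01 := h2 0 1 (by decide)
  have c02 := h2 0 2 (by decide)
  have c12 := h2 1 2 (by decide)
  have hle : T.card ≤ 2 := c01 ▸ Finset.card_le_card hT01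
  have hU : (A 0 ∩ A 1 ∪ A 0 ∩ A 2).card + T.card = 4 := by
    have h := Finset.card_union_add_card_inter (A 0 ∩ A 1) (A 0 ∩ A 2)
    rw [show (A 0 ∩ A 1) ∩ (A 0 ∩ A 2) = T by rw [hT]; ext i; simp; tauto, c01, c02] at h
    exact h
  have hU3 : (A 0 ∩ A 1 ∪ A 0 ∩ A 2).card ≤ 3 := by
    have : (A 0 ∩ A 1 ∪ A 0 ∩ A 2) ⊆ (A 0).erase o := by
      intro i hi
      simp only [Finset.mem_union, Finset.mem_inter, Finset.mem_erase] at hi ⊢
      exact ⟨fun e => by subst e; tauto, by tauto⟩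
    have h := Finset.card_le_card this
    rw [Finset.card_erase_of_mem ho, h4] at h
    exact h
  rcases (by omega : T.card = 2 ∨ T.card = 1) with hk | hk
  · left
    have e01 : A 0 ∩ A 1 = T := (Finset.eq_of_subset_of_card_le hT01 (by omega)).symm
    have e02 : A 0 ∩ A 2 = T := (Finset.eq_of_subset_of_card_le hT02 (by omega)).symm
    have e12 : A 1 ∩ A 2 = T := (Finset.eq_of_subset_of_card_le hT12 (by omega)).symm
    obtain ⟨a, b, hab, hTab⟩ := Finset.card_eq_two.1 hk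
    have hsd : ∀ j, T ⊆ A j → (A j \ T).card = 2 := fun j hj => by
      rw [Finset.card_sdiff_of_subset hj, h4, hk]
    obtain ⟨u, u', huu, h1⟩ := Finset.card_eq_two.1 (hsd 1 (e01 ▸ Finset.inter_subset_right))
    obtain ⟨v, v', hvv, h2'⟩ := Finset.card_eq_two.1 (hsd 2 (e02 ▸ Finset.inter_subset_right))
    have h0c := hsd 0 (e01 ▸ Finset.inter_subset_left)
    have hoT : o ∉ T := fun h => ho1 (Finset.mem_inter.1 (hT01 h)).2
    obtain ⟨x, hx⟩ := Finset.card_eq_one.1 (show ((A 0 \ T).erase o).card = 1 by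
      rw [Finset.card_erase_of_mem (Finset.mem_sdiff.2 ⟨ho, hoT⟩), h0c])
    have m01 : ∀ i, (i ∈ A 0 ∧ i ∈ A 1) ↔ i ∈ T := fun i => by rw [← e01, Finset.mem_inter]
    have m02 : ∀ i, (i ∈ A 0 ∧ i ∈ A 2) ↔ i ∈ T := fun i => by rw [← e02, Finset.mem_inter]
    have m12 : ∀ i, (i ∈ A 1 ∧ i ∈ A 2) ↔ i ∈ T := fun i => by rw [← e12, Finset.mem_inter]
    have mT : ∀ i, i ∈ T ↔ i = a ∨ i = b := fun i => by rw [hTab]; simp
    have mx : ∀ i, (i ∈ A 0 ∧ i ∉ T ∧ i ≠ o) ↔ i = x := fun i => by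
      have := Finset.ext_iff.1 hx i
      simp only [Finset.mem_erase, Finset.mem_sdiff, Finset.mem_singleton] at this
      tauto
    have mu : ∀ i, (i ∈ A 1 ∧ i ∉ T) ↔ (i = u ∨ i = u') := fun i => by
      have := Finset.ext_iff.1 h1 i
      simpa only [Finset.mem_sdiff, Finset.mem_insert, Finset.mem_singleton] using this
    have mv : ∀ i, (i ∈ A 2 ∧ i ∉ T) ↔ (i = v ∨ i = v') := fun i => by
      have := Finset.ext_iff.1 h2' i
      simpa only [Finset.mem_sdiff, Finset.mem_insert, Finset.mem_singleton] using this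
    have hp : ∀ j k, (if ![o, x, u, u', v, v', a, b] k ∈ A j then (1 : ℤ) else 0) = pat8 j k := by
      intro j k
      have fT : ∀ i, (i = a ∨ i = b) → i ∈ A 0 ∧ i ∈ A 1 ∧ i ∈ A 2 := fun i hi => by
        have h := (mT i).2 hi
        exact ⟨((m01 i).2 h).1, ((m01 i).2 h).2, ((m02 i).2 h).2⟩
      have f0 : ∀ i, i ∈ A 0 → i ∉ T → i ∉ A 1 ∧ i ∉ A 2 := fun i h h' =>
        ⟨fun h1 => h' ((m01 i).1 ⟨h, h1⟩), fun h2 => h' ((m02 i).1 ⟨h, h2⟩)⟩
      have f1 : ∀ i, i ∈ A 1 → i ∉ T → i ∉ A 0 ∧ i ∉ A 2 := fun i h h' =>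
        ⟨fun h1 => h' ((m01 i).1 ⟨h1, h⟩), fun h2 => h' ((m12 i).1 ⟨h, h2⟩)⟩
      have f2 : ∀ i, i ∈ A 2 → i ∉ T → i ∉ A 0 ∧ i ∉ A 1 := fun i h h' =>
        ⟨fun h1 => h' ((m02 i).1 ⟨h1, h⟩), fun h2 => h' ((m12 i).1 ⟨h2, h⟩)⟩
      have gx := (mx x).2 rfl
      have gx' := f0 x gx.1 gx.2.1
      have gu := (mu u).2 (Or.inl rfl)
      have gu' := f1 u gu.1 gu.2
      have gw := (mu u').2 (Or.inr rfl)
      have gw' := f1 u' gw.1 gw.2
      have gv := (mv v).2 (Or.inl rfl)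
      have gv' := f2 v gv.1 gv.2
      have gz := (mv v').2 (Or.inr rfl)
      have gz' := f2 v' gz.1 gz.2
      have ga := fT a (Or.inl rfl)
      have gb := fT b (Or.inr rfl)
      fin_cases j <;> fin_cases k <;>
        simp [pat8, ho, ho1, ho2, gx.1, gx'.1, gx'.2, gu.1, gu'.1, gu'.2, gw.1, gw'.1, gw'.2,
          gv.1, gv'.1, gv'.2, gz.1, gz'.1, gz'.2, ga.1, ga.2.1, ga.2.2, gb.1, gb.2.1, gb.2.2]
    refine ⟨![o, x, u, u', v, v', a, b], ?_, rfl, hp, ?_⟩
    · have hxo : o ≠ x := fun e => ((mx x).2 rfl).2.2 e.symm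
      intro k m hkm
      have hh : ∀ j, pat8 j k = pat8 j m := fun j => by rw [← hp, ← hp, hkm]
      have h0 := hh 0
      have h1' := hh 1
      have h2'' := hh 2
      fin_cases k <;> fin_cases m <;> simp [pat8] at h0 h1' h2'' ⊢ <;>
        simp [hxo, hxo.symm, huu, huu.symm, hvv, hvv.symm, hab, hab.symm] at hkm
    · intro j i hi
      simp only [Finset.mem_image, Finset.mem_univ, true_and]
      by_cases hiT : i ∈ T
      · rcases (mT i).1 hiT with rfl | rfl
        · exact ⟨6, rfl⟩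
        · exact ⟨7, rfl⟩
      · fin_cases j
        · by_cases hio : i = o
          · exact ⟨0, hio.symm⟩
          · exact ⟨1, ((mx i).1 ⟨hi, hiT, hio⟩).symm⟩
        · rcases (mu i).1 ⟨hi, hiT⟩ with rfl | rfl
          · exact ⟨2, rfl⟩
          · exact ⟨3, rfl⟩
        · rcases (mv i).1 ⟨hi, hiT⟩ with rfl | rfl
          · exact ⟨4, rfl⟩
          · exact ⟨5, rfl⟩
  · right
    obtain ⟨a, hTa⟩ := Finset.card_eq_one.1 hk
    obtain ⟨p, hp01⟩ := Finset.card_eq_one.1 (show ((A 0 ∩ A 1) \ T).card = 1 by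
      rw [Finset.card_sdiff_of_subset hT01, c01, hk])
    obtain ⟨q, hp02⟩ := Finset.card_eq_one.1 (show ((A 0 ∩ A 2) \ T).card = 1 by
      rw [Finset.card_sdiff_of_subset hT02, c02, hk])
    obtain ⟨r, hp12⟩ := Finset.card_eq_one.1 (show ((A 1 ∩ A 2) \ T).card = 1 by
      rw [Finset.card_sdiff_of_subset hT12, c12, hk])
    have hsolo : ∀ i j l : Fin 3, i ≠ j → i ≠ l → j ≠ l →
        (A i ∩ A j) ∩ (A i ∩ A l) = T → (A i \ (A j ∪ A l)).card = 1 := by
      intro i j l hij hil hjl he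
      have h := Finset.card_union_add_card_inter (A i ∩ A j) (A i ∩ A l)
      rw [he, hk, h2 i j hij, h2 i l hil] at h
      rw [Finset.card_sdiff, Finset.inter_comm, Finset.inter_union_distrib_left, h4]
      omega
    obtain ⟨s1, hs1⟩ := Finset.card_eq_one.1 (hsolo 1 0 2 (by decide) (by decide) (by decide)
      (by rw [hT]; ext i; simp; tauto))
    obtain ⟨s2, hs2⟩ := Finset.card_eq_one.1 (hsolo 2 0 1 (by decide) (by decide) (by decide)
      (by rw [hT]; ext i; simp; tauto))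
    obtain ⟨o', hs0⟩ := Finset.card_eq_one.1 (hsolo 0 1 2 (by decide) (by decide) (by decide)
      (by rw [hT]; ext i; simp; tauto))
    have mo : ∀ i, (i ∈ A 0 ∧ i ∉ A 1 ∧ i ∉ A 2) ↔ i = o := by
      have hoo : o = o' := by
        have := (Finset.ext_iff.1 hs0 o).1 (by simp [ho, ho1, ho2])
        simpa using this
      intro i
      have := Finset.ext_iff.1 hs0 i
      simp only [Finset.mem_sdiff, Finset.mem_union, Finset.mem_singleton, ← hoo] at this
      tauto
    have ms1 : ∀ i, (i ∈ A 1 ∧ i ∉ A 0 ∧ i ∉ A 2) ↔ i = s1 := fun i => by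
      have := Finset.ext_iff.1 hs1 i
      simp only [Finset.mem_sdiff, Finset.mem_union, Finset.mem_singleton] at this
      tauto
    have ms2 : ∀ i, (i ∈ A 2 ∧ i ∉ A 0 ∧ i ∉ A 1) ↔ i = s2 := fun i => by
      have := Finset.ext_iff.1 hs2 i
      simp only [Finset.mem_sdiff, Finset.mem_union, Finset.mem_singleton] at this
      tauto
    have ma : ∀ i, (i ∈ A 0 ∧ i ∈ A 1 ∧ i ∈ A 2) ↔ i = a := fun i => by
      have := Finset.ext_iff.1 hTa i
      simp only [hT, Finset.mem_inter, Finset.mem_singleton] at this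
      tauto
    have mp : ∀ i, (i ∈ A 0 ∧ i ∈ A 1 ∧ i ∉ A 2) ↔ i = p := fun i => by
      have := Finset.ext_iff.1 hp01 i
      simp only [hT, Finset.mem_sdiff, Finset.mem_inter, Finset.mem_singleton] at this
      tauto
    have mq : ∀ i, (i ∈ A 0 ∧ i ∉ A 1 ∧ i ∈ A 2) ↔ i = q := fun i => by
      have := Finset.ext_iff.1 hp02 i
      simp only [hT, Finset.mem_sdiff, Finset.mem_inter, Finset.mem_singleton] at this
      tauto
    have mr : ∀ i, (i ∉ A 0 ∧ i ∈ A 1 ∧ i ∈ A 2) ↔ i = r := fun i => by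
      have := Finset.ext_iff.1 hp12 i
      simp only [hT, Finset.mem_sdiff, Finset.mem_inter, Finset.mem_singleton] at this
      tauto
    have hp : ∀ j k, (if ![o, s1, s2, a, p, q, r] k ∈ A j then (1 : ℤ) else 0) = pat7 j k := by
      intro j k
      have g1 := (ms1 s1).2 rfl
      have g2 := (ms2 s2).2 rfl
      have ga := (ma a).2 rfl
      have gp := (mp p).2 rfl
      have gq := (mq q).2 rfl
      have gr := (mr r).2 rfl
      fin_cases j <;> fin_cases k <;>
        simp [pat7, ho, ho1, ho2, g1.1, g1.2.1, g1.2.2, g2.1, g2.2.1, g2.2.2, ga.1, ga.2.1,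
          ga.2.2, gp.1, gp.2.1, gp.2.2, gq.1, gq.2.1, gq.2.2, gr.1, gr.2.1, gr.2.2]
    refine ⟨![o, s1, s2, a, p, q, r], ?_, rfl, hp, ?_⟩
    · intro k m hkm
      have hh : ∀ j, pat7 j k = pat7 j m := fun j => by rw [← hp, ← hp, hkm]
      have h0 := hh 0
      have h1' := hh 1
      have h2'' := hh 2
      fin_cases k <;> fin_cases m <;> simp [pat7] at h0 h1' h2'' ⊢
    · intro j i hi
      simp only [Finset.mem_image, Finset.mem_univ, true_and]
      have hin : i ∈ A 0 ∨ i ∈ A 1 ∨ i ∈ A 2 := by fin_cases j <;> tauto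
      by_cases x0 : i ∈ A 0 <;> by_cases x1 : i ∈ A 1 <;> by_cases x2 : i ∈ A 2
      · exact ⟨3, ((ma i).1 ⟨x0, x1, x2⟩).symm⟩
      · exact ⟨4, ((mp i).1 ⟨x0, x1, x2⟩).symm⟩
      · exact ⟨5, ((mq i).1 ⟨x0, x1, x2⟩).symm⟩
      · exact ⟨0, ((mo i).1 ⟨x0, x1, x2⟩).symm⟩
      · exact ⟨6, ((mr i).1 ⟨x0, x1, x2⟩).symm⟩
      · exact ⟨1, ((ms1 i).1 ⟨x1, x0, x2⟩).symm⟩
      · exact ⟨2, ((ms2 i).1 ⟨x2, x0, x1⟩).symm⟩
      · exact absurd hin (by tauto)

end Comb

namespace Setup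

variable {G L : Type u} [Group G] [Group L] [Fintype G] (S : Setup G L)

/-- The rows of the three columns with their signs. -/
structure Table {n : ℕ} [NeZero n] (pat : Fin 3 → Fin n → ℤ) where
  e : Fin n → IrrCharacter G
  ε : Fin n → ℤ
  e_inj : Function.Injective e
  e_zero : (e 0 : G → ℂ) = fun _ => 1
  ε_zero : ε 0 = 1
  sign : ∀ k, ε k = 1 ∨ ε k = -1
  d_eq : ∀ j k, S.d j (e k) = ε k * pat j k
  d_ne : ∀ k, ∃ j, pat j k ≠ 0
  d_zero : ∀ j χ, (∀ k, e k ≠ χ) → S.d j χ = 0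

variable {S}
variable {n : ℕ} [NeZero n] {pat : Fin 3 → Fin n → ℤ} (T : Table S pat)

/-- Relabelling the rows by a permutation respecting the columns. -/
def Table.perm (π : Equiv.Perm (Fin n)) (h0 : π 0 = 0) (hp : ∀ j k, pat j (π k) = pat j k) :
    Table S pat where
  e k := T.e (π k)
  ε k := T.ε (π k)
  e_inj := T.e_inj.comp π.injective
  e_zero := by rw [h0]; exact T.e_zero
  ε_zero := by rw [h0]; exact T.ε_zero
  sign k := T.sign (π k)
  d_eq j k := by rw [T.d_eq, hp]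
  d_ne := T.d_ne
  d_zero j χ h := T.d_zero j χ fun k => by simpa using h (π.symm k)

/-- Sums against a column. -/
theorem Table.sum_d {R : Type*} [CommRing R] (j : Fin 3) (F : IrrCharacter G → R) :
    ∑ χ : IrrCharacter G, (S.d j χ : R) * F χ =
      ∑ k, (pat j k : R) * ((T.ε k : R) * F (T.e k)) := by
  classical
  rw [← Finset.sum_subset (Finset.subset_univ (Finset.univ.image T.e)) fun χ _ hχ => by
    rw [T.d_zero j χ fun k hk => hχ (Finset.mem_image.2 ⟨k, Finset.mem_univ _, hk⟩), Int.cast_zero,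
      zero_mul], Finset.sum_image fun a _ b _ h => T.e_inj h]
  exact Finset.sum_congr rfl fun k _ => by rw [T.d_eq]; push_cast; ring

/-- The signed degrees. -/
noncomputable def Table.X (k : Fin n) : ℤ := T.ε k * charDegree (T.e k : G → ℂ)

/-- The signed values at `t`. -/
def tval (S : Setup G L) {n : ℕ} (pat : Fin 3 → Fin n → ℤ) (k : Fin n) : ℤ :=
  pat 0 k + S.D.h * (pat 1 k + pat 2 k)

/-- The signed values on the section of the torus. -/
def bval {n : ℕ} (pat : Fin 3 → Fin n → ℤ) (k : Fin n) : ℤ := pat 0 k - pat 1 k - pat 2 k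

theorem Table.ε_sq (k : Fin n) : T.ε k * T.ε k = 1 := by
  rcases T.sign k with e | e <;> rw [e] <;> norm_num

theorem Table.X_zero : T.X 0 = 1 := by
  have h := (T.e 0).2.apply_one_eq_charDegree
  have h1 : (charDegree (T.e 0 : G → ℂ) : ℂ) = 1 := by rw [← h, T.e_zero]
  rw [Table.X, T.ε_zero, one_mul]
  exact_mod_cast h1

theorem Table.apply_one (k : Fin n) : (T.e k : G → ℂ) 1 = ((T.ε k * T.X k : ℤ) : ℂ) := by
  rw [Table.X, ← mul_assoc, T.ε_sq, one_mul, (T.e k).2.apply_one_eq_charDegree, Int.cast_natCast]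

theorem Table.X_ne (k : Fin n) : T.X k ≠ 0 := by
  have := (T.e k).2.charDegree_pos
  rcases T.sign k with e | e <;> rw [Table.X, e] <;> omega

theorem Table.exists_d (k : Fin n) : ∃ j, S.d j (T.e k) ≠ 0 := by
  obtain ⟨j, hj⟩ := T.d_ne k
  refine ⟨j, ?_⟩
  rw [T.d_eq]
  rcases T.sign k with e | e <;> rw [e] <;> omega

theorem Table.apply_t (k : Fin n) :
    (T.e k : G → ℂ) S.t = ((T.ε k * tval S pat k : ℤ) : ℂ) := by
  rw [S.value_t (T.exists_d k), T.d_eq, T.d_eq, T.d_eq, tval]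
  push_cast
  ring

theorem Table.apply_torus (k : Fin n) {s : L} (hs : s ∈ zpowers S.D.y) (hs1 : s ≠ 1) :
    (T.e k : G → ℂ) (S.t * S.φ s) = ((T.ε k * bval pat k : ℤ) : ℂ) := by
  rw [S.value_torus (T.exists_d k) hs hs1, T.d_eq, T.d_eq, T.d_eq, bval]
  push_cast
  ring

/-- The degree equation of a column. -/
theorem Table.degree_eq (j : Fin 3) : ∑ k, pat j k * T.X k = 0 := by
  have h := S.d_degree j
  rw [T.sum_d j fun χ => (χ : G → ℂ) 1] at h
  have : ((∑ k, pat j k * T.X k : ℤ) : ℂ) = ((0 : ℤ) : ℂ) := by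
    push_cast
    rw [← h]
    refine Finset.sum_congr rfl fun k _ => ?_
    rw [T.apply_one, Int.cast_mul, ← mul_assoc (T.ε k : ℂ),
      show (T.ε k : ℂ) * T.ε k = 1 from by exact_mod_cast T.ε_sq k, one_mul]
  exact Int.cast_injective this

/-- One summand of a pair equation. -/
theorem Table.pair_term (k : Fin n) :
    (T.ε k : ℂ) * ((T.e k : G → ℂ) S.t ^ 2 / (T.e k : G → ℂ) 1) =
      (tval S pat k : ℂ) ^ 2 / (T.X k : ℂ) := by
  rw [T.apply_t, T.apply_one]
  push_cast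
  have hs : (T.ε k : ℂ) * T.ε k = 1 := by exact_mod_cast T.ε_sq k
  have hε : (T.ε k : ℂ) ≠ 0 := fun e => by rw [e, zero_mul] at hs; exact zero_ne_one hs
  have hX : (T.X k : ℂ) ≠ 0 := Int.cast_ne_zero.2 (T.X_ne k)
  field_simp
  linear_combination (tval S pat k : ℂ) ^ 2 * hs

variable [IsSimpleGroup G] (hna : ¬ IsMulCommutative G)
include hna

/-- The pair equation of a column. -/
theorem Table.pair_eq (j : Fin 3) :
    ((S.C).index : ℂ) * ∑ k, (pat j k : ℂ) * ((tval S pat k : ℂ) ^ 2 / (T.X k : ℂ)) =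
      ![(S.D.Q : ℂ) * (S.D.Q - 1) ^ 2 * (S.D.Q + 1), (S.D.Q : ℂ) * (S.D.Q - 1) * (3 * S.D.Q - 1),
        (S.D.Q : ℂ) * (S.D.Q - 1) * (3 * S.D.Q - 1)] j := by
  rw [← S.pair_W hna j, T.sum_d j fun χ => (χ : G → ℂ) S.t ^ 2 / (χ : G → ℂ) 1]
  simp only [T.pair_term]

theorem Table.X_mod_eight (k : Fin n) : (T.X k - tval S pat k) % 8 = 0 := by
  have h := S.deg_mod_eight hna (T.e k) (T.apply_one k) (T.apply_t k)
  rcases T.sign k with e | e <;> rw [e] at h <;> omega

omit T in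
/-- The two shapes. -/
theorem exists_table : Nonempty (Table S pat8) ∨ Nonempty (Table S pat7) := by
  classical
  set one : IrrCharacter G := ⟨fun _ => 1, isIrrCharacter_one⟩ with hone
  set deg : IrrCharacter G → ℤ := fun χ => (charDegree (χ : G → ℂ) : ℤ) with hdeg
  have hpos : ∀ χ, 0 < deg χ := fun χ => by simp only [hdeg]; exact_mod_cast χ.2.charDegree_pos
  have hd0 : ∀ j, ∑ χ : IrrCharacter G, S.d j χ * deg χ = 0 := fun j => by
    have h := S.d_degree j
    simp only [fun χ : IrrCharacter G => χ.2.apply_one_eq_charDegree] at h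
    exact_mod_cast h
  have hsq : ∀ j, ∑ χ : IrrCharacter G, S.d j χ * S.d j χ = 4 := fun j => by
    rw [S.d_gram, if_pos rfl]
  have he : ∀ j χ, S.d j χ = 0 ∨ S.d j χ = 1 ∨ S.d j χ = -1 := fun j χ =>
    entry_le_one (hsq j) (hd0 j) hpos χ
  have hov : ∀ i j, i ≠ j → (∀ χ, S.d i χ ≠ 0 → S.d j χ ≠ 0 → S.d i χ = S.d j χ) ∧
      (Finset.univ.filter fun χ => S.d i χ ≠ 0 ∧ S.d j χ ≠ 0).card = 2 := fun i j hij =>
    overlap (he i) (he j) (hsq i) (hsq j) (by rw [S.d_gram, if_neg hij]) (hd0 i) (hd0 j) hpos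
  set A : Fin 3 → Finset (IrrCharacter G) := fun j => Finset.univ.filter fun χ => S.d j χ ≠ 0
    with hA
  set sg : IrrCharacter G → ℤ := fun χ =>
    if S.d 0 χ ≠ 0 then S.d 0 χ else if S.d 1 χ ≠ 0 then S.d 1 χ else S.d 2 χ with hsg
  have hsgd : ∀ j χ, S.d j χ = sg χ * (if χ ∈ A j then 1 else 0) := by
    intro j χ
    simp only [hA, Finset.mem_filter, Finset.mem_univ, true_and, hsg]
    by_cases hj : S.d j χ ≠ 0
    · rw [if_pos hj, mul_one]
      split_ifs with h0 h1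
      · by_cases hj0 : j = 0
        · rw [hj0]
        · exact ((hov j 0 hj0).1 χ hj h0)
      · by_cases hj1 : j = 1
        · rw [hj1]
        · exact ((hov j 1 hj1).1 χ hj h1)
      · fin_cases j <;> simp_all
    · rw [if_neg hj, mul_zero]
      simpa using hj
  have hsgs : ∀ j χ, χ ∈ A j → sg χ = 1 ∨ sg χ = -1 := by
    intro j χ hχ
    have h := hsgd j χ
    rw [if_pos hχ, mul_one] at h
    have h' : S.d j χ ≠ 0 := (Finset.mem_filter.1 hχ).2
    have := he j χ
    omega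
  have h1 : (one : G → ℂ) = fun _ => 1 := rfl
  have ho : one ∈ A 0 := by simp [hA, S.d_one 0 h1]
  have ho1 : one ∉ A 1 := by simp [hA, S.d_one 1 h1]
  have ho2 : one ∉ A 2 := by simp [hA, S.d_one 2 h1]
  have hsg1 : sg one = 1 := by simp [hsg, S.d_one 0 h1]
  have h2 : ∀ i j, i ≠ j → (A i ∩ A j).card = 2 := fun i j hij => by
    rw [← (hov i j hij).2]
    congr 1
    ext χ
    simp [hA]
  rcases sets_shape A (fun j => card_support (he j) (hsq j)) h2 ho ho1 ho2 with
    ⟨e, einj, e0, ep, ec⟩ | ⟨e, einj, e0, ep, ec⟩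
  on_goal 1 => left
  on_goal 2 => right
  all_goals
    have hex : ∀ k, ∃ j, e k ∈ A j := by
      intro k
      by_contra hc
      push Not at hc
      have hz : ∀ j, (if e k ∈ A j then (1 : ℤ) else 0) = 0 := fun j => if_neg (hc j)
      simp only [ep] at hz
      have z0 := hz 0
      have z1 := hz 1
      have z2 := hz 2
      fin_cases k <;> simp [pat8, pat7] at z0 z1 z2
    exact ⟨{
      e := e
      ε := fun k => sg (e k)
      e_inj := einj
      e_zero := by rw [e0]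
      ε_zero := by rw [e0]; exact hsg1
      sign := fun k => (hex k).elim fun j hj => hsgs j _ hj
      d_eq := fun j k => by rw [hsgd, ep]
      d_ne := fun k => (hex k).elim fun j hj => ⟨j, by rw [← ep, if_pos hj]; exact one_ne_zero⟩
      d_zero := fun j χ h => by
        by_contra hc
        obtain ⟨k, -, hk⟩ := Finset.mem_image.1 (ec j (Finset.mem_filter.2 ⟨Finset.mem_univ χ, hc⟩))
        exact h k hk }⟩

end Setup

end Cfsg.Lib.Walter8
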