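import Cfsg.Agent.Lib.Walter8.Psi
import Cfsg.Agent.Lib.Walter8.Shape
import Cfsg.Agent.Lib.Walter8.MovesComb

/-!
# The exceptional characters on the rows of the columns
-/

set_option autoImplicit false
set_option linter.unusedSectionVars false
set_option linter.style.haveILetI false

namespace Cfsg.Lib.Walter8

open Subgroup Cfsg Cfsg.Lib.Char
open scoped ComplexConjugate

universe u

namespace Setup

variable {G L : Type u} [Group G] [Group L] [Fintype G] {S : Setup G L}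

theorem sum_bval8 : ∑ k, bval pat8 k * bval pat8 k = 8 := by decide

theorem sum_bval7 : ∑ k, bval pat7 k * bval pat7 k = 8 := by decide

section Stab

variable (R : Rot S)
include R

/-- A rotation moving the torus forces its order to be at least seven. -/
theorem Rot.seven_le (hR : ¬ R.Triv) : 7 ≤ S.D.T := by
  by_contra hc
  obtain ⟨k, hk⟩ : ∃ k : ℕ, (S.φ S.D.y) ^ k = R.ρ * S.φ S.D.y * R.ρ⁻¹ := by
    obtain ⟨k, hk⟩ := mem_powers_iff_mem_zpowers.mpr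
      (show R.ρ * S.φ S.D.y * R.ρ⁻¹ ∈ zpowers (S.φ S.D.y) from conj_Tsub R.mem S.φy_mem)
    exact ⟨k, hk⟩
  have h2 : ∀ g : ℕ, R.ρ * S.φ S.D.y ^ g * R.ρ⁻¹ = S.φ S.D.y ^ (k * g) := fun g => by
    rw [← conj_pow, ← hk, pow_mul]
  have h3 : S.φ S.D.y ^ (k * (k * k)) = S.φ S.D.y ^ 1 := by
    rw [← h2, ← h2, hk]
    calc R.ρ * (R.ρ * (R.ρ * S.φ S.D.y * R.ρ⁻¹) * R.ρ⁻¹) * R.ρ⁻¹ =
        R.ρ * R.ρ * R.ρ * S.φ S.D.y * (R.ρ * R.ρ * R.ρ)⁻¹ := by group
      _ = _ := by rw [R.cube]; group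
  have hy : ∀ g : ℕ, k % S.D.T = g % S.D.T → R.ρ * S.φ S.D.y * R.ρ⁻¹ = S.φ S.D.y ^ g := fun g e => by
    rw [← hk, pow_eq_pow_iff_modEq, S.orderOf_φy]
    exact e
  rw [pow_eq_pow_iff_modEq, S.orderOf_φy, Nat.ModEq, Nat.mul_mod, Nat.mul_mod k k] at h3
  obtain ⟨hT1, hT3⟩ := S.D.T_facts
  have hlt := Nat.mod_lt k (show 0 < S.D.T by omega)
  refine hR (R.triv_of_y (mul_inv_eq_iff_eq_mul.mp ?_))
  rw [hy 1 ?_, pow_one]
  obtain hT | hT : S.D.T = 3 ∨ S.D.T = 5 := by omega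
  all_goals
    rw [hT] at h3 hlt ⊢
    generalize k % _ = j at h3 hlt
    interval_cases j <;> first | rfl | omega

theorem Rot.act_true_ne {lam : S.K →* ℂˣ} (h : IsTor S lam) (j : Fin 3) :
    lam ≠ R.act (j, true) lam := by
  intro e
  rw [R.act_pow j true h, if_pos rfl] at e
  have hc : ∀ k : S.K, lam (cj (R.rep_mem (j, false)) k) = (lam k)⁻¹ := fun k => by
    have e' := DFunLike.congr_fun e k
    rw [MonoidHom.inv_apply, R.act_apply] at e'
    rw [e', inv_inv]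
  have h3 : ∀ k : S.K, cj (R.rep_mem (j, false)) (cj (R.rep_mem (j, false))
      (cj (R.rep_mem (j, false)) k)) = k := fun k => Subtype.ext (by
    simp only [cj_apply, rep, Bool.false_eq_true, if_false, mul_one]
    have h' : R.ρ ^ (j : ℕ) * R.ρ ^ (j : ℕ) * R.ρ ^ (j : ℕ) = 1 := by
      rw [← pow_add, ← pow_add, show (j : ℕ) + j + j = 3 * j by ring, pow_mul, R.pow_cube, one_pow]
    calc R.ρ ^ (j : ℕ) * (R.ρ ^ (j : ℕ) * (R.ρ ^ (j : ℕ) * (k : G) * (R.ρ ^ (j : ℕ))⁻¹) *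
          (R.ρ ^ (j : ℕ))⁻¹) * (R.ρ ^ (j : ℕ))⁻¹
        = R.ρ ^ (j : ℕ) * R.ρ ^ (j : ℕ) * R.ρ ^ (j : ℕ) * k *
            (R.ρ ^ (j : ℕ) * R.ρ ^ (j : ℕ) * R.ρ ^ (j : ℕ))⁻¹ := by group
      _ = k := by rw [h']; group)
  refine IsTor.inv_ne S h (MonoidHom.ext fun k => ?_)
  conv_rhs => rw [← h3 k]
  rw [hc, hc, hc, inv_inv, MonoidHom.inv_apply]

open Classical in
theorem Rot.card_stab_le {lam : S.K →* ℂˣ} (h : IsTor S lam) :
    (Finset.univ.filter fun p : Fin 3 × Bool => lam = R.act p lam).card ≤ 3 := by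
  refine le_trans (Finset.card_le_card (t := Finset.univ.image fun j : Fin 3 => (j, false)) ?_)
    (le_trans Finset.card_image_le (by simp))
  rintro ⟨j, b⟩ hp
  cases b
  · exact Finset.mem_image.2 ⟨j, Finset.mem_univ _, rfl⟩
  · exact absurd (Finset.mem_filter.1 hp).2 (R.act_true_ne h j)

open Classical in
theorem Rot.card_stab_faithful (hR : ¬ R.Triv) {lam : S.K →* ℂˣ} (h : IsTor S lam)
    (hf : ∀ k : S.K, lam k = 1 → S.InV (k : G)) :
    (Finset.univ.filter fun p : Fin 3 × Bool => lam = R.act p lam).card = 1 := by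
  rw [Finset.card_eq_one]
  refine ⟨(0, false), Finset.ext fun p => ?_⟩
  simp only [Finset.mem_filter, Finset.mem_univ, true_and, Finset.mem_singleton]
  constructor
  · obtain ⟨j, b⟩ := p
    intro e
    cases b
    · by_contra hj
      have hj0 : j ≠ 0 := fun e' => hj (by rw [e'])
      refine hR (R.triv_of_y ?_)
      set y : S.K := ⟨S.φ S.D.y, S.Tsub_le S.φy_mem⟩
      have e' := DFunLike.congr_fun e y
      rw [R.act_apply] at e'
      have h1 : lam (cj (R.rep_mem (j, false)) y * y⁻¹) = 1 := by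
        rw [map_mul, map_inv, ← e', mul_inv_cancel]
      have hmem : ((cj (R.rep_mem (j, false)) y * y⁻¹ : S.K) : G) ∈ S.Tsub := by
        rw [Subgroup.coe_mul, Subgroup.coe_inv, cj_apply]
        exact mul_mem (conj_Tsub (R.rep_mem _) S.φy_mem) (inv_mem S.φy_mem)
      have h2 := S.Tsub_sq_eq_one hmem (hf _ h1).sq
      rw [Subgroup.coe_mul, Subgroup.coe_inv, cj_apply, mul_inv_eq_one] at h2
      simp only [rep, Bool.false_eq_true, if_false, mul_one, y] at h2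
      have h2' := mul_inv_eq_iff_eq_mul.mp h2
      fin_cases j
      · exact absurd rfl hj0
      · simpa using h2'
      · have hc : Commute (R.ρ ^ 2) (S.φ S.D.y) := h2'
        have e4 : R.ρ ^ 2 * R.ρ ^ 2 = R.ρ := by
          rw [← pow_add, show 2 + 2 = 3 + 1 by rfl, pow_succ, R.pow_cube, one_mul]
        have := (hc.mul_left hc).eq
        rwa [e4] at this
    · exact absurd e (R.act_true_ne h j)
  · rintro rfl
    exact ((R.act_lam_zero h).1).symm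

end Stab

/-- The powers of a faithful character. -/
theorem IsTor.pow {lam : S.K →* ℂˣ} (h : IsTor S lam) (hf : ∀ k : S.K, lam k = 1 → S.InV (k : G))
    {i : ℕ} (hi : ¬ S.D.T ∣ i) : IsTor S (lam ^ i) := by
  refine ⟨fun k hk => by rw [MonoidHom.pow_apply, h.inV k hk, one_pow], fun e => hi ?_⟩
  have e' := DFunLike.congr_fun e ⟨S.φ S.D.y, S.Tsub_le S.φy_mem⟩
  rw [MonoidHom.pow_apply, MonoidHom.one_apply, ← map_pow] at e'
  have h2 := S.Tsub_sq_eq_one (g := S.φ S.D.y ^ i) (pow_mem S.φy_mem i)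
    (by simpa using (hf _ e').sq)
  exact S.orderOf_φy ▸ orderOf_dvd_of_pow_eq_one h2

theorem lam_pow_eq_one {lam : S.K →* ℂˣ} (h : IsTor S lam)
    (hf : ∀ k : S.K, lam k = 1 → S.InV (k : G)) {i : ℕ} (e : lam ^ i = 1) : S.D.T ∣ i := by
  by_contra hi
  exact (h.pow hf hi).ne e

theorem m_trivial (a : S.K →* ℂˣ) (χ : IrrCharacter G) : S.m a 1 χ = 0 := by
  have h := S.m_spec a 1 χ
  have e : S.psiF a 1 = 0 := by
    rw [psiF, show S.tf a 1 = 0 from funext fun k => by simp [tf], indFun_zero]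
  rw [e, classInner_zero_left] at h
  exact_mod_cast h.symm

variable [IsSimpleGroup G]

theorem psiF_one_eq (a lam : S.K →* ℂˣ) (h : IsTor S lam) : S.psiF a lam 1 = 0 :=
  psiF_invol h (one_mul 1)

theorem sum_m_one {a lam : S.K →* ℂˣ} (h : IsTor S lam) :
    ∑ χ : IrrCharacter G, (S.m a lam χ : ℂ) * (χ : G → ℂ) 1 = 0 := by
  rw [← psiF_eq_sum, psiF_one_eq a lam h]

theorem sum_m_t {a lam : S.K →* ℂˣ} (h : IsTor S lam) :
    ∑ χ : IrrCharacter G, (S.m a lam χ : ℂ) * (χ : G → ℂ) S.t = 0 := by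
  rw [← psiF_eq_sum, psiF_invol h S.t_sq]

theorem exists_int_t (χ : IrrCharacter G) : ∃ v : ℤ, (χ : G → ℂ) S.t = v := by
  obtain ⟨n, ρ, hρ⟩ := χ.2.isCharacter
  obtain ⟨μ, hμ, h, -⟩ := character_eq_sum_roots ρ S.t
  have : ∀ i, ∃ m : ℤ, μ i = m := fun i => by
    have h2 : μ i ^ 2 = 1 := by
      obtain ⟨d, hd⟩ := orderOf_dvd_of_pow_eq_one (show S.t ^ 2 = 1 by rw [pow_two, S.t_sq])
      rw [hd, pow_mul, hμ i, one_pow]
    rcases sq_eq_one_iff.1 h2 with e | e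
    exacts [⟨1, by simp [e]⟩, ⟨-1, by simp [e]⟩]
  choose m hm using this
  refine ⟨∑ i, m i, ?_⟩
  rw [← hρ, h]
  push_cast
  exact Finset.sum_congr rfl fun i _ => hm i

variable {n : ℕ} [NeZero n] {pat : Fin 3 → Fin n → ℤ} (Tb : Table S pat)

/-- The constituents outside the rows. -/
noncomputable def Table.out : Finset (IrrCharacter G) := by
  classical exact Finset.univ \ Finset.univ.image Tb.e

theorem Table.mem_out {χ : IrrCharacter G} : χ ∈ Tb.out ↔ ∀ k, Tb.e k ≠ χ := by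
  classical
  simp [Table.out]

theorem Table.sum_split {M : Type*} [AddCommMonoid M] (F : IrrCharacter G → M) :
    ∑ χ : IrrCharacter G, F χ = ∑ k, F (Tb.e k) + ∑ χ ∈ Tb.out, F χ := by
  classical
  rw [Table.out, ← Finset.sum_image (f := F) fun a _ b _ h => Tb.e_inj h, add_comm,
    Finset.sum_sdiff (Finset.subset_univ _)]

/-- The signed multiplicity on a row. -/
noncomputable def Table.mu (a lam : S.K →* ℂˣ) (k : Fin n) : ℤ := Tb.ε k * S.m a lam (Tb.e k)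

theorem Table.m_row (a lam : S.K →* ℂˣ) (k : Fin n) :
    S.m a lam (Tb.e k) = Tb.ε k * Tb.mu a lam k := by
  rw [Table.mu, ← mul_assoc, Tb.ε_sq, one_mul]

theorem Table.mu_mul (a lam a' lam' : S.K →* ℂˣ) (k : Fin n) :
    Tb.mu a lam k * Tb.mu a' lam' k = S.m a lam (Tb.e k) * S.m a' lam' (Tb.e k) := by
  rw [Table.mu, Table.mu]
  linear_combination (S.m a lam (Tb.e k) * S.m a' lam' (Tb.e k)) * Tb.ε_sq k

theorem Table.out_inner (a lam a' lam' : S.K →* ℂˣ) {c : ℤ}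
    (h : classInner (S.psiF a lam) (S.psiF a' lam') = c) :
    ∑ χ ∈ Tb.out, S.m a lam χ * S.m a' lam' χ =
      c - ∑ k, Tb.mu a lam k * Tb.mu a' lam' k := by
  rw [inner_psiF_eq_sum] at h
  have h' := Int.cast_injective (α := ℂ) h
  rw [Tb.sum_split] at h'
  simp only [Tb.mu_mul]
  linarith

theorem Table.mu_zero {lam : S.K →* ℂˣ} (h : IsTor S lam) :
    Tb.mu S.nu lam 0 = 0 := by
  haveI := Fintype.ofFinite S.K
  have e := m_eq_sum (S := S) S.nu lam (Tb.e 0)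
  simp only [Tb.e_zero, map_one, mul_one, (sum_tf h).2, mul_eq_zero,
    (mul_ne_zero (by norm_num : (4 : ℂ) ≠ 0) S.T_ne), false_or] at e
  have e' : S.m S.nu lam (Tb.e 0) = 0 := by
    exact_mod_cast e
  rw [Table.mu, e', mul_zero]

variable (R : Rot S) (hna : ¬ IsMulCommutative G) (hR : ¬ R.Triv)
include hna hR

omit hna hR in
include R in
theorem Table.mu_col {lam : S.K →* ℂˣ} (h : IsTor S lam) (j : Fin 3) :
    ∑ k, pat j k * Tb.mu S.nu lam k = ![0, 1, 1] j := by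
  rw [← (R.inner_W h j).2, Tb.sum_split,
    Finset.sum_eq_zero (s := Tb.out) fun χ hχ => by rw [Tb.d_zero j χ (Tb.mem_out.1 hχ), mul_zero], add_zero]
  exact Finset.sum_congr rfl fun k _ => by rw [Tb.d_eq, Table.mu]; ring

omit hna hR in
include R in
theorem Table.mu_one {lam : S.K →* ℂˣ} (h : IsTor S lam) (k : Fin n) :
    Tb.mu 1 lam k = Tb.mu S.nu lam k + bval pat k := by
  have e := R.m_sub h (Tb.exists_d k)
  rw [Tb.d_eq, Tb.d_eq, Tb.d_eq] at e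
  rw [Table.mu, Table.mu, bval]
  linear_combination (Tb.ε k) * e + (pat 0 k - pat 1 k - pat 2 k) * Tb.ε_sq k

omit hna hR in
include R in
theorem Table.sum_b_mu {lam : S.K →* ℂˣ} (h : IsTor S lam) :
    ∑ k, bval pat k * Tb.mu S.nu lam k = -2 := by
  simp only [bval, sub_mul, Finset.sum_sub_distrib, Tb.mu_col R h]
  rfl

open Classical in
/-- The norms outside the rows. -/
theorem Table.out_facts {lam : S.K →* ℂˣ} (h : IsTor S lam)
    (hb8 : ∑ k, bval pat k * bval pat k = 8) :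
    (∑ χ ∈ Tb.out, S.m S.nu lam χ * S.m S.nu lam χ =
        3 - ∑ k, Tb.mu S.nu lam k * Tb.mu S.nu lam k) ∧
      (∑ χ ∈ Tb.out, S.m 1 lam χ * S.m S.nu lam χ =
        2 - ∑ k, Tb.mu S.nu lam k * Tb.mu S.nu lam k) ∧
      (∑ χ ∈ Tb.out, S.m 1 lam χ * S.m 1 lam χ =
        ((Finset.univ.filter fun p : Fin 3 × Bool => lam = R.act p lam).card : ℤ) + 2 -
          ∑ k, Tb.mu S.nu lam k * Tb.mu S.nu lam k) ∧
      ∑ k, Tb.mu S.nu lam k * Tb.mu S.nu lam k ≤ 2 := by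
  haveI := Fintype.ofFinite S.K
  have hbm := Tb.sum_b_mu R h
  have hmb : ∑ k, Tb.mu S.nu lam k * bval pat k = -2 := by
    rw [← hbm]; exact Finset.sum_congr rfl fun k _ => mul_comm _ _
  have f1 := Tb.out_inner S.nu lam S.nu lam (c := 3) (by
    rw [R.inner_psi'_psi' hna hR h h, if_pos rfl, if_neg (IsTor.inv_ne S h).symm]; norm_num)
  have f2 := Tb.out_inner 1 lam S.nu lam (c := 0) (by
    rw [R.inner_psi_psi' hna hR h h, Int.cast_zero])
  have f3 := Tb.out_inner 1 lam 1 lam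
    (c := 6 + ((Finset.univ.filter fun p : Fin 3 × Bool => lam = R.act p lam).card : ℤ))
    (by rw [R.inner_psi_psi hna hR h h]; push_cast; rfl)
  simp only [Tb.mu_one R h, add_mul, mul_add, Finset.sum_add_distrib, hbm, hmb, hb8] at f2 f3
  refine ⟨f1, by omega, ?_, ?_⟩
  · rw [Finset.filter_congr_decidable]
    rw [Finset.filter_congr_decidable] at f3
    omega
  by_contra hc
  have h0 : 0 ≤ ∑ χ ∈ Tb.out, S.m S.nu lam χ * S.m S.nu lam χ :=
    Finset.sum_nonneg fun χ _ => mul_self_nonneg _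
  have hz : ∀ χ ∈ Tb.out, S.m S.nu lam χ * S.m S.nu lam χ = 0 :=
    (Finset.sum_eq_zero_iff_of_nonneg fun χ _ => mul_self_nonneg _).1 (by omega)
  rw [Finset.sum_eq_zero fun χ hχ => by rw [mul_self_eq_zero.1 (hz χ hχ), mul_zero]] at f2
  omega

omit hna hR in
/-- A single constituent outside the rows is eliminated from the pair equation. -/
theorem Table.ext_single {a lam : S.K →* ℂˣ} (h : IsTor S lam)
    (h1 : ∑ χ ∈ Tb.out, S.m a lam χ * S.m a lam χ = 1) :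
    ∑ k, Tb.mu a lam k * Tb.X k ≠ 0 ∧
      ∑ χ : IrrCharacter G, (S.m a lam χ : ℂ) * ((χ : G → ℂ) S.t ^ 2 / (χ : G → ℂ) 1) =
        ∑ k, (Tb.mu a lam k : ℂ) * ((tval S pat k : ℂ) ^ 2 / (Tb.X k : ℂ)) -
          ((∑ k, Tb.mu a lam k * tval S pat k : ℤ) : ℂ) ^ 2 /
            ((∑ k, Tb.mu a lam k * Tb.X k : ℤ) : ℂ) := by
  classical
  obtain ⟨χ₀, hχ₀, hv, hz⟩ := exists_unit h1
  have hout : ∀ F : IrrCharacter G → ℂ, ∑ χ ∈ Tb.out, (S.m a lam χ : ℂ) * F χ =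
      (S.m a lam χ₀ : ℂ) * F χ₀ := fun F =>
    Finset.sum_eq_single_of_mem χ₀ hχ₀ fun χ hχ hne => by simp [hz χ hχ hne]
  have hε : ∀ k, (Tb.ε k : ℂ) * Tb.ε k = 1 := fun k => by exact_mod_cast Tb.ε_sq k
  have e1 := sum_m_one (a := a) h
  rw [Tb.sum_split, hout] at e1
  simp only [Tb.apply_one, Tb.m_row, Int.cast_mul] at e1
  have e2 := sum_m_t (a := a) h
  rw [Tb.sum_split, hout] at e2
  simp only [Tb.apply_t, Tb.m_row, Int.cast_mul] at e2
  set f : ℂ := (S.m a lam χ₀ : ℂ) with hf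
  have hff : f * f = 1 := by
    rcases hv with e | e <;> rw [hf, e] <;> norm_num
  have hdeg : (χ₀ : G → ℂ) 1 ≠ 0 := χ₀.2.apply_one_ne_zero
  have s1 : ((∑ k, Tb.mu a lam k * Tb.X k : ℤ) : ℂ) = -(f * (χ₀ : G → ℂ) 1) := by
    push_cast
    rw [eq_neg_iff_add_eq_zero, ← e1]
    congr 1
    exact Finset.sum_congr rfl fun k _ => by
      linear_combination (-(Tb.mu a lam k : ℂ) * Tb.X k) * hε k
  have s2 : ((∑ k, Tb.mu a lam k * tval S pat k : ℤ) : ℂ) = -(f * (χ₀ : G → ℂ) S.t) := by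
    push_cast
    rw [eq_neg_iff_add_eq_zero, ← e2]
    congr 1
    exact Finset.sum_congr rfl fun k _ => by
      linear_combination (-(Tb.mu a lam k : ℂ) * tval S pat k) * hε k
  have hf0 : f ≠ 0 := fun e => by rw [e, zero_mul] at hff; exact zero_ne_one hff
  refine ⟨fun e => ?_, ?_⟩
  · rw [e, Int.cast_zero, eq_comm, neg_eq_zero] at s1
    exact mul_ne_zero hf0 hdeg s1
  rw [Tb.sum_split, hout, sub_eq_add_neg, s1, s2]
  congr 1
  · refine Finset.sum_congr rfl fun k _ => ?_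
    rw [← Tb.pair_term, Tb.m_row]
    push_cast
    ring
  · field_simp

/-- The right hand sides of the pair equations. -/
theorem Rot.pair_rhs {lam : S.K →* ℂˣ} (h : IsTor S lam) :
    ((S.C).index : ℂ) * ∑ χ : IrrCharacter G,
        (S.m 1 lam χ : ℂ) * ((χ : G → ℂ) S.t ^ 2 / (χ : G → ℂ) 1) =
      (S.D.Q : ℂ) * (S.D.Q - 1) * (S.D.Q + 1) ^ 2 ∧
    ∑ χ : IrrCharacter G, (S.m S.nu lam χ : ℂ) * ((χ : G → ℂ) S.t ^ 2 / (χ : G → ℂ) 1) = 0 := by
  haveI := Fintype.ofFinite S.K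
  constructor
  · rw [R.pair_psiF hna hR h, (sum_tf h).1]
    have e : (4 * S.D.σ * S.D.T : ℂ) = S.D.Q + 1 := by exact_mod_cast S.D.four_T
    linear_combination (S.D.Q : ℂ) * (S.D.Q - 1) * (S.D.Q + 1) * e
  · have e := R.pair_psiF hna hR (a := S.nu) h
    rw [(sum_tf h).2, mul_zero, mul_eq_zero] at e
    exact e.resolve_left (Nat.cast_ne_zero.2 index_ne_zero_of_finite)

omit hna hR in
/-- The conclusion when the rotation moves the torus. -/
def MovesConcl (S : Setup G L) : Prop :=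
  ((S.C).index : ℤ) = S.D.Q ^ 2 * (S.D.Q ^ 2 - S.D.Q + 1) ∧
    (∃ d : ℤ, 3 * d ^ 2 = S.D.Q * (S.D.Q ^ 2 - 1) ^ 2) ∧
      (∃ χ : IrrCharacter G, (charDegree (χ : G → ℂ) : ℤ) = S.D.Q ^ 2 - S.D.Q + 1) ∧
        ∃ χ : IrrCharacter G,
          ((charDegree (χ : G → ℂ) : ℤ) = S.D.Q ^ 3 ∨ (charDegree (χ : G → ℂ) : ℤ) = -S.D.Q ^ 3) ∧
            ∃ (χ₁ χ₆ : IrrCharacter G) (a b c : ℤ),
              (charDegree (χ₁ : G → ℂ) : ℤ) = S.D.Q ^ 2 - S.D.Q + 1 ∧
              ((charDegree (χ₆ : G → ℂ) : ℤ) = S.D.Q * (S.D.Q ^ 2 - S.D.Q + 1) ∨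
                (charDegree (χ₆ : G → ℂ) : ℤ) = -(S.D.Q * (S.D.Q ^ 2 - S.D.Q + 1))) ∧
              ((c = 1 ∨ c = -1) ∧
                ∃ (χ₂ χ₃ : IrrCharacter G) (e₂ e₃ : ℤ), (e₂ = 1 ∨ e₂ = -1) ∧ (e₃ = 1 ∨ e₃ = -1) ∧
                  e₂ * (charDegree (χ₂ : G → ℂ) : ℤ) + e₃ * (charDegree (χ₃ : G → ℂ) : ℤ) =
                    S.D.Q - S.D.Q ^ 2 ∧
                  3 * (e₂ * (charDegree (χ₂ : G → ℂ) : ℤ) - e₃ * (charDegree (χ₃ : G → ℂ) : ℤ)) ^ 2 =
                    S.D.Q * (S.D.Q ^ 2 - 1) ^ 2 ∧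
                  ∀ g : G, ¬ 2 ∣ orderOf g →
                    (e₂ : ℂ) * (χ₂ : G → ℂ) g + (e₃ : ℂ) * (χ₃ : G → ℂ) g + (b : ℂ) * (χ₆ : G → ℂ) g +
                      (c : ℂ) * (χ : G → ℂ) g = 0) ∧
              ∀ g : G, ¬ 2 ∣ orderOf g →
                1 + (a : ℂ) * (χ₁ : G → ℂ) g + (b : ℂ) * (χ₆ : G → ℂ) g + (c : ℂ) * (χ : G → ℂ) g = 0

omit hna hR in
include R in
theorem Rot.abs_h (hR : ¬ R.Triv) : 13 ≤ |S.D.h| := by
  have h1 := S.D.four_T'
  have h2 : (7 : ℤ) ≤ S.D.T := by exact_mod_cast R.seven_le hR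
  rcases S.D.σ_cases with e | e <;> rw [e] at h1 <;>
    rcases abs_cases S.D.h with ⟨e', h3⟩ | ⟨e', h3⟩ <;> rw [e'] <;> linarith

omit hna hR in
theorem T_dvd_h : (S.D.T : ℤ) ∣ S.D.h + 1 :=
  ⟨2 * S.D.σ, by linarith [S.D.four_T', mul_comm (S.D.T : ℤ) (2 * S.D.σ)]⟩

omit hna hR in
theorem h_dvd_two_mul {a : ℤ} (ha : (S.D.T : ℤ) ∣ a) : S.D.h + 1 ∣ 2 * a := by
  obtain ⟨b, rfl⟩ := ha
  refine ⟨S.D.σ * b, ?_⟩
  have h2 : 2 * S.D.σ * S.D.T = S.D.h + 1 := by linarith [S.D.four_T']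
  linear_combination (S.D.σ * b) * h2 - (2 * (S.D.T : ℤ) * b) * S.D.σ_sq

end Setup

end Cfsg.Lib.Walter8
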