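import Cfsg.Agent.Lib.Walter8.TorusChar
import Cfsg.Agent.Lib.Walter8.Block
import Cfsg.Agent.Lib.Walter8.Count

/-!
# The exceptional characters at the torus when the rotation moves it

`ψ = Ind_K (1 - λ)` and `ψ' = Ind_K (ν (1 - λ))` with their products, their products with the
columns, their pair equations and the congruences of degrees and values modulo the order of `y`.
-/

set_option autoImplicit false
set_option linter.unusedSectionVars false
set_option linter.style.haveILetI false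

namespace Cfsg.Lib.Walter8

open Subgroup Cfsg Cfsg.Lib.Char
open scoped ComplexConjugate

universe u

namespace Setup

variable {G L : Type u} [Group G] [Group L] [Fintype G] (S : Setup G L)

/-- A linear character of the torus trivial on `⟨φ y⟩`. -/
def IsFlat (a : S.K →* ℂˣ) : Prop := ∀ k : S.K, (k : G) ∈ S.Tsub → a k = 1

/-- The functions `a (1 - λ)` on the torus. -/
noncomputable def tf (a lam : S.K →* ℂˣ) (k : S.K) : ℂ := (a k : ℂ) * (1 - (lam k : ℂ))

/-- The induced functions. -/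
noncomputable def psiF (a lam : S.K →* ℂˣ) : G → ℂ := indFun S.K (S.tf a lam)

theorem tf_isGeneralized (a lam : S.K →* ℂˣ) : IsGeneralizedCharacter S.K (S.tf a lam) := by
  have e : S.tf a lam = (fun k => (a k : ℂ)) - fun k => ((a * lam) k : ℂ) := funext fun k => by
    simp [tf, mul_sub]
  rw [e]
  exact (isIrrCharacter_linear a).isGeneralized.sub (isIrrCharacter_linear (a * lam)).isGeneralized

theorem psiF_isGeneralized (a lam : S.K →* ℂˣ) : IsGeneralizedCharacter G (S.psiF a lam) := by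
  haveI := Fintype.ofFinite S.K
  exact isGeneralizedCharacter_indFun S.K (S.tf_isGeneralized a lam)

theorem exists_m (a lam : S.K →* ℂˣ) (χ : IrrCharacter G) :
    ∃ n : ℤ, classInner (S.psiF a lam) (χ : G → ℂ) = n :=
  (S.psiF_isGeneralized a lam).exists_int_classInner χ.2.isGeneralized

/-- The multiplicities. -/
noncomputable def m (a lam : S.K →* ℂˣ) (χ : IrrCharacter G) : ℤ := (S.exists_m a lam χ).choose

theorem m_spec (a lam : S.K →* ℂˣ) (χ : IrrCharacter G) :
    classInner (S.psiF a lam) (χ : G → ℂ) = S.m a lam χ := (S.exists_m a lam χ).choose_spec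

theorem flat_one : IsFlat S 1 := fun _ _ => rfl

theorem flat_nu : IsFlat S S.nu := fun _ hk => S.nu_Tsub hk

variable {S}

theorem tf_inV {a lam : S.K →* ℂˣ} (h : IsTor S lam) {k : S.K} (hk : S.InV (k : G)) :
    S.tf a lam k = 0 := by
  rw [tf, h.inV k hk]; simp

theorem flat_eq {a a' : S.K →* ℂˣ} (ha : IsFlat S a) (ha' : IsFlat S a')
    (h : ∀ k : S.K, S.InV (k : G) → a k = a' k) : a = a' := MonoidHom.ext fun k => by
  obtain ⟨v, s, hv, hs, rfl⟩ := S.exists_factor k
  rw [map_mul, map_mul, ha s hs, ha' s hs, h v hv]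

theorem flat_act {a : S.K →* ℂˣ} (ha : IsFlat S a) {g : G} (hg : g ∈ S.Nm) :
    IsFlat S (a.comp (cj hg)) := fun _ hk => ha _ (conj_Tsub hg hk)

theorem flat_ne_mul {a a' lam : S.K →* ℂˣ} (ha : IsFlat S a) (ha' : IsFlat S a')
    (h : IsTor S lam) : a' ≠ a * lam := fun e => by
  obtain ⟨s, hs, hne⟩ := h.exists_ne
  refine hne ?_
  have h' := DFunLike.congr_fun e s
  rw [MonoidHom.mul_apply, ha s hs, ha' s hs, one_mul] at h'
  exact h'.symm

open Classical in
theorem inner_hom [Fintype S.K] (f g : S.K →* ℂˣ) :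
    classInner (fun k => (f k : ℂ)) (fun k => (g k : ℂ)) = if f = g then 1 else 0 := by
  split_ifs with h
  · subst h; exact classInner_irr_self (isIrrCharacter_linear f)
  · exact classInner_irr_ne (isIrrCharacter_linear f) (isIrrCharacter_linear g) fun e =>
      h (MonoidHom.ext fun k => Units.ext (congrFun e k))

open Classical in
theorem inner_tf [Fintype S.K] {a a' lam lam' : S.K →* ℂˣ} (ha : IsFlat S a) (ha' : IsFlat S a')
    (h : IsTor S lam) (h' : IsTor S lam') :
    classInner (S.tf a lam) (S.tf a' lam') =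
      if a = a' then (if lam = lam' then 2 else 1) else 0 := by
  have e : ∀ b l : S.K →* ℂˣ, S.tf b l = (fun k => (b k : ℂ)) - fun k => ((b * l) k : ℂ) :=
    fun b l => funext fun k => by simp [tf, mul_sub]
  rw [e, e, classInner_sub_left, classInner_sub_right, classInner_sub_right]
  simp only [inner_hom, if_neg (flat_ne_mul ha' ha h'), if_neg (flat_ne_mul ha ha' h).symm,
    sub_zero, zero_sub, sub_neg_eq_add]
  have hiff : a * lam = a' * lam' ↔ a = a' ∧ lam = lam' := by
    refine ⟨fun e => ?_, fun ⟨e1, e2⟩ => by rw [e1, e2]⟩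
    have ea : a = a' := flat_eq ha ha' fun k hk => by
      have := DFunLike.congr_fun e k
      rwa [MonoidHom.mul_apply, MonoidHom.mul_apply, h.inV k hk, h'.inV k hk, mul_one,
        mul_one] at this
    subst ea
    exact ⟨rfl, mul_left_cancel e⟩
  simp only [hiff]
  by_cases h1 : a = a' <;> by_cases h2 : lam = lam' <;> simp [h1, h2]
  all_goals norm_num

theorem conj_K_inv {x : G} (hx : x ∈ S.K) : S.φ S.D.i * x * (S.φ S.D.i)⁻¹ = x⁻¹ := by
  obtain ⟨-, hit, hiz, hiτ⟩ := S.ι_facts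
  obtain ⟨v, hv, τ, hτ, rfl⟩ := S.exists_mul_of_mem_K hx
  have hiv : S.φ S.D.i * v * (S.φ S.D.i)⁻¹ = v := by
    rcases hv with rfl | rfl | rfl | rfl
    · group
    · exact hit
    · exact hiz
    · rw [conj_mul', hit, hiz]
  rw [conj_mul', hiv, hiτ τ hτ, mul_inv_rev, inv_eq_of_mul_eq_one_right hv.sq]
  exact S.K_comm hv.mem_K (inv_mem (S.Tsub_le hτ))

theorem not_inV_iff (k : S.K) : ¬ S.InV (k : G) ↔ (k : G) * k ≠ 1 := by
  rw [S.inV_iff, not_and]
  exact ⟨fun h => h k.2, fun h _ => h⟩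

variable (R : Rot S) [IsSimpleGroup G] (hna : ¬ IsMulCommutative G) (hR : ¬ R.Triv)
include R hna hR

/-- The induced function on the torus. -/
theorem Rot.indFun_K [Fintype S.K] {g : S.K → ℂ} {k : S.K} (hk : ¬ S.InV (k : G)) :
    indFun S.K g k = ∑ p : Fin 3 × Bool, g (cj (R.rep_mem p) k) := by
  classical
  set e : (Fin 3 × Bool) × S.K → G := fun x => S.rep R.ρ x.1 * x.2 with he
  have hinj : Function.Injective e := by
    rintro ⟨p, a⟩ ⟨p', a'⟩ h
    obtain ⟨h1, h2⟩ := S.rep_injective R.mem R.cube R.rt R.rz a.2 a'.2 h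
    exact Prod.ext h1 (Subtype.ext h2)
  rw [indFun, ← Fintype.sum_equiv (Equiv.inv G) (fun y => extendByZero S.K g (y * k * y⁻¹))
    (fun x => extendByZero S.K g (x⁻¹ * k * x)) fun y => by simp]
  rw [← Finset.sum_subset (Finset.subset_univ (Finset.univ.image e)) fun y _ hy => ?_,
    Finset.sum_image fun a _ b _ h => hinj h, Fintype.sum_prod_type, Finset.mul_sum]
  · refine Finset.sum_congr rfl fun p _ => ?_
    have : ∀ a : S.K, extendByZero S.K g (e (p, a) * k * (e (p, a))⁻¹) =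
        g (cj (R.rep_mem p) k) := fun a => by
      rw [← extendByZero_coe S.K g (cj (R.rep_mem p) k), cj_apply]
      congr 1
      simp only [he]
      rw [show S.rep R.ρ p * (a : G) * k * (S.rep R.ρ p * a)⁻¹ =
        S.rep R.ρ p * ((a : G) * k * (a : G)⁻¹) * (S.rep R.ρ p)⁻¹ by group,
        mul_inv_eq_iff_eq_mul.mpr (S.K_comm a.2 k.2)]
    rw [Finset.sum_congr rfl fun a _ => this a, Finset.sum_const, Finset.card_univ, nsmul_eq_mul,
      ← mul_assoc, ← Nat.card_eq_fintype_card,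
      inv_mul_cancel₀ (Nat.cast_ne_zero.mpr Nat.card_pos.ne'), one_mul]
  · refine extendByZero_of_notMem _ _ fun hm => hy ?_
    obtain ⟨p, a, ha, rfl⟩ :=
      R.exists_rep (R.mem_Nm_of_fused hna hR k.2 ((not_inV_iff k).1 hk) hm)
    exact Finset.mem_image.2 ⟨(p, ⟨a, ha⟩), Finset.mem_univ _, rfl⟩

open Classical in
theorem Rot.inner_psiF [Fintype S.K] {a a' lam lam' : S.K →* ℂˣ} (ha : IsFlat S a)
    (ha' : IsFlat S a') (h : IsTor S lam) (h' : IsTor S lam') :
    classInner (S.psiF a lam) (S.psiF a' lam') =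
      ∑ p : Fin 3 × Bool, if a = R.act p a' then (if lam = R.act p lam' then 2 else 1) else 0 := by
  rw [psiF, classInner_indFun S.K _ (S.psiF_isGeneralized a' lam').isClassFunction,
    ← Finset.sum_congr rfl fun p _ =>
      inner_tf (a' := R.act p a') (lam' := R.act p lam') ha (flat_act ha' _) h (R.act_tor p h')]
  simp only [classInner]
  rw [← Finset.mul_sum, Finset.sum_comm]
  congr 1
  refine Finset.sum_congr rfl fun k _ => ?_
  by_cases hk : S.InV (k : G)
  · simp [tf_inV h hk]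
  rw [psiF, R.indFun_K hna hR hk, map_sum, Finset.mul_sum]
  rfl

open Classical in
theorem Rot.inner_psi_psi [Fintype S.K] {lam lam' : S.K →* ℂˣ} (h : IsTor S lam)
    (h' : IsTor S lam') :
    classInner (S.psiF 1 lam) (S.psiF 1 lam') =
      6 + ((Finset.univ.filter fun p : Fin 3 × Bool => lam = R.act p lam').card : ℂ) := by
  rw [R.inner_psiF hna hR S.flat_one S.flat_one h h']
  have e : ∀ p, R.act p (1 : S.K →* ℂˣ) = 1 := fun p => MonoidHom.one_comp _
  simp only [e, if_true]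
  rw [← Finset.sum_boole, show (6 : ℂ) = ∑ _p : Fin 3 × Bool, (1 : ℂ) by simp,
    ← Finset.sum_add_distrib]
  exact Finset.sum_congr rfl fun p _ => by split_ifs <;> norm_num

theorem Rot.inner_psi_psi' [Fintype S.K] {lam lam' : S.K →* ℂˣ} (h : IsTor S lam)
    (h' : IsTor S lam') : classInner (S.psiF 1 lam) (S.psiF S.nu lam') = 0 := by
  classical
  rw [R.inner_psiF hna hR S.flat_one S.flat_nu h h']
  refine Finset.sum_eq_zero fun p _ => if_neg fun e => ?_
  obtain ⟨k, hk⟩ := (cj_bijective (R.rep_mem p)).2 ⟨S.t, S.t_mem_K⟩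
  have h1 := congrArg Units.val (DFunLike.congr_fun e k)
  rw [R.act_apply, hk, S.nu_t, MonoidHom.one_apply, Units.val_one] at h1
  norm_num at h1

open Classical in
theorem Rot.inner_psi'_psi' [Fintype S.K] {lam lam' : S.K →* ℂˣ} (h : IsTor S lam)
    (h' : IsTor S lam') :
    classInner (S.psiF S.nu lam) (S.psiF S.nu lam') =
      2 + (if lam = lam' then 1 else 0) + (if lam = lam'⁻¹ then 1 else 0) := by
  rw [R.inner_psiF hna hR S.flat_nu S.flat_nu h h']
  simp only [@eq_comm _ S.nu, R.nu_act_eq]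
  rw [Fintype.sum_prod_type, Fin.sum_univ_three]
  simp only [Fin.isValue, Fin.reduceEq, if_true, if_false, Fintype.sum_bool,
    (R.act_lam_zero h').1, (R.act_lam_zero h').2, add_zero]
  split_ifs <;> norm_num

theorem Rot.pair_psiF [Fintype S.K] {a lam : S.K →* ℂˣ} (h : IsTor S lam) :
    ((S.C).index : ℂ) * ∑ χ : IrrCharacter G,
        (S.m a lam χ : ℂ) * ((χ : G → ℂ) S.t ^ 2 / (χ : G → ℂ) 1) =
      (S.D.Q : ℂ) * (S.D.Q - 1) * (S.D.Q + 1) * S.D.σ * ∑ k : S.K, S.tf a lam k := by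
  classical
  set pc : G → ℂ := fun g =>
    ((involFinset G).filter fun x => x * g ∈ involFinset G).card with hpc
  have hpcF : IsClassFunction G pc := by
    intro g k
    simp only [hpc, Nat.cast_inj]
    refine Finset.card_nbij' (fun x => k⁻¹ * x * k) (fun x => k * x * k⁻¹) ?_ ?_ ?_ ?_
    · intro x hx
      simp only [Finset.mem_coe, Finset.mem_filter] at hx ⊢
      refine ⟨by simpa using conj_mem_involFinset k⁻¹ hx.1, ?_⟩
      have := conj_mem_involFinset k⁻¹ hx.2
      rwa [show k⁻¹ * (x * (k * g * k⁻¹)) * (k⁻¹)⁻¹ = k⁻¹ * x * k * g by group] at this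
    · intro x hx
      simp only [Finset.mem_coe, Finset.mem_filter] at hx ⊢
      refine ⟨conj_mem_involFinset k hx.1, ?_⟩
      have := conj_mem_involFinset k hx.2
      rwa [show k * (x * g) * k⁻¹ = k * x * k⁻¹ * (k * g * k⁻¹) by group] at this
    · intro x _; simp [mul_assoc]
    · intro x _; simp [mul_assoc]
  set F := S.psiF a lam with hF
  have hsum : ∑ x ∈ involFinset G, ∑ y ∈ involFinset G, F (x * y) =
      ∑ g : G, pc g * F g := by
    have e : ∀ x ∈ involFinset G, ∑ y ∈ involFinset G, F (x * y) =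
        ∑ g : G, if x * g ∈ involFinset G then F g else 0 := by
      intro x hx
      rw [← Finset.sum_filter]
      have hxx := (mem_involFinset.1 hx).2
      refine Finset.sum_nbij' (fun y => x * y) (fun g => x * g) ?_ ?_ ?_ ?_ fun y _ => rfl
      · intro y hy
        simp only [Finset.mem_filter, Finset.mem_univ, true_and]
        rw [← mul_assoc, hxx, one_mul]; exact hy
      · intro g hg
        exact (Finset.mem_filter.1 hg).2
      · intro y _; simp [← mul_assoc, hxx]
      · intro g _; simp [← mul_assoc, hxx]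
    rw [Finset.sum_congr rfl e, Finset.sum_comm]
    refine Finset.sum_congr rfl fun g _ => ?_
    rw [← Finset.sum_filter, Finset.sum_const, nsmul_eq_mul]
  have hpcK : ∀ k : S.K, S.tf a lam k * pc k = S.tf a lam k * (4 * S.D.T) := by
    intro k
    by_cases hk : S.InV (k : G)
    · simp [tf_inV h hk]
    congr 1
    rw [← S.card_K', ← Finset.card_univ]
    simp only [hpc, Nat.cast_inj]
    have hk2 := (not_inV_iff k).1 hk
    obtain ⟨hii, -, -, -⟩ := S.ι_facts
    set ι := S.φ S.D.i with hι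
    have hinv : ∀ y ∈ S.K, y * ι ∈ involFinset G := fun y hy => by
      refine mem_involFinset.2 ⟨fun e => S.ι_not_mem_K
        (by rw [← hι, eq_inv_of_mul_eq_one_right e]; exact inv_mem hy), ?_⟩
      rw [show y * ι * (y * ι) = y * (ι * y * ι⁻¹) * (ι * ι) by group, conj_K_inv hy, hii]
      group
    have hki : ∀ y : G, y * ι * (k : G) = y * (k : G)⁻¹ * ι := fun y => by
      rw [← conj_K_inv k.2, ← hι]; group
    symm
    refine Finset.card_nbij (fun y => (y : G) * ι) ?_ ?_ ?_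
    · intro y _
      simp only [Finset.mem_coe, Finset.mem_filter]
      exact ⟨hinv y y.2, by rw [hki]; exact hinv _ (mul_mem y.2 (inv_mem k.2))⟩
    · intro y _ y' _ e
      exact Subtype.ext (mul_right_cancel e)
    · intro x hx
      obtain ⟨hx1, hx2⟩ := Finset.mem_filter.1 hx
      have hxx := (mem_involFinset.1 hx1).2
      have hxk := (mem_involFinset.1 hx2).2
      have hi : x * (k : G) * x⁻¹ = (k : G)⁻¹ := by
        rw [inv_eq_of_mul_eq_one_right hxx]
        refine eq_inv_of_mul_eq_one_left ?_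
        rwa [mul_assoc]
      refine ⟨⟨x * ι, R.inverter hna hR k.2 hk2 hxx hi⟩, Finset.mem_univ _, ?_⟩
      show x * ι * ι = x
      rw [mul_assoc, hii, mul_one]
  have h1 := sum_invol_pair_eq (S.psiF_isGeneralized a lam).isClassFunction
  rw [hsum] at h1
  have hcl : ∀ χ : IrrCharacter G,
      ∑ x ∈ involFinset G, (χ : G → ℂ) x = ((S.C).index : ℂ) * (χ : G → ℂ) S.t := fun χ => by
    have hs : involFinset G = classFinset S.t := by
      ext x
      rw [mem_involFinset, mem_classFinset]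
      constructor
      · rintro ⟨h1, h2⟩
        obtain ⟨g, hg⟩ := S.exists_conj_t hna h2 h1
        exact isConj_iff.2 ⟨g, hg⟩
      · intro h
        obtain ⟨g, rfl⟩ := isConj_iff.1 h
        exact mem_involFinset.1 (conj_mem_involFinset g (mem_involFinset.2 ⟨S.t_ne, S.t_sq⟩))
    rw [hs, Finset.sum_congr rfl fun x hx => ?_, Finset.sum_const, card_classFinset, nsmul_eq_mul]
    obtain ⟨g, rfl⟩ := isConj_iff.1 (mem_classFinset.1 hx)
    exact χ.2.isClassFunction _ _
  simp only [S.m_spec, hcl] at h1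
  have h2 := classInner_indFun S.K (S.tf a lam) hpcF
  have hconj : ∀ g, conj (pc g) = pc g := fun g => Complex.conj_natCast _
  simp only [classInner, hconj, Finset.sum_congr rfl fun k _ => hpcK k] at h2
  rw [← Finset.sum_mul] at h2
  rw [show ∑ g, pc g * F g = ∑ g, indFun S.K (S.tf a lam) g * pc g from
    Finset.sum_congr rfl fun g _ => mul_comm _ _] at h1
  rw [inv_mul_eq_iff_eq_mul₀ Char.card_cast_ne_zero] at h2
  rw [h2, Nat.card_eq_fintype_card (α := S.K), S.card_K'] at h1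
  have hG : (Nat.card G : ℂ) =
      ((S.C).index : ℂ) * ((S.D.Q : ℂ) * (S.D.Q - 1) * (S.D.Q + 1) * S.D.σ) := by
    rw [S.card_G]
    have h1 : 1 ≤ S.D.q * S.D.q := Nat.one_le_iff_ne_zero.2 (mul_ne_zero S.D.q_ne S.D.q_ne)
    have hq : (S.D.q : ℂ) = S.D.σ * S.D.Q := by exact_mod_cast S.D.q_eq_σQ
    have hs := S.D.σC_sq
    push_cast [Nat.cast_sub h1]
    rw [hq]
    linear_combination ((S.C).index : ℂ) * (S.D.σ : ℂ) * (S.D.Q : ℂ) ^ 3 * hs
  have hN : ((S.C).index : ℂ) ≠ 0 := Nat.cast_ne_zero.2 index_ne_zero_of_finite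
  have hT := S.T_ne
  refine mul_left_cancel₀ hN ?_
  rw [show ((S.C).index : ℂ) * ((S.D.Q : ℂ) * (S.D.Q - 1) * (S.D.Q + 1) * S.D.σ *
      ∑ k : S.K, S.tf a lam k) = (Nat.card G : ℂ) * ((4 * (S.D.T : ℂ))⁻¹ *
        ((∑ k : S.K, S.tf a lam k) * (4 * S.D.T))) by
    rw [hG]; field_simp, h1, Finset.mul_sum, Finset.mul_sum]
  exact Finset.sum_congr rfl fun χ _ => by ring

omit hna hR R

theorem psiF_invol {a lam : S.K →* ℂˣ} (h : IsTor S lam) {x : G} (hx : x * x = 1) :
    S.psiF a lam x = 0 := by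
  classical
  exact indFun_invol_eq_zero S.K (fun k hk => tf_inV h (S.inV_iff.mpr ⟨k.2, hk⟩)) hx

theorem psiF_eq_sum (a lam : S.K →* ℂˣ) (g : G) :
    S.psiF a lam g = ∑ χ : IrrCharacter G, (S.m a lam χ : ℂ) * (χ : G → ℂ) g := by
  conv_lhs => rw [eq_sum_classInner (S.psiF_isGeneralized a lam).isClassFunction]
  simp [Finset.sum_apply, S.m_spec]

theorem inner_psiF_eq_sum (a lam a' lam' : S.K →* ℂˣ) :
    classInner (S.psiF a lam) (S.psiF a' lam') =
      ((∑ χ : IrrCharacter G, S.m a lam χ * S.m a' lam' χ : ℤ) : ℂ) := by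
  rw [classInner_eq_sum (S.psiF_isGeneralized a lam).isClassFunction]
  simp [S.m_spec]

/-- The multiplicity as a sum over the torus. -/
theorem m_eq_sum [Fintype S.K] (a lam : S.K →* ℂˣ) (χ : IrrCharacter G) :
    (4 * (S.D.T : ℂ)) * (S.m a lam χ : ℂ) =
      ∑ k : S.K, S.tf a lam k * conj ((χ : G → ℂ) k) := by
  rw [← S.m_spec, psiF, classInner_indFun S.K _ χ.2.isClassFunction, classInner,
    Nat.card_eq_fintype_card, S.card_K', ← mul_assoc,
    mul_inv_cancel₀ (mul_ne_zero (by norm_num : (4 : ℂ) ≠ 0) S.T_ne), one_mul]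

theorem sum_tf [Fintype S.K] {lam : S.K →* ℂˣ} (h : IsTor S lam) :
    ∑ k : S.K, S.tf 1 lam k = 4 * S.D.T ∧ ∑ k : S.K, S.tf S.nu lam k = 0 := by
  classical
  have hnu : S.nu ≠ 1 := fun e => by
    have h1 := S.nu_t
    rw [e, MonoidHom.one_apply, Units.val_one] at h1
    norm_num at h1
  have hnl : S.nu * lam ≠ 1 := (flat_ne_mul S.flat_nu S.flat_one h).symm
  constructor
  · simp [tf, Finset.sum_sub_distrib, (S.sum_lam h).1, ← Nat.card_eq_fintype_card,
      S.card_K]
  · simp only [tf, mul_sub, mul_one, ← Units.val_mul, ← MonoidHom.mul_apply,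
      Finset.sum_sub_distrib, sum_hom_eq, if_neg hnu, if_neg hnl, sub_zero]

open Classical in
theorem sum_tf_Tsub [Fintype S.K] {a lam : S.K →* ℂˣ} (ha : IsFlat S a) (h : IsTor S lam) :
    ∑ k : S.K, (if (k : G) ∈ S.Tsub then S.tf a lam k else 0) = S.D.T := by
  rw [← sub_zero (S.D.T : ℂ), ← S.sum_ite_Tsub, ← (S.sum_lam h).2, ← Finset.sum_sub_distrib]
  refine Finset.sum_congr rfl fun k _ => ?_
  by_cases hk : (k : G) ∈ S.Tsub
  · simp [if_pos hk, tf, ha k hk]
  · simp [if_neg hk]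

include R

/-- The inner products with the columns. -/
theorem Rot.inner_W {lam : S.K →* ℂˣ} (h : IsTor S lam) (j : Fin 3) :
    ∑ χ : IrrCharacter G, S.m 1 lam χ * S.d j χ = ![0, -3, -3] j ∧
      ∑ χ : IrrCharacter G, S.m S.nu lam χ * S.d j χ = ![0, 1, 1] j := by
  classical
  haveI := Fintype.ofFinite S.K
  set F : G → ℂ := fun g => conj (S.W j g) with hF
  have hFc : IsClassFunction G F := fun g x => by
    simp only [hF, (S.W_isGeneralized j).isClassFunction g x]
  have hsec : ∀ s ∈ zpowers S.D.y, s ≠ 1 → F (S.t * S.φ s) = ![(0 : ℂ), -4, -4] j := by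
    intro s hs hs1
    simp only [hF, S.W_sect j (S.D.odd_of_pow_T (S.D.pow_T_of_mem hs)), S.D.Phi_torus hs hs1]
    fin_cases j <;> simp [map_ofNat] <;> norm_num
  have key : ∀ a : S.K →* ℂˣ, IsFlat S a →
      ((∑ χ : IrrCharacter G, S.m a lam χ * S.d j χ : ℤ) : ℂ) * (4 * S.D.T) =
        ![(0 : ℂ), -4, -4] j * (∑ k : S.K, S.tf a lam k - S.D.T) := by
    intro a ha
    have e : ((∑ χ : IrrCharacter G, S.m a lam χ * S.d j χ : ℤ) : ℂ) =
        classInner (S.psiF a lam) (S.W j) := by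
      rw [classInner_eq_sum (S.psiF_isGeneralized a lam).isClassFunction]
      simp [S.m_spec, S.d_spec]
    rw [e, psiF, classInner_indFun S.K _ (S.W_isGeneralized j).isClassFunction, classInner,
      Nat.card_eq_fintype_card, S.card_K', mul_comm, ← mul_assoc,
      mul_inv_cancel₀ (mul_ne_zero (by norm_num : (4 : ℂ) ≠ 0) S.T_ne), one_mul,
      R.sum_const hFc hsec (g := S.tf a lam) fun k hk => tf_inV h hk, sum_tf_Tsub ha h]
    rw [Finset.sum_eq_zero fun k _ => ?_, zero_add]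
    split_ifs with hk
    · simp [hF, S.W_odd j (fun h2 => by
        have := h2.trans (orderOf_dvd_of_pow_eq_one (S.Tsub_pow hk))
        have := S.D.T_facts.1
        omega)]
    · rfl
  have hT : (4 * (S.D.T : ℂ)) ≠ 0 := mul_ne_zero (by norm_num : (4 : ℂ) ≠ 0) S.T_ne
  constructor
  · refine Int.cast_injective (α := ℂ) (mul_right_cancel₀ hT ?_)
    rw [key 1 S.flat_one, (sum_tf h).1]
    fin_cases j <;> simp <;> ring
  · refine Int.cast_injective (α := ℂ) (mul_right_cancel₀ hT ?_)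
    rw [key S.nu S.flat_nu, (sum_tf h).2]
    fin_cases j <;> simp

/-- `ψ - ψ'` against a character that is constant on the section of `t`. -/
theorem Rot.m_sub {lam : S.K →* ℂˣ} (h : IsTor S lam) {χ : IrrCharacter G}
    (hχ : ∃ j, S.d j χ ≠ 0) :
    S.m 1 lam χ - S.m S.nu lam χ = S.d 0 χ - S.d 1 χ - S.d 2 χ := by
  classical
  haveI := Fintype.ofFinite S.K
  set F : G → ℂ := fun g => conj ((χ : G → ℂ) g) with hF
  have hFc : IsClassFunction G F := fun g x => by simp only [hF, χ.2.isClassFunction g x]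
  set c : ℂ := ((S.d 0 χ - S.d 1 χ - S.d 2 χ : ℤ) : ℂ) with hc
  have hsec : ∀ s ∈ zpowers S.D.y, s ≠ 1 → F (S.t * S.φ s) = c := fun s hs hs1 => by
    simp only [hF, S.value_torus hχ hs hs1, hc]
    simp
  have hg : ∀ k : S.K, S.InV (k : G) → S.tf 1 lam k - S.tf S.nu lam k = 0 := fun k hk => by
    simp [tf_inV h hk]
  refine Int.cast_injective (α := ℂ) (mul_left_cancel₀ (mul_ne_zero (by norm_num : (4 : ℂ) ≠ 0) S.T_ne :
    (4 * (S.D.T : ℂ)) ≠ 0) ?_)
  rw [Int.cast_sub, mul_sub, m_eq_sum, m_eq_sum, ← Finset.sum_sub_distrib,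
    Finset.sum_congr rfl fun k _ => (sub_mul (S.tf 1 lam k) (S.tf S.nu lam k) (F k)).symm,
    R.sum_const hFc hsec (g := fun k => S.tf 1 lam k - S.tf S.nu lam k) hg]
  rw [Finset.sum_eq_zero (s := Finset.univ) fun k _ => ?_, zero_add, Finset.sum_sub_distrib,
    (sum_tf h).1, (sum_tf h).2, Finset.sum_eq_zero (s := Finset.univ) fun k _ => ?_, hc]
  · ring
  · split_ifs with hk
    · simp [tf, S.flat_nu k hk]
    · rfl
  · split_ifs with hk
    · simp [tf, S.flat_nu k hk]
    · rfl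

/-- The values at the four-group of a class function. -/
theorem Rot.sum_inV [Fintype S.K] [DecidablePred fun k : S.K => S.InV (k : G)] {F : G → ℂ}
    (hF : IsClassFunction G F) (g : S.K → ℂ) :
    ∑ k : S.K, (if S.InV (k : G) then g k * F k else 0) =
      g 1 * F 1 + (g ⟨S.t, S.t_mem_K⟩ + g ⟨S.φ S.D.z, S.φz_mem_K⟩ +
        g ⟨S.t * S.φ S.D.z, mul_mem S.t_mem_K S.φz_mem_K⟩) * F S.t := by
  classical
  obtain ⟨h1, h2, h3, h4, h5, h6⟩ := S.tz_facts
  set s : Finset S.K := {1, ⟨S.t, S.t_mem_K⟩, ⟨S.φ S.D.z, S.φz_mem_K⟩,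
    ⟨S.t * S.φ S.D.z, mul_mem S.t_mem_K S.φz_mem_K⟩} with hs
  have e : Finset.univ.filter (fun k : S.K => S.InV (k : G)) = s := by
    ext k
    rw [Finset.mem_filter, and_iff_right (Finset.mem_univ k)]
    simp only [hs, Finset.mem_insert,
      Finset.mem_singleton, InV, Subtype.ext_iff, OneMemClass.coe_one]
  rw [← Finset.sum_filter, e, hs]
  rw [Finset.sum_insert (by simp [Subtype.ext_iff, h1.symm, h2.symm, h3.symm]),
    Finset.sum_insert (by simp [Subtype.ext_iff, h4.symm, h5.symm]),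
    Finset.sum_insert (by simp [Subtype.ext_iff, h6.symm]), Finset.sum_singleton]
  have e1 : F (S.φ S.D.z) = F S.t := by rw [← R.rt, hF]
  have e2 : F (S.t * S.φ S.D.z) = F S.t := by
    rw [← R.rz, hF, e1]
  simp only [OneMemClass.coe_one, e1, e2]
  ring

/-- The congruences modulo the order of `y`. -/
theorem Rot.congr_mod_T {lam : S.K →* ℂˣ} (h : IsTor S lam)
    (hf : ∀ k : S.K, lam k = 1 → S.InV (k : G)) (χ : IrrCharacter G) {a v : ℤ}
    (ha : (χ : G → ℂ) 1 = a) (hv : (χ : G → ℂ) S.t = v) :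
    (S.D.T : ℤ) ∣ (a - v + 4 * ∑ i ∈ Finset.range S.D.T, S.m S.nu (lam ^ i) χ) ∧
      (S.D.T : ℤ) ∣ (v + ∑ i ∈ Finset.range S.D.T,
        (S.m 1 (lam ^ i) χ - S.m S.nu (lam ^ i) χ)) := by
  classical
  haveI := Fintype.ofFinite S.K
  set F : G → ℂ := fun g => conj ((χ : G → ℂ) g) with hF
  have hFc : IsClassFunction G F := fun g x => by simp only [hF, χ.2.isClassFunction g x]
  have hF1 : F 1 = a := by simp [hF, ha]
  have hFt : F S.t = v := by simp [hF, hv]
  have hres : IsGeneralizedCharacter S.K (fun k : S.K => (χ : G → ℂ) k) :=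
    (χ.2.isCharacter.comp S.K.subtype).isGeneralized
  have hint : ∀ f : S.K →* ℂˣ, ∃ n : ℤ,
      ∑ k : S.K, (f k : ℂ) * F k = (4 * (S.D.T : ℂ)) * n := by
    intro f
    obtain ⟨n, hn⟩ := (isIrrCharacter_linear f).isGeneralized.exists_int_classInner hres
    refine ⟨n, ?_⟩
    rw [← hn, classInner, Nat.card_eq_fintype_card, S.card_K', ← mul_assoc,
      mul_inv_cancel₀ (mul_ne_zero (by norm_num : (4 : ℂ) ≠ 0) S.T_ne), one_mul]
  have hgeo : ∀ f : S.K →* ℂˣ, ∀ k : S.K,
      ∑ i ∈ Finset.range S.D.T, S.tf f (lam ^ i) k =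
        (S.D.T : ℂ) * ((f k : ℂ) - if S.InV (k : G) then (f k : ℂ) else 0) := by
    intro f k
    simp only [tf, MonoidHom.pow_apply, Units.val_pow_eq_pow_val, mul_sub, mul_one,
      Finset.sum_sub_distrib, Finset.sum_const, Finset.card_range, nsmul_eq_mul, ← Finset.mul_sum]
    congr 1
    by_cases hk : S.InV (k : G)
    · rw [h.inV k hk, if_pos hk]
      simp [mul_comm]
    · rw [if_neg hk, mul_zero]
      have hw1 : (lam k : ℂ) ≠ 1 := fun e => hk (hf k (Units.ext e))
      have hwT : (lam k : ℂ) ^ S.D.T = 1 := by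
        rw [← Units.val_pow_eq_pow_val, ← map_pow, h.inV _ (S.inV_iff.mpr ⟨(k ^ S.D.T).2, ?_⟩),
          Units.val_one]
        rw [SubmonoidClass.coe_pow,
          ← (show Commute (k : G) k from Commute.refl _).mul_pow, S.Tsub_pow (S.sq_mem_Tsub k.2)]
      rw [geom_sum_eq hw1, hwT]
      simp
  have hsum : ∀ f : S.K →* ℂˣ,
      4 * ((∑ i ∈ Finset.range S.D.T, S.m f (lam ^ i) χ : ℤ) : ℂ) =
        ∑ k : S.K, (f k : ℂ) * F k - ((f 1 : ℂ) * F 1 + ((f ⟨S.t, S.t_mem_K⟩ : ℂ) +
          (f ⟨S.φ S.D.z, S.φz_mem_K⟩ : ℂ) +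
          (f ⟨S.t * S.φ S.D.z, mul_mem S.t_mem_K S.φz_mem_K⟩ : ℂ)) * F S.t) := by
    intro f
    refine mul_left_cancel₀ S.T_ne ?_
    rw [← R.sum_inV hFc fun k => (f k : ℂ), ← Finset.sum_sub_distrib, Finset.mul_sum,
      Int.cast_sum, Finset.mul_sum, Finset.mul_sum,
      Finset.sum_congr rfl fun i _ => show (S.D.T : ℂ) * (4 * (S.m f (lam ^ i) χ : ℂ)) =
        ∑ k : S.K, S.tf f (lam ^ i) k * F k by rw [← mul_assoc, mul_comm (S.D.T : ℂ), m_eq_sum],
      Finset.sum_comm]
    refine Finset.sum_congr rfl fun k _ => ?_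
    rw [← Finset.sum_mul, hgeo]
    split_ifs <;> ring
  obtain ⟨n, hn⟩ := hint S.nu
  obtain ⟨n₀, hn₀⟩ := hint 1
  have e1 := hsum S.nu
  have e0 := hsum 1
  rw [hn, map_one, Units.val_one, S.nu_t, S.nu_z, S.nu_tz, hF1, hFt] at e1
  rw [hn₀] at e0
  simp only [MonoidHom.one_apply, Units.val_one, hF1, hFt] at e0
  constructor
  · refine ⟨4 * n, Int.cast_injective (α := ℂ) ?_⟩
    push_cast at e1 ⊢
    linear_combination e1
  · refine ⟨n₀ - n, ?_⟩
    have : (4 * (v + ∑ i ∈ Finset.range S.D.T, (S.m 1 (lam ^ i) χ - S.m S.nu (lam ^ i) χ)) : ℤ) =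
        4 * ((S.D.T : ℤ) * (n₀ - n)) := Int.cast_injective (α := ℂ) (by
      push_cast [Finset.sum_sub_distrib] at e0 e1 ⊢
      linear_combination e0 - e1)
    omega

end Setup

end Cfsg.Lib.Walter8
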