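import Cfsg.Agent.Lib.Walter8.MovesBase

/-!
# Seven rows, `ψ'` meeting the rows only in the double row of the last two columns

The constituents outside the rows then form a star: a character `F` occurs in every `ψ'` and in
every `ψ`, which determines its degree and value at `t` modulo the order of `y`.
-/

set_option autoImplicit false
set_option linter.unusedSectionVars false
set_option linter.style.haveILetI false

namespace Cfsg.Lib.Walter8

open Subgroup Cfsg Cfsg.Lib.Char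
open scoped ComplexConjugate

universe u

/-- The square norm bounds the value at the centre of a star and at its leaves. -/
theorem norm_ge {ι : Type*} [DecidableEq ι] {O : Finset ι} {n : ℕ} (a : ι → ℤ) {F : ι} (hF : F ∈ O)
    (L : Fin n → ι) (hL : Function.Injective L) (hLO : ∀ i, L i ∈ O) (hLF : ∀ i, L i ≠ F)
    {v : ℤ} (hv : ∀ i, a (L i) * a (L i) = v) :
    a F * a F + (n : ℤ) * v ≤ ∑ χ ∈ O, a χ * a χ ∧
      ∀ E ∈ O, E ≠ F → (∀ i, L i ≠ E) →
        a F * a F + (n : ℤ) * v + a E * a E ≤ ∑ χ ∈ O, a χ * a χ := by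
  have hsum : ∑ χ ∈ insert F (Finset.univ.image L), a χ * a χ = a F * a F + (n : ℤ) * v := by
    rw [Finset.sum_insert (by simp [hLF]), Finset.sum_image fun x _ y _ h => hL h,
      Finset.sum_congr rfl fun i _ => hv i]
    simp
  have hsub : insert F (Finset.univ.image L) ⊆ O := by
    intro χ hχ
    simp only [Finset.mem_insert, Finset.mem_image, Finset.mem_univ, true_and] at hχ
    rcases hχ with rfl | ⟨i, rfl⟩
    exacts [hF, hLO i]
  refine ⟨hsum ▸ Finset.sum_le_sum_of_subset_of_nonneg hsub fun χ _ _ => mul_self_nonneg _,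
    fun E hE hEF hEL => ?_⟩
  have hn : E ∉ insert F (Finset.univ.image L) := by simp [hEF, hEL]
  refine le_trans (le_of_eq ?_) (Finset.sum_le_sum_of_subset_of_nonneg
    (Finset.insert_subset hE hsub) fun χ _ _ => mul_self_nonneg _)
  rw [Finset.sum_insert hn, hsum]
  ring

theorem mod_of_star {n : ℕ} (hn : 3 ≤ n) {α : ℤ} (h : α * α + (n : ℤ) * ((1 - α) * (1 - α)) ≤ 4) :
    α = 1 ∨ α = 0 := by
  have hn' : (3 : ℤ) ≤ n := by exact_mod_cast hn
  have h1 : 3 * ((1 - α) * (1 - α)) ≤ (n : ℤ) * ((1 - α) * (1 - α)) :=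
    mul_le_mul_of_nonneg_right hn' (mul_self_nonneg _)
  have h2 : α ≤ 1 := by nlinarith
  have h3 : 0 ≤ α := by nlinarith
  omega

namespace Setup

variable {G L : Type u} [Group G] [Group L] [Fintype G] [IsSimpleGroup G] {S : Setup G L}
  (Tb : Table S pat7) (R : Rot S) (hna : ¬ IsMulCommutative G) (hR : ¬ R.Triv)
include hna hR

/-- The centre of the star. -/
theorem Table.exists_centre {lam : S.K →* ℂˣ} (h : IsTor S lam)
    (hf : ∀ k : S.K, lam k = 1 → S.InV (k : G))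
    (hr : ∀ i, ¬ S.D.T ∣ i → ∀ k, Tb.mu S.nu (lam ^ i) k = ![0, 0, 0, 0, 0, 0, 1] k) :
    ∃ F ∈ Tb.out, ∃ f : ℤ, (f = 1 ∨ f = -1) ∧
      (∃ G' ∈ Tb.out, G' ≠ F ∧ (S.m S.nu lam G' = 1 ∨ S.m S.nu lam G' = -1) ∧
        ∀ χ ∈ Tb.out, χ ≠ F → χ ≠ G' → S.m S.nu lam χ = 0) ∧
      ∀ i < S.D.T, i ≠ 0 → S.m S.nu (lam ^ i) F = f ∧ S.m 1 (lam ^ i) F = f := by
  classical
  have hT7 := R.seven_le hR
  have hTodd := S.D.T_facts.1
  have hnd : ∀ i < S.D.T, i ≠ 0 → ¬ S.D.T ∣ i := fun i hi hi0 hd =>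
    absurd (Nat.le_of_dvd (by omega) hd) (by omega)
  have htor : ∀ i < S.D.T, i ≠ 0 → IsTor S (lam ^ i) := fun i hi hi0 =>
    h.pow hf (hnd i hi hi0)
  have hμμ : ∀ i j, ¬ S.D.T ∣ i → ¬ S.D.T ∣ j →
      ∑ k, Tb.mu S.nu (lam ^ i) k * Tb.mu S.nu (lam ^ j) k = 1 := fun i j hi hj => by
    simp only [hr i hi, hr j hj]
    decide
  -- norms and products outside the rows
  have hbb : ∀ i < S.D.T, i ≠ 0 →
      ∑ χ ∈ Tb.out, S.m S.nu (lam ^ i) χ * S.m S.nu (lam ^ i) χ = 2 := fun i hi hi0 => by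
    rw [(Tb.out_facts R hna hR (htor i hi hi0) sum_bval7).1,
      hμμ i i (hnd i hi hi0) (hnd i hi hi0)]
    norm_num
  have hab : ∀ i < S.D.T, i ≠ 0 → ∀ j < S.D.T, j ≠ 0 →
      ∑ χ ∈ Tb.out, S.m 1 (lam ^ i) χ * S.m S.nu (lam ^ j) χ = 1 := by
    intro i hi hi0 j hj hj0
    rw [Tb.out_inner 1 (lam ^ i) S.nu (lam ^ j) (c := 0)
      (by rw [R.inner_psi_psi' hna hR (htor i hi hi0) (htor j hj hj0), Int.cast_zero])]
    simp only [Tb.mu_one R (htor i hi hi0), hr i (hnd i hi hi0), hr j (hnd j hj hj0)]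
    decide
  have hne : ∀ i j, i < S.D.T → j < S.D.T → i ≠ j → lam ^ i ≠ lam ^ j := by
    intro i j hi hj hij e
    wlog hle : i ≤ j generalizing i j
    · exact this j i hj hi hij.symm e.symm (by omega)
    have e' : lam ^ (j - i) = 1 := by
      refine MonoidHom.ext fun k => ?_
      have h' := DFunLike.congr_fun e k
      rw [MonoidHom.pow_apply, MonoidHom.pow_apply, show j = (j - i) + i by omega, pow_add] at h'
      rw [MonoidHom.pow_apply, MonoidHom.one_apply]
      exact mul_eq_right.mp h'.symm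
    exact hnd (j - i) (by omega) (by omega) (lam_pow_eq_one h hf e')
  have hinv : ∀ i j, i < S.D.T → j < S.D.T → lam ^ i = (lam ^ j)⁻¹ → S.D.T ∣ i + j := by
    intro i j hi hj e
    refine lam_pow_eq_one h hf (MonoidHom.ext fun k => ?_)
    have h' := DFunLike.congr_fun e k
    rw [MonoidHom.inv_apply, MonoidHom.pow_apply, MonoidHom.pow_apply] at h'
    rw [MonoidHom.pow_apply, MonoidHom.one_apply, pow_add, h', inv_mul_cancel]
  have hinv' : ∀ i j, i < S.D.T → j < S.D.T → i + j = S.D.T → lam ^ i = (lam ^ j)⁻¹ := by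
    intro i j hi hj e
    refine MonoidHom.ext fun k => ?_
    rw [MonoidHom.inv_apply, MonoidHom.pow_apply, MonoidHom.pow_apply, eq_inv_iff_mul_eq_one,
      ← pow_add, e, ← map_pow]
    refine h.inV _ (S.inV_iff.mpr ⟨(k ^ S.D.T).2, ?_⟩)
    rw [SubmonoidClass.coe_pow, ← (show Commute (k : G) k from Commute.refl _).mul_pow,
      S.Tsub_pow (S.sq_mem_Tsub k.2)]
  set n := (S.D.T - 1) / 2 with hn
  have hn3 : 3 ≤ n := by omega
  set b : Fin n → IrrCharacter G → ℤ := fun i => S.m S.nu (lam ^ ((i : ℕ) + 1)) with hb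
  obtain ⟨F, hF, f, hf1, Lf, hLinj, hL⟩ := exists_star hn3 b
    (fun i => hbb _ (by omega) (by omega))
    (fun i j hij => by
      have hij' : (i : ℕ) ≠ j := fun e => hij (Fin.ext e)
      rw [Tb.out_inner _ _ _ _ (c := 2) ?_,
        hμμ _ _ (hnd _ (by omega) (by omega)) (hnd _ (by omega) (by omega))]
      · norm_num
      rw [R.inner_psi'_psi' hna hR (htor _ (by omega) (by omega)) (htor _ (by omega) (by omega)),
        if_neg (hne _ _ (by omega) (by omega) (by omega)), if_neg fun e => ?_]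
      · norm_num
      · have hd := hinv _ _ (by omega) (by omega) e
        exact absurd (Nat.le_of_dvd (by omega) hd) (by omega))
    (S.m 1 (lam ^ 1)) (fun i => hab 1 (by omega) (by omega) _ (by omega) (by omega))
  have hLO : ∀ i, Lf i ∈ Tb.out := fun i => (hL i).1
  have hLF : ∀ i, Lf i ≠ F := fun i => (hL i).2.1
  -- the products with the star
  have hprod : ∀ (i : Fin n) (g : IrrCharacter G → ℤ),
      ∑ χ ∈ Tb.out, g χ * b i χ = g F * f + g (Lf i) * b i (Lf i) := fun i g => by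
    obtain ⟨h1, h2, h3, -, h5⟩ := hL i
    have hs := sum_pair_vec (f := b i) g hF h1 h2.symm h5
    simp only [Int.cast_id] at hs
    rw [Finset.sum_congr rfl fun χ _ => mul_comm (g χ) (b i χ), hs, h3]
    ring
  have hleaf : ∀ j < S.D.T, j ≠ 0 → ∀ i : Fin n,
      S.m 1 (lam ^ j) (Lf i) * S.m 1 (lam ^ j) (Lf i) =
        (1 - S.m 1 (lam ^ j) F * f) * (1 - S.m 1 (lam ^ j) F * f) := by
    intro j hj hj0 i
    have e := hab j hj hj0 ((i : ℕ) + 1) (by omega) (by omega)
    rw [show S.m S.nu (lam ^ ((i : ℕ) + 1)) = b i from rfl, hprod] at e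
    have hl : b i (Lf i) * b i (Lf i) = 1 := by
      rcases (hL i).2.2.2.1 with e | e <;> rw [e] <;> norm_num
    have e' : 1 - S.m 1 (lam ^ j) F * f = S.m 1 (lam ^ j) (Lf i) * b i (Lf i) := by linarith
    rw [e']
    linear_combination (-(S.m 1 (lam ^ j) (Lf i) * S.m 1 (lam ^ j) (Lf i))) * hl
  have hnorm : ∀ j < S.D.T, j ≠ 0 →
      ∑ χ ∈ Tb.out, S.m 1 (lam ^ j) χ * S.m 1 (lam ^ j) χ =
        ((Finset.univ.filter fun p : Fin 3 × Bool => lam ^ j = R.act p (lam ^ j)).card : ℤ) + 1 := by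
    intro j hj hj0
    rw [(Tb.out_facts R hna hR (htor j hj hj0) sum_bval7).2.2.1,
      hμμ j j (hnd j hj hj0) (hnd j hj hj0)]
    ring
  have hαα : ∀ j, S.m 1 (lam ^ j) F * f * (S.m 1 (lam ^ j) F * f) =
      S.m 1 (lam ^ j) F * S.m 1 (lam ^ j) F := fun j => by
    rcases hf1 with e | e <;> rw [e] <;> ring
  have hα : ∀ j < S.D.T, j ≠ 0 →
      S.m 1 (lam ^ j) F * f = 1 ∨ S.m 1 (lam ^ j) F * f = 0 := by
    intro j hj hj0
    refine mod_of_star hn3 ?_
    have h1 := (norm_ge (S.m 1 (lam ^ j)) hF Lf hLinj hLO hLF (hleaf j hj hj0)).1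
    rw [hnorm j hj hj0] at h1
    have h2 := R.card_stab_le (htor j hj hj0)
    rw [hαα]
    omega
  have hf1' : ∀ k : S.K, (lam ^ 1) k = 1 → S.InV (k : G) := fun k hk => hf k (by
    rwa [MonoidHom.pow_apply, pow_one] at hk)
  have hα1 : S.m 1 (lam ^ 1) F * f = 1 := by
    refine (hα 1 (by omega) one_ne_zero).resolve_right fun e => ?_
    have h1 := (norm_ge (S.m 1 (lam ^ 1)) hF Lf hLinj hLO hLF (hleaf 1 (by omega) one_ne_zero)).1
    rw [hnorm 1 (by omega) one_ne_zero,
      R.card_stab_faithful hR (htor 1 (by omega) one_ne_zero) hf1', ← hαα, e] at h1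
    omega
  have hall : ∀ j < S.D.T, j ≠ 0 → S.m 1 (lam ^ j) F * f = 1 := by
    intro j hj hj0
    refine (hα j hj hj0).resolve_right fun e => ?_
    have hj1 : S.m 1 (lam ^ j) F = 0 := by
      rcases hf1 with h' | h' <;> rw [h'] at e <;> omega
    have hz : ∀ i, S.m 1 (lam ^ 1) (Lf i) = 0 := fun i => mul_self_eq_zero.1 (by
      rw [hleaf 1 (by omega) one_ne_zero i, hα1]; norm_num)
    have hin : (1 : ℤ) ≤ ∑ χ ∈ Tb.out, S.m 1 (lam ^ j) χ * S.m 1 (lam ^ 1) χ := by
      rw [Tb.out_inner 1 (lam ^ j) 1 (lam ^ 1)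
        (c := 6 + ((Finset.univ.filter fun p : Fin 3 × Bool =>
          lam ^ j = R.act p (lam ^ 1)).card : ℤ))
        (by rw [R.inner_psi_psi hna hR (htor j hj hj0) (htor 1 (by omega) one_ne_zero)]
            push_cast; rfl)]
      simp only [Tb.mu_one R (htor j hj hj0), Tb.mu_one R (htor 1 (by omega) one_ne_zero),
        hr j (hnd j hj hj0), hr 1 (hnd 1 (by omega) one_ne_zero)]
      rw [show ∑ k, ((![0, 0, 0, 0, 0, 0, 1] : Fin 7 → ℤ) k + bval pat7 k) *
        ((![0, 0, 0, 0, 0, 0, 1] : Fin 7 → ℤ) k + bval pat7 k) = 5 by decide]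
      omega
    obtain ⟨E, hE, hE0⟩ : ∃ E ∈ Tb.out, S.m 1 (lam ^ j) E * S.m 1 (lam ^ 1) E ≠ 0 := by
      by_contra hc
      push Not at hc
      rw [Finset.sum_eq_zero hc] at hin
      omega
    obtain ⟨hE1, hE2⟩ := mul_ne_zero_iff.1 hE0
    have h1 := (norm_ge (S.m 1 (lam ^ j)) hF Lf hLinj hLO hLF (hleaf j hj hj0)).2 E hE
      (fun e' => hE1 (e' ▸ hj1)) fun i e' => hE2 (e' ▸ hz i)
    rw [hnorm j hj hj0, e, hj1] at h1
    have hE' := mul_self_pos.2 hE1
    have hc3 := R.card_stab_le (htor j hj hj0)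
    -- only `T = 7` remains, where every character is faithful
    have hT : S.D.T = 7 := by omega
    have hfj : ∀ k : S.K, (lam ^ j) k = 1 → S.InV (k : G) := fun k hk => hf k (by
      rw [MonoidHom.pow_apply] at hk
      have h7 : lam k ^ 7 = 1 := by
        rw [← map_pow, ← hT]
        refine h.inV _ (S.inV_iff.mpr ⟨(k ^ S.D.T).2, ?_⟩)
        rw [SubmonoidClass.coe_pow, ← (show Commute (k : G) k from Commute.refl _).mul_pow,
          S.Tsub_pow (S.sq_mem_Tsub k.2)]
      have hg := pow_gcd_eq_one.mpr ⟨hk, h7⟩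
      rwa [show Nat.gcd j 7 = 1 from Nat.coprime_comm.mp
        ((Nat.Prime.coprime_iff_not_dvd (by norm_num)).mpr (by omega)), pow_one] at hg)
    rw [R.card_stab_faithful hR (htor j hj hj0) hfj] at h1
    omega
  -- the other vectors
  have hbF : ∀ j < S.D.T, j ≠ 0 → S.m S.nu (lam ^ j) F = f := by
    intro j hj hj0
    by_cases hjn : j ≤ n
    · have e := (hL ⟨j - 1, by omega⟩).2.2.1
      simp only [hb] at e
      rwa [show j - 1 + 1 = j by omega] at e
    · set i := S.D.T - j with hi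
      have e := (hL ⟨i - 1, by omega⟩).2.2.1
      simp only [hb] at e
      rw [show i - 1 + 1 = i by omega] at e
      have hinner : ∑ χ ∈ Tb.out, S.m S.nu (lam ^ j) χ * S.m S.nu (lam ^ i) χ = 2 := by
        rw [Tb.out_inner _ _ _ _ (c := 3) ?_, hμμ _ _ (hnd j hj hj0) (hnd i (by omega) (by omega))]
        · norm_num
        rw [R.inner_psi'_psi' hna hR (htor j hj hj0) (htor i (by omega) (by omega)),
          if_neg (hne j i hj (by omega) (by omega)), if_pos (hinv' j i hj (by omega) (by omega))]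
        norm_num
      have hz : ∑ χ ∈ Tb.out, (S.m S.nu (lam ^ j) χ - S.m S.nu (lam ^ i) χ) *
          (S.m S.nu (lam ^ j) χ - S.m S.nu (lam ^ i) χ) = 0 := by
        simp only [mul_sub, sub_mul, Finset.sum_sub_distrib,
          mul_comm (S.m S.nu (lam ^ i) _) (S.m S.nu (lam ^ j) _), hinner, hbb j hj hj0,
          hbb i (by omega) (by omega)]
        norm_num
      have := mul_self_eq_zero.1
        ((Finset.sum_eq_zero_iff_of_nonneg fun χ _ => mul_self_nonneg _).1 hz F hF)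
      omega
  refine ⟨F, hF, f, hf1, ?_, fun j hj hj0 => ⟨hbF j hj hj0, ?_⟩⟩
  · obtain ⟨g1, g2, -, g4, g5⟩ := hL ⟨0, by omega⟩
    simp only [hb, zero_add] at g4 g5
    rw [show lam ^ 1 = lam from MonoidHom.ext fun k => by simp] at g4 g5
    exact ⟨_, g1, g2, g4, g5⟩
  · have := hall j hj hj0
    rcases hf1 with e | e <;> rw [e] at this ⊢ <;> omega

end Setup

end Cfsg.Lib.Walter8
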