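import Cfsg.Agent.Lib.Walter8.Setup

/-!
# The torus `V × ⟨y⟩` of order `q + σ` and its normalizer
-/

set_option autoImplicit false
set_option linter.unusedSectionVars false
set_option linter.style.haveILetI false

namespace Cfsg.Lib.Walter8

open Subgroup

theorem commute_of_pow {G : Type*} [Group G] {x y : G} (h : x * y = y * x) (k : ℕ) :
    x * y ^ k = y ^ k * x :=
  (Commute.pow_right h k).eq

universe u

namespace Setup

variable {G L : Type u} [Group G] [Group L] (S : Setup G L)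
include S

/-- The centralizer of `t` and `φ y`. -/
def K : Subgroup G := centralizer ({S.t} : Set G) ⊓ centralizer ({S.φ S.D.y} : Set G)

theorem mem_K {g : G} : g ∈ S.K ↔ g * S.t = S.t * g ∧ g * S.φ S.D.y = S.φ S.D.y * g := by
  rw [K, mem_inf, mem_centralizer_singleton_iff, mem_centralizer_singleton_iff]

/-- The image of `⟨y⟩`. -/
def Tsub : Subgroup G := zpowers (S.φ S.D.y)

theorem mem_Tsub {g : G} : g ∈ S.Tsub ↔ ∃ s ∈ zpowers S.D.y, g = S.φ s := by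
  rw [Tsub, ← MonoidHom.map_zpowers]
  exact ⟨fun ⟨s, hs, e⟩ => ⟨s, hs, e.symm⟩, fun ⟨s, hs, e⟩ => ⟨s, hs, e.symm⟩⟩

theorem orderOf_φy : orderOf (S.φ S.D.y) = S.D.T := by
  rw [orderOf_injective _ S.inj, S.D.orderOf_y]

theorem y_ne : S.D.y ≠ 1 := fun h => by
  have := S.D.orderOf_y
  rw [h, orderOf_one] at this
  have := S.D.T_facts.2
  omega

theorem Tsub_le : S.Tsub ≤ S.K := by
  rw [Tsub, zpowers_le, mem_K]
  exact ⟨(S.comm _).symm, rfl⟩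

theorem card_Tsub : Nat.card S.Tsub = S.D.T := by rw [Tsub, Nat.card_zpowers, S.orderOf_φy]

theorem Tsub_pow {g : G} (hg : g ∈ S.Tsub) : g ^ S.D.T = 1 := by
  obtain ⟨k, rfl⟩ := mem_zpowers_iff.mp hg
  have h := pow_orderOf_eq_one (S.φ S.D.y)
  rw [S.orderOf_φy] at h
  rw [← zpow_natCast, zpow_comm, zpow_natCast, h, one_zpow]

theorem Tsub_sq_eq_one {g : G} (hg : g ∈ S.Tsub) (h2 : g * g = 1) : g = 1 := by
  have h := S.Tsub_pow hg
  obtain ⟨c, hc⟩ : Odd S.D.T := Nat.odd_iff.mpr S.D.T_facts.1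
  rw [hc, pow_succ, pow_mul, sq, h2, one_pow, one_mul] at h
  exact h

theorem t_mem_K : S.t ∈ S.K := S.mem_K.mpr ⟨rfl, S.comm _⟩

theorem φz_mem_K : S.φ S.D.z ∈ S.K := S.mem_K.mpr
  ⟨(S.comm _).symm, by rw [← map_mul, ← map_mul, S.D.y_z]⟩

theorem eq_of_mem_K {g : G} (hg : g ∈ S.K) : ∃ s ∈ zpowers S.D.y,
    g = S.φ s ∨ g = S.φ (s * S.D.z) ∨ g = S.t * S.φ s ∨ g = S.t * S.φ (s * S.D.z) := by
  obtain ⟨hgt, hgy⟩ := S.mem_K.mp hg
  obtain ⟨l, hl⟩ := S.cent g hgt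
  have hly : l * S.D.y = S.D.y * l := by
    apply S.inj
    rcases hl with rfl | rfl
    · rwa [map_mul, map_mul]
    · rw [map_mul, map_mul]
      rw [mul_assoc, ← mul_assoc (S.φ S.D.y), ← S.comm, mul_assoc] at hgy
      exact mul_left_cancel hgy
  rcases S.D.cent_y _ (mem_zpowers _) S.y_ne l hly with h | h
  · rcases hl with e | e
    · exact ⟨l, h, Or.inl e⟩
    · exact ⟨l, h, Or.inr (Or.inr (Or.inl e))⟩
  · rcases hl with e | e
    · exact ⟨_, h, Or.inr (Or.inl (by rw [e, mul_assoc, S.D.z_sq, mul_one]))⟩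
    · exact ⟨_, h, Or.inr (Or.inr (Or.inr (by rw [e, mul_assoc l, S.D.z_sq, mul_one])))⟩

/-- The four-group `{1, t, φ z, t φ z}`. -/
def InV (g : G) : Prop := g = 1 ∨ g = S.t ∨ g = S.φ S.D.z ∨ g = S.t * S.φ S.D.z

theorem exists_mul_of_mem_K {g : G} (hg : g ∈ S.K) : ∃ v, S.InV v ∧ ∃ τ ∈ S.Tsub, g = v * τ := by
  obtain ⟨s, hs, h⟩ := S.eq_of_mem_K hg
  have hsz : s * S.D.z = S.D.z * s := by
    obtain ⟨k, rfl⟩ := mem_zpowers_iff.mp hs
    exact (Commute.zpow_left S.D.y_z k).eq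
  have hτ : S.φ s ∈ S.Tsub := S.mem_Tsub.mpr ⟨s, hs, rfl⟩
  rcases h with h | h | h | h
  · exact ⟨1, Or.inl rfl, _, hτ, by rw [h, one_mul]⟩
  · exact ⟨_, Or.inr (Or.inr (Or.inl rfl)), _, hτ, by rw [h, hsz, map_mul]⟩
  · exact ⟨_, Or.inr (Or.inl rfl), _, hτ, h⟩
  · exact ⟨_, Or.inr (Or.inr (Or.inr rfl)), _, hτ, by rw [h, hsz, map_mul, mul_assoc]⟩

theorem InV.mem_K {g : G} (h : S.InV g) : g ∈ S.K := by
  rcases h with rfl | rfl | rfl | rfl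
  · exact one_mem _
  · exact S.t_mem_K
  · exact S.φz_mem_K
  · exact mul_mem S.t_mem_K S.φz_mem_K

theorem InV.sq {g : G} (h : S.InV g) : g * g = 1 := by
  rcases h with rfl | rfl | rfl | rfl
  · exact one_mul 1
  · exact S.t_sq
  · rw [← map_mul, S.D.z_sq, map_one]
  · rw [S.t_φ_pow_two, S.D.z_sq, map_one]

theorem K_comm {a b : G} (ha : a ∈ S.K) (hb : b ∈ S.K) : a * b = b * a := by
  have hK : ∀ x ∈ S.K, ∀ τ ∈ S.Tsub, x * τ = τ * x := by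
    intro x hx τ hτ
    obtain ⟨k, rfl⟩ := mem_zpowers_iff.mp hτ
    exact (Commute.zpow_right (S.mem_K.mp hx).2 k).eq
  obtain ⟨v, hv, τ, hτ, rfl⟩ := S.exists_mul_of_mem_K ha
  obtain ⟨w, hw, σ, hσ, rfl⟩ := S.exists_mul_of_mem_K hb
  have hzt : S.φ S.D.z * S.t = S.t * S.φ S.D.z := (S.comm _).symm
  have hvw : Commute v w := by
    rcases hv with rfl | rfl | rfl | rfl <;> rcases hw with rfl | rfl | rfl | rfl <;>
      first
        | exact Commute.one_left _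
        | exact Commute.one_right _
        | exact Commute.refl _
        | exact hzt
        | exact hzt.symm
        | exact (Commute.refl _).mul_right hzt.symm
        | exact ((Commute.refl _).mul_right hzt.symm).symm
        | exact Commute.mul_right hzt (Commute.refl _)
        | exact (Commute.mul_right hzt (Commute.refl _)).symm
  have h1 : Commute v σ := hK v hv.mem_K σ hσ
  have h2 : Commute τ w := (hK w hw.mem_K τ hτ).symm
  have h3 : Commute τ σ := hK τ (S.Tsub_le hτ) σ hσ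
  exact ((hvw.mul_right h1).mul_left (h2.mul_right h3)).eq

theorem inV_iff {g : G} : S.InV g ↔ g ∈ S.K ∧ g * g = 1 := by
  refine ⟨fun h => ⟨h.mem_K, h.sq⟩, fun ⟨hg, h2⟩ => ?_⟩
  obtain ⟨v, hv, τ, hτ, rfl⟩ := S.exists_mul_of_mem_K hg
  have : τ * τ = 1 := by
    calc τ * τ = v * v * (τ * τ) := by rw [hv.sq, one_mul]
      _ = v * τ * (v * τ) := by
        rw [mul_assoc v τ, ← mul_assoc τ v, ← S.K_comm hv.mem_K (S.Tsub_le hτ)]; group
      _ = 1 := h2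
  rw [S.Tsub_sq_eq_one hτ this, mul_one]
  exact hv

/-- The four-group as a subgroup. -/
def Vsub : Subgroup G where
  carrier := {g | g ∈ S.K ∧ g * g = 1}
  one_mem' := ⟨one_mem _, one_mul 1⟩
  mul_mem' := by
    rintro a b ⟨ha, ha2⟩ ⟨hb, hb2⟩
    refine ⟨mul_mem ha hb, ?_⟩
    calc a * b * (a * b) = a * (b * a) * b := by group
      _ = a * a * (b * b) := by rw [S.K_comm hb ha]; group
      _ = 1 := by rw [ha2, hb2, mul_one]
  inv_mem' := by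
    rintro a ⟨ha, ha2⟩
    exact ⟨inv_mem ha, by rw [← mul_inv_rev, ha2, inv_one]⟩

theorem mem_Vsub {g : G} : g ∈ S.Vsub ↔ S.InV g := (S.inV_iff).symm

theorem Vsub_le : S.Vsub ≤ S.K := fun _ hg => hg.1

theorem tz_facts : S.t ≠ 1 ∧ S.φ S.D.z ≠ 1 ∧ S.t * S.φ S.D.z ≠ 1 ∧ S.φ S.D.z ≠ S.t ∧
    S.t * S.φ S.D.z ≠ S.t ∧ S.t * S.φ S.D.z ≠ S.φ S.D.z := by
  have hz : S.φ S.D.z ≠ 1 := fun e => S.D.z_ne (S.inj (by rw [e, map_one]))
  refine ⟨S.t_ne, hz, fun e => S.t_mul_φ_ne S.D.z 1 (by rw [e, map_one]), S.not_mem _,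
    fun e => hz (mul_left_cancel (e.trans (mul_one _).symm)), S.t_mul_φ_ne _ _⟩

theorem card_Vsub : Nat.card S.Vsub = 4 := by
  classical
  obtain ⟨h1, h2, h3, h4, h5, h6⟩ := S.tz_facts
  have hX : (S.Vsub : Set G) = ↑({1, S.t, S.φ S.D.z, S.t * S.φ S.D.z} : Finset G) := by
    ext g
    rw [SetLike.mem_coe, S.mem_Vsub]
    simp [InV]
  show Nat.card (S.Vsub : Set G) = 4
  rw [hX, Nat.card_coe_set_eq, Set.ncard_coe_finset]
  simp [h1.symm, h2.symm, h3.symm, h4.symm, h5.symm, h6.symm]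

theorem card_K : Nat.card S.K = 4 * S.D.T := by
  have e : Nat.card S.K = Nat.card (S.Vsub × S.Tsub) := by
    refine (Nat.card_eq_of_bijective (fun p : S.Vsub × S.Tsub =>
      (⟨p.1 * p.2, mul_mem (S.Vsub_le p.1.2) (S.Tsub_le p.2.2)⟩ : S.K)) ⟨?_, ?_⟩).symm
    · rintro ⟨⟨v, hv⟩, ⟨τ, hτ⟩⟩ ⟨⟨w, hw⟩, ⟨σ, hσ⟩⟩ h
      have h' : v * τ = w * σ := congrArg Subtype.val h
      have hm : w⁻¹ * v = σ * τ⁻¹ := by
        calc w⁻¹ * v = w⁻¹ * (v * τ) * τ⁻¹ := by group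
          _ = σ * τ⁻¹ := by rw [h']; group
      have h1 : w⁻¹ * v = 1 := S.Tsub_sq_eq_one (hm ▸ mul_mem hσ (inv_mem hτ))
        (mul_mem (inv_mem hw) hv : w⁻¹ * v ∈ S.Vsub).2
      have hvw : v = w := (inv_mul_eq_one.mp h1).symm
      subst hvw
      have : τ = σ := mul_left_cancel h'
      subst this
      rfl
    · rintro ⟨g, hg⟩
      obtain ⟨v, hv, τ, hτ, rfl⟩ := S.exists_mul_of_mem_K hg
      exact ⟨⟨⟨v, S.mem_Vsub.mpr hv⟩, ⟨τ, hτ⟩⟩, rfl⟩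
  rw [e, Nat.card_prod, S.card_Vsub, S.card_Tsub]

theorem sq_mem_Tsub {g : G} (hg : g ∈ S.K) : g * g ∈ S.Tsub := by
  obtain ⟨v, hv, τ, hτ, rfl⟩ := S.exists_mul_of_mem_K hg
  have : v * τ * (v * τ) = τ * τ := by
    calc v * τ * (v * τ) = v * (τ * v) * τ := by group
      _ = v * v * (τ * τ) := by rw [← S.K_comm hv.mem_K (S.Tsub_le hτ)]; group
      _ = τ * τ := by rw [hv.sq, one_mul]
  rw [this]
  exact mul_mem hτ hτ

/-- The normalizer of the torus. -/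
def Nm : Subgroup G := normalizer (S.K : Set G)

theorem t_inV : S.InV S.t := Or.inr (Or.inl rfl)

theorem z_inV : S.InV (S.φ S.D.z) := Or.inr (Or.inr (Or.inl rfl))

theorem tz_inV : S.InV (S.t * S.φ S.D.z) := Or.inr (Or.inr (Or.inr rfl))

theorem conj_inV {g v : G} (hg : g ∈ S.Nm) (hv : S.InV v) : S.InV (g * v * g⁻¹) := by
  refine S.inV_iff.mpr ⟨(mem_normalizer_iff.mp hg v).mp hv.mem_K, ?_⟩
  rw [← conj_mul', hv.sq]; group

theorem φy_mem : S.φ S.D.y ∈ S.Tsub := mem_zpowers _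

theorem φy_ne : S.φ S.D.y ≠ 1 := fun e => S.y_ne (S.inj (by rw [e, map_one]))

theorem exists_sq_of_mem_Tsub {τ : G} (hτ : τ ∈ S.Tsub) : ∃ σ ∈ S.Tsub, σ * σ = τ := by
  obtain ⟨c, hc⟩ : Odd S.D.T := Nat.odd_iff.mpr S.D.T_facts.1
  refine ⟨τ ^ (c + 1), pow_mem hτ _, ?_⟩
  rw [← pow_add, show c + 1 + (c + 1) = S.D.T + 1 by omega, pow_succ, S.Tsub_pow hτ, one_mul]

/-- An element centralizing the four-group has its square in the torus. -/
theorem sq_mem_Tsub_of_cent {g : G} (h1 : g * S.t = S.t * g)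
    (h2 : g * S.φ S.D.z = S.φ S.D.z * g) : g * g ∈ S.Tsub := by
  obtain ⟨l, hl⟩ := S.cent g h1
  have hlz : l * S.D.z = S.D.z * l := by
    apply S.inj
    rcases hl with rfl | rfl
    · rwa [map_mul, map_mul]
    · rw [map_mul, map_mul]
      rw [mul_assoc, ← mul_assoc (S.φ S.D.z), ← S.comm, mul_assoc] at h2
      exact mul_left_cancel h2
  have hg : g * g = S.φ (l * l) := by
    rcases hl with rfl | rfl
    · rw [map_mul]
    · rw [S.t_φ_pow_two]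
  rw [hg]
  obtain ⟨s, hs, h⟩ := S.D.cent_z l hlz
  have hsz : Commute s S.D.z := by
    obtain ⟨k, rfl⟩ := mem_zpowers_iff.mp hs
    exact Commute.zpow_left S.D.y_z k
  have hsi : S.D.i * s * S.D.i = s⁻¹ := by
    obtain ⟨k, rfl⟩ := mem_zpowers_iff.mp hs
    have hii : S.D.i⁻¹ = S.D.i := inv_eq_of_mul_eq_one_right S.D.i_sq
    nth_rewrite 2 [← hii]
    rw [← conj_zpow, S.D.i_y, inv_zpow]
  have hiz : Commute S.D.i S.D.z := S.D.i_z
  rcases h with rfl | rfl | rfl | rfl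
  · exact S.mem_Tsub.mpr ⟨l * l, mul_mem hs hs, rfl⟩
  · refine S.mem_Tsub.mpr ⟨s * s, mul_mem hs hs, congrArg S.φ ?_⟩
    calc s * S.D.z * (s * S.D.z) = s * (S.D.z * s) * S.D.z := by group
      _ = s * s * (S.D.z * S.D.z) := by rw [← hsz.eq]; group
      _ = s * s := by rw [S.D.z_sq, mul_one]
  · have : s * S.D.i * (s * S.D.i) = 1 := by
      calc s * S.D.i * (s * S.D.i) = s * (S.D.i * s * S.D.i) := by group
        _ = 1 := by rw [hsi, mul_inv_cancel]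
    rw [this, map_one]; exact one_mem _
  · have : s * S.D.z * S.D.i * (s * S.D.z * S.D.i) = 1 := by
      calc s * S.D.z * S.D.i * (s * S.D.z * S.D.i) = s * (S.D.z * (S.D.i * (s * S.D.z)) * S.D.i) := by group
        _ = s * (S.D.z * S.D.z) * (S.D.i * s * S.D.i) := by
          rw [hsz.eq, ← mul_assoc S.D.i, hiz.eq]
          group
        _ = 1 := by rw [S.D.z_sq, mul_one, hsi, mul_inv_cancel]
    rw [this, map_one]; exact one_mem _

theorem ι_facts : S.φ S.D.i * S.φ S.D.i = 1 ∧ S.φ S.D.i * S.t * (S.φ S.D.i)⁻¹ = S.t ∧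
    S.φ S.D.i * S.φ S.D.z * (S.φ S.D.i)⁻¹ = S.φ S.D.z ∧
    ∀ τ ∈ S.Tsub, S.φ S.D.i * τ * (S.φ S.D.i)⁻¹ = τ⁻¹ := by
  refine ⟨by rw [← map_mul, S.D.i_sq, map_one], ?_, ?_, fun τ hτ => ?_⟩
  · rw [← S.comm]; group
  · rw [← map_mul, S.D.i_z, map_mul]; group
  · obtain ⟨k, rfl⟩ := mem_zpowers_iff.mp hτ
    rw [← conj_zpow, ← map_inv, ← map_mul, ← map_mul, S.D.i_y, map_inv, inv_zpow]

variable [Finite G]

theorem mem_Nm_of_map {g : G} (h : ∀ x ∈ S.K, g * x * g⁻¹ ∈ S.K) : g ∈ S.Nm := by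
  have heq : S.K.map (MulAut.conj g).toMonoidHom = S.K := by
    refine eq_of_le_of_card_ge ?_ (le_of_eq (Nat.card_congr
      (equivMapOfInjective _ _ (MulAut.conj g).injective).toEquiv))
    rintro _ ⟨w, hw, rfl⟩
    exact h w hw
  rw [Nm, mem_normalizer_iff]
  intro w
  refine ⟨h w, fun hw => ?_⟩
  rw [← heq] at hw
  obtain ⟨w', hw', e⟩ := hw
  have e' : g * w' * g⁻¹ = g * w * g⁻¹ := e
  rwa [← mul_left_cancel (mul_right_cancel e')]


theorem φy_odd : S.φ S.D.y ^ S.D.T = 1 := S.Tsub_pow S.φy_mem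

theorem ι_mem_Nm : S.φ S.D.i ∈ S.Nm := by
  refine S.mem_Nm_of_map fun x hx => ?_
  obtain ⟨hii, hit, hiz, hiτ⟩ := S.ι_facts
  obtain ⟨v, hv, τ, hτ, rfl⟩ := S.exists_mul_of_mem_K hx
  rw [conj_mul', hiτ τ hτ]
  refine mul_mem ?_ (inv_mem (S.Tsub_le hτ))
  rcases hv with rfl | rfl | rfl | rfl
  · simp
  · rw [hit]; exact S.t_mem_K
  · rw [hiz]; exact S.φz_mem_K
  · rw [conj_mul', hit, hiz]; exact mul_mem S.t_mem_K S.φz_mem_K

/-- An element normalizing the four-group normalizes the torus. -/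
theorem mem_Nm_of_four {g : G} (h : ∀ v, S.InV v → S.InV (g * v * g⁻¹)) : g ∈ S.Nm := by
  obtain ⟨h1, h2, -, h4, -, -⟩ := S.tz_facts
  have hsurj : ∀ w, S.InV w → ∃ v, S.InV v ∧ g * v * g⁻¹ = w := by
    intro w hw
    haveI : Finite S.Vsub := inferInstance
    have hinj : Function.Injective (fun v : S.Vsub =>
        (⟨g * v * g⁻¹, S.mem_Vsub.mpr (h _ (S.mem_Vsub.mp v.2))⟩ : S.Vsub)) := fun a b e =>
      Subtype.ext (mul_left_cancel (mul_right_cancel (congrArg Subtype.val e)))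
    obtain ⟨v, hv⟩ := (Finite.injective_iff_surjective.mp hinj) ⟨w, S.mem_Vsub.mpr hw⟩
    exact ⟨v, S.mem_Vsub.mp v.2, congrArg Subtype.val hv⟩
  refine S.mem_Nm_of_map fun x hx => ?_
  obtain ⟨v, hv, τ, hτ, rfl⟩ := S.exists_mul_of_mem_K hx
  rw [conj_mul']
  refine mul_mem (h v hv).mem_K (S.Tsub_le ?_)
  obtain ⟨σ, hσ, rfl⟩ := S.exists_sq_of_mem_Tsub hτ
  rw [conj_mul']
  have hc : ∀ w, S.InV w → g * σ * g⁻¹ * w = w * (g * σ * g⁻¹) := by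
    intro w hw
    obtain ⟨u, hu, rfl⟩ := hsurj w hw
    rw [← conj_mul', ← conj_mul', S.K_comm (S.Tsub_le hσ) hu.mem_K]
  exact S.sq_mem_Tsub_of_cent (hc _ S.t_inV) (hc _ S.z_inV)

variable [IsSimpleGroup G] (hna : ¬ IsMulCommutative G)
include hna

/-- An element of order three of the normalizer cycles the three involutions of the torus. -/
theorem exists_rho : ∃ ρ ∈ S.Nm, ρ * ρ * ρ = 1 ∧ ρ * S.t * ρ⁻¹ = S.φ S.D.z ∧
    ρ * S.φ S.D.z * ρ⁻¹ = S.t * S.φ S.D.z ∧ ρ * (S.t * S.φ S.D.z) * ρ⁻¹ = S.t := by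
  obtain ⟨⟨n₀, hn₀, hn₀z⟩, -⟩ := S.fusion_elem hna
  set z := S.D.z with hzdef
  set z' := S.D.r * S.D.z * S.D.r⁻¹ with hz'def
  have hz'1 : z' ≠ 1 := fun h => S.D.z_ne (conj_eq_one_iff.mp h)
  obtain ⟨l, hl, hle⟩ := (mem_normalizer_iff.mp hn₀ _).mp (S.φ_mem_elem (Or.inr (Or.inr (Or.inl rfl))))
  have hl1 : l ≠ 1 := by
    rintro rfl
    rcases hle with h | h
    · exact hz'1 (S.inj (by rw [map_one]; exact conj_eq_one_iff.mp (h.trans (map_one _))))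
    · rw [map_one, mul_one, ← hn₀z] at h
      exact S.D.r_z (S.inj (mul_left_cancel (mul_right_cancel h)))
  have hr3 : S.D.r * S.D.r * S.D.r = 1 := by
    have h := S.D.r_cube; simpa [pow_succ] using h
  obtain ⟨c, hc, hcz⟩ : ∃ c : L, S.D.r * c = c * S.D.r ∧ c * l * c⁻¹ = z := by
    rcases hl with h | h | h | h
    · exact absurd h hl1
    · exact ⟨1, by group, by simp [h, hzdef]⟩
    · refine ⟨S.D.r⁻¹, by group, ?_⟩
      rw [h, hzdef]; group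
    · refine ⟨S.D.r, rfl, ?_⟩
      rw [h, conj_mul', S.D.r_cycle, ← mul_assoc, S.D.r_comm, mul_assoc, S.z'_sq, mul_one]
  set g := S.φ c * n₀ with hgdef
  have h1 : g * S.φ z * g⁻¹ = S.t := by
    rw [hgdef, show S.φ c * n₀ * S.φ z * (S.φ c * n₀)⁻¹ = S.φ c * (n₀ * S.φ z * n₀⁻¹) * (S.φ c)⁻¹ by group,
      hn₀z, ← S.comm]
    group
  set w := g * S.φ z' * g⁻¹ with hwdef
  have hw : w = S.φ z ∨ w = S.t * S.φ z := by
    have e : w = S.φ c * (n₀ * S.φ z' * n₀⁻¹) * (S.φ c)⁻¹ := by rw [hwdef, hgdef]; group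
    rcases hle with h | h <;> rw [e, h]
    · exact Or.inl (by rw [← map_inv, ← map_mul, ← map_mul, hcz])
    · refine Or.inr ?_
      rw [← hcz, map_mul, map_mul, map_inv, ← mul_assoc (S.φ c), ← S.comm]
      group
  set R := g * S.φ S.D.r * g⁻¹ with hRdef
  have hR : ∀ x : L, R * (g * S.φ x * g⁻¹) * R⁻¹ = g * S.φ (S.D.r * x * S.D.r⁻¹) * g⁻¹ := fun x => by
    rw [map_mul, map_mul, map_inv, hRdef]; group
  have R1 : R * S.t * R⁻¹ = w := by rw [← h1, hR]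
  have R2 : R * w * R⁻¹ = S.t * w := by
    rw [hwdef, hR, hz'def, S.D.r_cycle, ← h1, map_mul, conj_mul']
  have R3 : R * (S.t * w) * R⁻¹ = S.t := by
    rw [conj_mul', R1, R2]
    rcases hw with e | e <;> rw [e]
    · rw [S.comm, ← mul_assoc, ← map_mul, S.D.z_sq, map_one, one_mul]
    · rw [mul_assoc, S.t_mul_t_mul, ← map_mul, S.D.z_sq, map_one, mul_one]
  have R0 : R * R * R = 1 := by
    rw [hRdef, ← conj_mul', ← conj_mul', ← map_mul, ← map_mul, hr3, map_one]; group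
  obtain ⟨ρ, hρ0, hρ1, hρ2, hρ3⟩ : ∃ ρ : G, ρ * ρ * ρ = 1 ∧ ρ * S.t * ρ⁻¹ = S.φ z ∧
      ρ * S.φ z * ρ⁻¹ = S.t * S.φ z ∧ ρ * (S.t * S.φ z) * ρ⁻¹ = S.t := by
    rcases hw with e | e
    · exact ⟨R, R0, by rw [R1, e], by rw [← e, R2], by rw [← e, R3]⟩
    · have e' : S.t * w = S.φ z := by rw [e, S.t_mul_t_mul]
      rw [e'] at R2 R3
      rw [e] at R1 R2
      have back : ∀ x y : G, R * x * R⁻¹ = y → R⁻¹ * y * (R⁻¹)⁻¹ = x := by
        rintro x y rfl; group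
      exact ⟨R⁻¹, by rw [show R⁻¹ * R⁻¹ * R⁻¹ = (R * R * R)⁻¹ by group, R0, inv_one],
        back _ _ R3, back _ _ R2, back _ _ R1⟩
  rw [hzdef] at hρ1 hρ2 hρ3
  refine ⟨ρ, ?_, hρ0, hρ1, hρ2, hρ3⟩
  refine S.mem_Nm_of_four fun v hv => ?_
  rcases hv with rfl | rfl | rfl | rfl
  · exact Or.inl (by group)
  · rw [hρ1]; exact S.z_inV
  · rw [hρ2]; exact S.tz_inV
  · rw [hρ3]; exact S.t_inV

omit hna

/-- The stabilizer of `t` in the normalizer of the torus. -/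
theorem stab_t {g : G} (hg : g ∈ S.Nm) (ht : g * S.t * g⁻¹ = S.t) :
    g ∈ S.K ∨ g * S.φ S.D.i ∈ S.K := by
  obtain ⟨h1, h2, h3, h4, h5, h6⟩ := S.tz_facts
  have hgt : g * S.t = S.t * g := mul_inv_eq_iff_eq_mul.mp ht
  obtain ⟨l, hl⟩ := S.cent g hgt
  have hconj : g * S.φ S.D.z * g⁻¹ = S.φ (l * S.D.z * l⁻¹) := by
    rcases hl with rfl | rfl
    · rw [map_mul, map_mul, map_inv]
    · rw [map_mul, map_mul, map_inv, show S.t * S.φ l * S.φ S.D.z * (S.t * S.φ l)⁻¹ =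
        S.t * (S.φ l * S.φ S.D.z * (S.φ l)⁻¹) * S.t⁻¹ by group, ← map_inv, ← map_mul, ← map_mul, S.comm]
      group
  have hlz : l * S.D.z * l⁻¹ = S.D.z := by
    rcases S.conj_inV hg S.z_inV with h | h | h | h
    · exact absurd (conj_eq_one_iff.mp h) h2
    · exact absurd (hconj.symm.trans h) (S.not_mem _)
    · exact S.inj (hconj.symm.trans h)
    · exact absurd (h.symm.trans hconj) (S.t_mul_φ_ne _ _)
  obtain ⟨s, hs, h⟩ := S.D.cent_z l (mul_inv_eq_iff_eq_mul.mp hlz)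
  have hsK : S.φ s ∈ S.K := S.Tsub_le (S.mem_Tsub.mpr ⟨s, hs, rfl⟩)
  have hlK : S.φ l ∈ S.K ∨ S.φ l * S.φ S.D.i ∈ S.K := by
    rcases h with rfl | rfl | rfl | rfl
    · exact Or.inl hsK
    · exact Or.inl (by rw [map_mul]; exact mul_mem hsK S.φz_mem_K)
    · exact Or.inr (by rw [← map_mul, mul_assoc, S.D.i_sq, mul_one]; exact hsK)
    · exact Or.inr (by rw [← map_mul, mul_assoc, S.D.i_sq, mul_one, map_mul]; exact mul_mem hsK S.φz_mem_K)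
  rcases hl with rfl | rfl
  · exact hlK
  · exact hlK.imp (fun h => mul_mem S.t_mem_K h) (fun h => by
      rw [mul_assoc]; exact mul_mem S.t_mem_K h)

theorem ι_not_mem_K : S.φ S.D.i ∉ S.K := fun h => by
  have h1 := S.ι_facts.2.2.2 _ S.φy_mem
  rw [mul_inv_eq_iff_eq_mul.mpr (S.K_comm h (S.Tsub_le S.φy_mem))] at h1
  exact S.φy_ne (S.Tsub_sq_eq_one S.φy_mem (mul_eq_one_iff_eq_inv.mpr h1))

/-- Representatives of the six cosets of the torus in its normalizer. -/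
def rep (ρ : G) (p : Fin 3 × Bool) : G := ρ ^ (p.1 : ℕ) * if p.2 then S.φ S.D.i else 1

theorem exists_rep {ρ : G} (hρN : ρ ∈ S.Nm) (h3 : ρ * ρ * ρ = 1)
    (h1 : ρ * S.t * ρ⁻¹ = S.φ S.D.z) (h2 : ρ * S.φ S.D.z * ρ⁻¹ = S.t * S.φ S.D.z)
    {g : G} (hg : g ∈ S.Nm) : ∃ p : Fin 3 × Bool, ∃ k ∈ S.K, g = S.rep ρ p * k := by
  obtain ⟨j, hj⟩ : ∃ j : Fin 3, g * S.t * g⁻¹ = ρ ^ (j : ℕ) * S.t * (ρ ^ (j : ℕ))⁻¹ := by
    rcases S.conj_inV hg S.t_inV with h | h | h | h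
    · exact absurd (conj_eq_one_iff.mp h) S.t_ne
    · exact ⟨0, by rw [h]; simp⟩
    · exact ⟨1, by rw [h, Fin.val_one, pow_one, h1]⟩
    · refine ⟨2, ?_⟩
      rw [h, Fin.val_two, sq, show ρ * ρ * S.t * (ρ * ρ)⁻¹ = ρ * (ρ * S.t * ρ⁻¹) * ρ⁻¹ by group, h1, h2]
  have hm : (ρ ^ (j : ℕ))⁻¹ * g ∈ S.Nm := mul_mem (inv_mem (pow_mem hρN _)) hg
  have hmt : (ρ ^ (j : ℕ))⁻¹ * g * S.t * ((ρ ^ (j : ℕ))⁻¹ * g)⁻¹ = S.t := by
    rw [show (ρ ^ (j : ℕ))⁻¹ * g * S.t * ((ρ ^ (j : ℕ))⁻¹ * g)⁻¹ =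
      (ρ ^ (j : ℕ))⁻¹ * (g * S.t * g⁻¹) * ρ ^ (j : ℕ) by group, hj]
    group
  rcases S.stab_t hm hmt with h | h
  · exact ⟨(j, false), _, h, by simp [rep]⟩
  · refine ⟨(j, true), S.φ S.D.i * ((ρ ^ (j : ℕ))⁻¹ * g * S.φ S.D.i) * (S.φ S.D.i)⁻¹,
      (mem_normalizer_iff.mp (S.ι_mem_Nm) _).mp h, ?_⟩
    have hii : S.φ S.D.i * S.φ S.D.i = 1 := S.ι_facts.1
    simp only [rep, if_true]
    rw [show ρ ^ (j : ℕ) * S.φ S.D.i * (S.φ S.D.i * ((ρ ^ (j : ℕ))⁻¹ * g * S.φ S.D.i) * (S.φ S.D.i)⁻¹) =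
      ρ ^ (j : ℕ) * (S.φ S.D.i * S.φ S.D.i) * ((ρ ^ (j : ℕ))⁻¹ * g) by group, hii]
    group

theorem rep_injective {ρ : G} (hρN : ρ ∈ S.Nm) (h3 : ρ * ρ * ρ = 1)
    (h1 : ρ * S.t * ρ⁻¹ = S.φ S.D.z) (h2 : ρ * S.φ S.D.z * ρ⁻¹ = S.t * S.φ S.D.z)
    {p p' : Fin 3 × Bool} {k k' : G} (hk : k ∈ S.K) (hk' : k' ∈ S.K)
    (e : S.rep ρ p * k = S.rep ρ p' * k') : p = p' ∧ k = k' := by
  obtain ⟨a1, a2, a3, a4, a5, a6⟩ := S.tz_facts
  have hit := S.ι_facts.2.1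
  have key : ∀ (p : Fin 3 × Bool) (k : G), k ∈ S.K →
      S.rep ρ p * k * S.t * (S.rep ρ p * k)⁻¹ = ρ ^ (p.1 : ℕ) * S.t * (ρ ^ (p.1 : ℕ))⁻¹ := by
    rintro ⟨j, b⟩ k hk
    have hkt : k * S.t * k⁻¹ = S.t := mul_inv_eq_iff_eq_mul.mpr (S.K_comm hk S.t_mem_K)
    rw [show S.rep ρ (j, b) * k * S.t * (S.rep ρ (j, b) * k)⁻¹ =
      S.rep ρ (j, b) * (k * S.t * k⁻¹) * (S.rep ρ (j, b))⁻¹ by group, hkt]
    cases b
    · simp [rep]
    · simp only [rep, if_true]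
      rw [show ρ ^ (j : ℕ) * S.φ S.D.i * S.t * (ρ ^ (j : ℕ) * S.φ S.D.i)⁻¹ =
        ρ ^ (j : ℕ) * (S.φ S.D.i * S.t * (S.φ S.D.i)⁻¹) * (ρ ^ (j : ℕ))⁻¹ by group, hit]
  have h := key p k hk
  rw [e, key p' k' hk'] at h
  obtain ⟨j, b⟩ := p
  obtain ⟨j', b'⟩ := p'
  have hjj : j = j' := by
    have e1 : ∀ i : Fin 3, ρ ^ (i : ℕ) * S.t * (ρ ^ (i : ℕ))⁻¹ =
        ![S.t, S.φ S.D.z, S.t * S.φ S.D.z] i := by
      intro i; fin_cases i
      · simp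
      · simpa using h1
      · show ρ ^ 2 * S.t * (ρ ^ 2)⁻¹ = _
        rw [sq, show ρ * ρ * S.t * (ρ * ρ)⁻¹ = ρ * (ρ * S.t * ρ⁻¹) * ρ⁻¹ by group, h1, h2]
        rfl
    rw [e1, e1] at h
    fin_cases j <;> fin_cases j' <;> first | rfl | (simp [a4, a4.symm, a5, a5.symm, a6, a6.symm] at h)
  subst hjj
  simp only [rep, mul_assoc] at e
  have e' := mul_left_cancel e
  cases b <;> cases b'
  · exact ⟨rfl, by simpa using e'⟩
  · exact absurd (by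
      simp only [if_true, Bool.false_eq_true, if_false, one_mul] at e'
      rw [show S.φ S.D.i = k * k'⁻¹ by rw [e']; group]
      exact mul_mem hk (inv_mem hk')) (S.ι_not_mem_K)
  · exact absurd (by
      simp only [if_true, Bool.false_eq_true, if_false, one_mul] at e'
      rw [show S.φ S.D.i = k' * k⁻¹ by rw [← e']; group]
      exact mul_mem hk' (inv_mem hk)) (S.ι_not_mem_K)
  · exact ⟨rfl, by simpa using e'⟩

end Setup

end Cfsg.Lib.Walter8
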