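import Cfsg.Agent.Lib.Walter8.TrivDef
import Cfsg.Agent.Lib.Walter8.TorusChar
import Cfsg.Agent.Lib.Walter8.Psi

/-!
# The exceptional characters at a torus fixed by the rotation

For a class function `f` of `A` whose support has orders prime to that of the torus and a linear
character `μ` of the torus, `ψ = Ind (f (1 - μ))` from `A × ⟨φ y⟩`: inner products, products with
the columns, pair equations and the action of power maps.
-/

set_option autoImplicit false
set_option linter.unusedSectionVars false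
set_option linter.style.haveILetI false

namespace Cfsg.Lib.Walter8

open Subgroup Cfsg Cfsg.Lib.Char
open scoped ComplexConjugate

universe u

namespace Setup

variable {G L : Type u} [Group G] [Group L] {S : Setup G L} {A₀ : Type} [Group A₀]
  (X : Core S A₀)

theorem mem_Mc_iff {g : G} : g ∈ S.Mc ↔ g * S.φ S.D.y = S.φ S.D.y * g :=
  mem_centralizer_singleton_iff

theorem Mc_comm {g s : G} (hg : g ∈ S.Mc) (hs : s ∈ S.Tsub) : g * s = s * g := by
  obtain ⟨k, rfl⟩ := mem_zpowers_iff.mp hs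
  exact (Commute.zpow_right (mem_Mc_iff.mp hg) k).eq

theorem Tsub_le_Mc : S.Tsub ≤ S.Mc := fun s hs => by
  obtain ⟨k, rfl⟩ := mem_zpowers_iff.mp hs
  exact mem_Mc_iff.mpr ((Commute.refl _).zpow_left k).eq

theorem Core.A_le : X.A ≤ S.Mc := fun a ha => mem_Mc_iff.mpr (X.comm a ha _ S.φy_mem)

theorem Tsub_mul_comm (a b : S.Tsub) : a * b = b * a :=
  Subtype.ext (S.K_comm (S.Tsub_le a.2) (S.Tsub_le b.2))

/-- The multiplication `A × ⟨φ y⟩ → C(φ y)`. -/
def Core.mulHom : X.A × S.Tsub →* S.Mc :=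
  MonoidHom.mk' (fun p => ⟨(p.1 : G) * p.2, mul_mem (X.A_le p.1.2) (Tsub_le_Mc p.2.2)⟩) fun p q =>
    Subtype.ext (show ((p.1 : G) * q.1) * ((p.2 : G) * q.2) = (p.1 : G) * p.2 * ((q.1 : G) * q.2) from
      (show Commute (q.1 : G) p.2 from X.comm _ q.1.2 _ p.2.2).mul_mul_mul_comm _ _)

theorem Core.mulHom_bijective : Function.Bijective X.mulHom := by
  refine ⟨(injective_iff_map_eq_one _).2 fun p hp => ?_, fun g => ?_⟩
  · have h : (p.1 : G) * p.2 = 1 := congrArg Subtype.val hp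
    have h1 : (p.1 : G) = (p.2 : G)⁻¹ := eq_inv_of_mul_eq_one_left h
    have ha : (p.1 : G) = 1 := X.disj _ p.1.2 (h1 ▸ inv_mem p.2.2)
    refine Prod.ext (Subtype.ext ha) (Subtype.ext ?_)
    rw [ha, one_mul] at h
    exact h
  · obtain ⟨a, ha, s, hs, e⟩ := X.cover _ S.φy_mem S.φy_ne g (mem_Mc_iff.mp g.2)
    exact ⟨(⟨a, ha⟩, ⟨s, hs⟩), Subtype.ext e.symm⟩

/-- `C(φ y) ≅ A × ⟨φ y⟩`. -/
noncomputable def Core.prodEquiv : X.A × S.Tsub ≃* S.Mc :=
  MulEquiv.ofBijective X.mulHom X.mulHom_bijective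

/-- The projection to the model of `A`. -/
noncomputable def Core.pA : S.Mc →* A₀ :=
  X.e.toMonoidHom.comp ((MonoidHom.fst _ _).comp X.prodEquiv.symm.toMonoidHom)

/-- The projection to the torus. -/
noncomputable def Core.pT : S.Mc →* S.Tsub :=
  (MonoidHom.snd _ _).comp X.prodEquiv.symm.toMonoidHom

/-- The element with given components. -/
noncomputable def Core.el (a : A₀) (s : S.Tsub) : S.Mc := X.prodEquiv (X.e.symm a, s)

theorem Core.pA_mk (a : A₀) (s : S.Tsub) : X.pA (X.el a s) = a := by simp [Core.pA, Core.el]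

theorem Core.pT_mk (a : A₀) (s : S.Tsub) : X.pT (X.el a s) = s := by simp [Core.pT, Core.el]

theorem Core.el_coe (a : A₀) (s : S.Tsub) : (X.el a s : G) = (X.e.symm a : G) * s := rfl

theorem Core.el_pA_pT (g : S.Mc) : X.el (X.pA g) (X.pT g) = g := by
  simp [Core.pA, Core.pT, Core.el]

theorem Core.ι_not_mem [Finite G] : X.ι ∉ S.Mc := fun h => by
  have h1 := X.ι_T _ S.φy_mem
  rw [mul_inv_eq_iff_eq_mul.mpr (mem_Mc_iff.mp h)] at h1
  exact S.φy_ne (S.Tsub_sq_eq_one S.φy_mem (mul_eq_one_iff_eq_inv.mpr h1))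

theorem Core.ι_conj_mk (a : A₀) (s : S.Tsub) :
    X.ι * (X.el a s : G) * X.ι⁻¹ = (X.el a s⁻¹ : G) := by
  rw [X.el_coe, X.el_coe, conj_mul', X.ι_T _ s.2, mul_inv_eq_iff_eq_mul.mpr (X.ι_A _ (X.e.symm a).2)]
  rfl

theorem Core.ι_inv : X.ι⁻¹ = X.ι := inv_eq_of_mul_eq_one_right X.ι_sq

/-- The orders on the support are prime to that of the torus. -/
def Good (S : Setup G L) (f : A₀ → ℂ) : Prop := ∀ a, f a ≠ 0 → (orderOf a).Coprime S.D.T

theorem Good.inv {f : A₀ → ℂ} {a : A₀} (hf : Good S f) (h : f a ≠ 0) : (orderOf a⁻¹).Coprime S.D.T := by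
  rw [orderOf_inv]; exact hf a h

/-- The test functions. -/
noncomputable def Core.tfC (f : A₀ → ℂ) (μ : S.Tsub →* ℂˣ) (g : S.Mc) : ℂ :=
  f (X.pA g) * (1 - (μ (X.pT g) : ℂ))

theorem Core.tfC_mk (f : A₀ → ℂ) (μ : S.Tsub →* ℂˣ) (a : A₀) (s : S.Tsub) :
    X.tfC f μ (X.el a s) = f a * (1 - (μ s : ℂ)) := by
  rw [Core.tfC, X.pA_mk, X.pT_mk]

theorem Core.tfC_isGeneralized [Finite G] {f : A₀ → ℂ} (hf : IsGeneralizedCharacter A₀ f)
    (μ : S.Tsub →* ℂˣ) : IsGeneralizedCharacter S.Mc (X.tfC f μ) := by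
  haveI : Finite A₀ := Finite.of_equiv _ X.e.toEquiv
  exact (hf.comp X.pA).mul (((isIrrCharacter_one (G := S.Mc)).isGeneralized).sub
    (isIrrCharacter_linear (μ.comp X.pT)).isGeneralized)

theorem Core.pT_ne_of_tfC {f : A₀ → ℂ} {μ : S.Tsub →* ℂˣ} {g : S.Mc} (h : X.tfC f μ g ≠ 0) :
    f (X.pA g) ≠ 0 ∧ X.pT g ≠ 1 := by
  refine ⟨fun e => h (by rw [Core.tfC, e, zero_mul]), fun e => h ?_⟩
  rw [Core.tfC, e, map_one, Units.val_one, sub_self, mul_zero]

/-- The induced functions. -/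
noncomputable def Core.psiC [Fintype G] (f : A₀ → ℂ) (μ : S.Tsub →* ℂˣ) : G → ℂ :=
  indFun S.Mc (X.tfC f μ)

variable [Fintype G]

theorem Core.psiC_isGeneralized {f : A₀ → ℂ} (hf : IsGeneralizedCharacter A₀ f)
    (μ : S.Tsub →* ℂˣ) : IsGeneralizedCharacter G (X.psiC f μ) := by
  haveI := Fintype.ofFinite S.Mc
  exact isGeneralizedCharacter_indFun S.Mc (X.tfC_isGeneralized hf μ)

open Classical in
/-- The multiplicities. -/
noncomputable def Core.mC (f : A₀ → ℂ) (μ : S.Tsub →* ℂˣ) (χ : IrrCharacter G) : ℤ :=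
  if h : ∃ n : ℤ, classInner (X.psiC f μ) (χ : G → ℂ) = n then h.choose else 0

theorem Core.mC_spec {f : A₀ → ℂ} (hf : IsGeneralizedCharacter A₀ f) (μ : S.Tsub →* ℂˣ)
    (χ : IrrCharacter G) : classInner (X.psiC f μ) (χ : G → ℂ) = X.mC f μ χ := by
  have h := (X.psiC_isGeneralized hf μ).exists_int_classInner χ.2.isGeneralized
  rw [Core.mC, dif_pos h]
  exact h.choose_spec

theorem Core.psiC_eq_sum {f : A₀ → ℂ} (hf : IsGeneralizedCharacter A₀ f) (μ : S.Tsub →* ℂˣ)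
    (g : G) : X.psiC f μ g = ∑ χ : IrrCharacter G, (X.mC f μ χ : ℂ) * (χ : G → ℂ) g := by
  conv_lhs => rw [eq_sum_classInner (X.psiC_isGeneralized hf μ).isClassFunction]
  simp [Finset.sum_apply, X.mC_spec hf]

theorem Core.inner_psiC_eq_sum {f f' : A₀ → ℂ} (hf : IsGeneralizedCharacter A₀ f)
    (hf' : IsGeneralizedCharacter A₀ f') (μ μ' : S.Tsub →* ℂˣ) :
    classInner (X.psiC f μ) (X.psiC f' μ') =
      ((∑ χ : IrrCharacter G, X.mC f μ χ * X.mC f' μ' χ : ℤ) : ℂ) := by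
  rw [classInner_eq_sum (X.psiC_isGeneralized hf μ).isClassFunction]
  simp [X.mC_spec hf, X.mC_spec hf']

theorem Core.sum_d_mC {f : A₀ → ℂ} (hf : IsGeneralizedCharacter A₀ f) (μ : S.Tsub →* ℂˣ)
    (j : Fin 3) : classInner (X.psiC f μ) (S.W j) =
      ((∑ χ : IrrCharacter G, X.mC f μ χ * S.d j χ : ℤ) : ℂ) := by
  rw [classInner_eq_sum (X.psiC_isGeneralized hf μ).isClassFunction]
  simp [X.mC_spec hf, S.d_spec]

/-- Fusion of the elements of the supports. -/
theorem Core.fused {x : G} {g : S.Mc} (hs : X.pT g ≠ 1) (hg : (orderOf (X.pA g)).Coprime S.D.T)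
    (h : x * g * x⁻¹ ∈ S.Mc) (hg' : (orderOf (X.pA ⟨_, h⟩)).Coprime S.D.T) :
    x ∈ S.Mc ∨ x * X.ι ∈ S.Mc := by
  set g' : S.Mc := ⟨_, h⟩ with hg'def
  set n := orderOf (X.pA g) with hn
  have hTpow : ∀ s : S.Tsub, s ^ S.D.T = 1 := fun s =>
    Subtype.ext (by rw [SubmonoidClass.coe_pow]; exact S.Tsub_pow s.2)
  have hord : orderOf (X.pA g') ∣ n * S.D.T := by
    refine (orderOf_map_dvd X.pA g').trans ?_
    have e : orderOf g' = orderOf g := by
      rw [← Subgroup.orderOf_coe, ← Subgroup.orderOf_coe g, hg'def]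
      exact orderOf_injective (MulAut.conj x).toMonoidHom (MulAut.conj x).injective _
    rw [e]
    refine orderOf_dvd_of_pow_eq_one ?_
    rw [← X.el_pA_pT (g ^ (n * S.D.T)), map_pow, map_pow, pow_mul, hn, pow_orderOf_eq_one,
      one_pow, mul_comm, pow_mul, hTpow, one_pow]
    exact map_one X.prodEquiv ▸ congrArg X.prodEquiv (Prod.ext (map_one _) rfl)
  have ha' : X.pA g' ^ n = 1 :=
    orderOf_dvd_iff_pow_eq_one.mp (hg'.dvd_of_dvd_mul_right hord)
  have key : ∀ k : S.Mc, X.pA k = 1 → (k : G) ∈ S.Tsub := fun k hk => by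
    rw [← X.el_pA_pT k, hk, X.el_coe, map_one, OneMemClass.coe_one, one_mul]
    exact (X.pT k).2
  have hσ : (g : G) ^ n ∈ S.Tsub := by
    rw [← SubmonoidClass.coe_pow]
    exact key _ (by rw [map_pow, hn, pow_orderOf_eq_one])
  have hσ1 : (g : G) ^ n ≠ 1 := fun e => by
    refine hs ?_
    have h1 : X.pT g ^ n = 1 := by
      rw [← map_pow, show g ^ n = 1 from Subtype.ext (by rw [SubmonoidClass.coe_pow]; exact e), map_one]
    refine orderOf_eq_one_iff.mp (Nat.eq_one_of_dvd_coprimes hg (orderOf_dvd_of_pow_eq_one h1)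
      (orderOf_dvd_of_pow_eq_one (hTpow _)))
  have hσ' : x * (g : G) ^ n * x⁻¹ ∈ S.Tsub := by
    rw [← conj_pow, show x * (g : G) * x⁻¹ = (g' : G) from rfl, ← SubmonoidClass.coe_pow]
    exact key _ (by rw [map_pow, ha'])
  refine X.swap x (mem_normalizer_iff.mpr fun k => ⟨fun hk => ?_, fun hk => ?_⟩)
  · obtain ⟨a, ha, s, hs', e⟩ := X.cover _ hσ' (fun e => hσ1 (conj_eq_one_iff.mp e)) (x * k * x⁻¹)
      (by rw [← conj_mul', ← conj_mul', Mc_comm hk hσ])
    rw [e]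
    exact mul_mem (X.A_le ha) (Tsub_le_Mc hs')
  · obtain ⟨a, ha, s, hs', e⟩ := X.cover _ hσ hσ1 k (by
      have e := Mc_comm hk hσ'
      rw [← conj_mul', ← conj_mul'] at e
      exact mul_left_cancel (mul_right_cancel e))
    rw [e]
    exact mul_mem (X.A_le ha) (Tsub_le_Mc hs')

/-- The induced function on the supports. -/
theorem Core.indFun_Mc {f f' : A₀ → ℂ} (hf' : IsGeneralizedCharacter A₀ f') (hgood : Good S f)
    (hgood' : Good S f') {μ μ' : S.Tsub →* ℂˣ} {g : S.Mc} (hg : X.tfC f μ g ≠ 0) :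
    X.psiC f' μ' g = X.tfC f' μ' g + X.tfC f' μ' (X.el (X.pA g) (X.pT g)⁻¹) := by
  classical
  obtain ⟨hfa, hs⟩ := X.pT_ne_of_tfC hg
  set g₁ := X.el (X.pA g) (X.pT g)⁻¹ with hg₁
  have hg₁' : X.ι * (g : G) * X.ι⁻¹ = g₁ := by
    rw [← X.ι_conj_mk, X.el_pA_pT]
  have hcl := (X.tfC_isGeneralized hf' μ').isClassFunction
  have hin : ∀ (m k : S.Mc), extendByZero S.Mc (X.tfC f' μ') ((m : G) * k * (m : G)⁻¹) =
      X.tfC f' μ' k := fun m k => by
    rw [show (m : G) * k * (m : G)⁻¹ = ((m * k * m⁻¹ : S.Mc) : G) from rfl, extendByZero_coe]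
    exact hcl k m
  have hterm : ∀ y : G, extendByZero S.Mc (X.tfC f' μ') (y * g * y⁻¹) =
      (if y ∈ S.Mc then X.tfC f' μ' g else 0) +
        if y * X.ι ∈ S.Mc then X.tfC f' μ' g₁ else 0 := by
    intro y
    by_cases h1 : y ∈ S.Mc
    · have h2 : y * X.ι ∉ S.Mc := fun h2 => X.ι_not_mem (by
        have := mul_mem (inv_mem h1) h2; rwa [inv_mul_cancel_left] at this)
      rw [if_pos h1, if_neg h2, add_zero, hin ⟨y, h1⟩ g]
    rw [if_neg h1, zero_add]
    by_cases h2 : y * X.ι ∈ S.Mc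
    · rw [if_pos h2, ← hin ⟨_, h2⟩ g₁, ← hg₁']
      congr 1
      show y * g * y⁻¹ = y * X.ι * (X.ι * g * X.ι⁻¹) * (y * X.ι)⁻¹
      rw [show y * X.ι * (X.ι * g * X.ι⁻¹) * (y * X.ι)⁻¹ =
        y * (X.ι * X.ι) * g * (y * (X.ι * X.ι))⁻¹ by group, X.ι_sq, mul_one]
    rw [if_neg h2]
    by_contra hne
    obtain ⟨hm, hne'⟩ : ∃ hm : y * g * y⁻¹ ∈ S.Mc, X.tfC f' μ' ⟨_, hm⟩ ≠ 0 := by
      by_cases hm : y * g * y⁻¹ ∈ S.Mc
      · exact ⟨hm, fun e => hne (by rw [extendByZero_of_mem _ _ hm, e])⟩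
      · exact absurd (extendByZero_of_notMem _ _ hm) hne
    exact (X.fused hs (hgood _ hfa) hm (hgood' _ (X.pT_ne_of_tfC hne').1)).elim h1 h2
  rw [Core.psiC, indFun, ← Fintype.sum_equiv (Equiv.inv G)
    (fun y => extendByZero S.Mc (X.tfC f' μ') (y * g * y⁻¹))
    (fun y => extendByZero S.Mc (X.tfC f' μ') (y⁻¹ * g * y)) fun y => by simp]
  rw [Finset.sum_congr rfl fun y _ => hterm y, Finset.sum_add_distrib]
  have c1 : ((Finset.univ.filter fun y : G => y ∈ S.Mc).card : ℂ) = Nat.card S.Mc := by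
    rw [← Fintype.card_subtype, ← Nat.card_eq_fintype_card]
  have c2 : ((Finset.univ.filter fun y : G => y * X.ι ∈ S.Mc).card : ℂ) = Nat.card S.Mc := by
    rw [← c1, Nat.cast_inj]
    exact Finset.card_equiv (Equiv.mulRight X.ι) fun y => by simp
  simp only [← Finset.sum_filter, Finset.sum_const, nsmul_eq_mul, c1, c2]
  have hne : (Nat.card S.Mc : ℂ) ≠ 0 := Nat.cast_ne_zero.2 Nat.card_pos.ne'
  field_simp

/-- Sums over `C(φ y)`. -/
theorem Core.sum_Mc [Fintype A₀] [Fintype S.Tsub] [Fintype S.Mc] {M : Type*} [AddCommMonoid M]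
    (F : S.Mc → M) : ∑ g, F g = ∑ a : A₀, ∑ s : S.Tsub, F (X.el a s) := by
  rw [← Fintype.sum_prod_type']
  exact (Fintype.sum_equiv ((MulEquiv.prodCongr X.e.symm (MulEquiv.refl S.Tsub)).trans
    X.prodEquiv).toEquiv _ _ fun p => rfl).symm

include X in
theorem Core.card_Mc [Fintype A₀] : (Nat.card S.Mc : ℂ) = Fintype.card A₀ * S.D.T := by
  rw [← Nat.card_congr ((MulEquiv.prodCongr X.e.symm (MulEquiv.refl S.Tsub)).trans
    X.prodEquiv).toEquiv, Nat.card_prod, S.card_Tsub, Nat.card_eq_fintype_card]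
  push_cast
  ring

theorem card_Tsub' [Fintype S.Tsub] : (Fintype.card S.Tsub : ℂ) = S.D.T := by
  rw [← Nat.card_eq_fintype_card, S.card_Tsub]

open Classical in
theorem sum_one_sub [Fintype S.Tsub] {μ μ' : S.Tsub →* ℂˣ} (h : μ ≠ 1) (h' : μ' ≠ 1) :
    ∑ s : S.Tsub, (1 - (μ s : ℂ)) * (conj (1 - (μ' s : ℂ)) + conj (1 - (μ' s⁻¹ : ℂ))) =
      S.D.T * (2 + (if μ = μ' then 1 else 0) + if μ = μ'⁻¹ then 1 else 0) := by
  have hnorm : ∀ s : S.Tsub, conj (μ' s : ℂ) = ((μ'⁻¹ s : ℂˣ) : ℂ) := by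
    intro s
    have hT : (μ' s : ℂ) ^ S.D.T = 1 := by
      rw [← Units.val_pow_eq_pow_val, ← map_pow,
        show s ^ S.D.T = 1 from Subtype.ext (by rw [SubmonoidClass.coe_pow]; exact S.Tsub_pow s.2),
        map_one, Units.val_one]
    rw [MonoidHom.inv_apply, Units.val_inv_eq_inv_val, Complex.inv_def,
      Complex.normSq_eq_norm_sq,
      Complex.norm_eq_one_of_pow_eq_one hT (by have := S.D.T_facts.2; omega)]
    simp
  have e : ∀ s : S.Tsub, (1 - (μ s : ℂ)) * (conj (1 - (μ' s : ℂ)) + conj (1 - (μ' s⁻¹ : ℂ))) =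
      2 - 2 * (μ s : ℂ) - ((μ'⁻¹ s : ℂˣ) : ℂ) - (μ' s : ℂ) + ((μ * μ'⁻¹) s : ℂˣ) + ((μ * μ') s : ℂˣ) := by
    intro s
    rw [map_sub, map_sub, map_one, hnorm, hnorm]
    simp only [MonoidHom.inv_apply, map_inv, inv_inv, MonoidHom.mul_apply, Units.val_mul]
    ring
  rw [Finset.sum_congr rfl fun s _ => e s]
  simp only [Finset.sum_add_distrib, Finset.sum_sub_distrib, ← Finset.mul_sum, Finset.sum_const,
    Finset.card_univ, nsmul_eq_mul, card_Tsub']
  rw [sum_hom_eq, sum_hom_eq, sum_hom_eq, sum_hom_eq, sum_hom_eq, if_neg h, if_neg h',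
    if_neg (show μ'⁻¹ ≠ 1 from fun e => h' (MonoidHom.ext fun s =>
      inv_eq_one.mp (DFunLike.congr_fun e s))), S.card_Tsub]
  have i1 : μ * μ'⁻¹ = 1 ↔ μ = μ' :=
    ⟨fun e => MonoidHom.ext fun s => mul_inv_eq_one.mp (DFunLike.congr_fun e s),
      fun e => MonoidHom.ext fun s => by simp [e]⟩
  have i2 : μ * μ' = 1 ↔ μ = μ'⁻¹ :=
    ⟨fun e => MonoidHom.ext fun s => mul_eq_one_iff_eq_inv.mp (DFunLike.congr_fun e s),
      fun e => MonoidHom.ext fun s => by simp [e]⟩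
  simp only [i1, i2]
  split_ifs <;> ring

/-- The inner products. -/
theorem Core.inner_psiC [Fintype A₀] {f f' : A₀ → ℂ} (hf' : IsGeneralizedCharacter A₀ f')
    (hgood : Good S f) (hgood' : Good S f') {μ μ' : S.Tsub →* ℂˣ} (h : μ ≠ 1) (h' : μ' ≠ 1)
    [Decidable (μ = μ')] [Decidable (μ = μ'⁻¹)] :
    classInner (X.psiC f μ) (X.psiC f' μ') =
      classInner f f' * (2 + (if μ = μ' then 1 else 0) + if μ = μ'⁻¹ then 1 else 0) := by
  classical
  haveI := Fintype.ofFinite S.Mc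
  haveI := Fintype.ofFinite S.Tsub
  rw [Core.psiC, classInner_indFun S.Mc _ (X.psiC_isGeneralized hf' μ').isClassFunction,
    classInner, X.card_Mc]
  have e : ∀ g : S.Mc, X.tfC f μ g * conj (X.psiC f' μ' g) = X.tfC f μ g *
      conj (X.tfC f' μ' g + X.tfC f' μ' (X.el (X.pA g) (X.pT g)⁻¹)) := by
    intro g
    by_cases hg : X.tfC f μ g = 0
    · rw [hg, zero_mul, zero_mul]
    · rw [X.indFun_Mc hf' hgood hgood' hg]
  rw [Finset.sum_congr rfl fun g _ => e g, X.sum_Mc]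
  simp only [X.pA_mk, X.pT_mk, X.tfC_mk, map_add, map_mul, ← mul_add]
  simp only [mul_assoc, mul_left_comm (1 - (μ _ : ℂ)) (conj (f' _)), ← Finset.mul_sum,
    sum_one_sub h h', ← Finset.sum_mul]
  rw [classInner, Nat.card_eq_fintype_card]
  simp only [← mul_assoc, ← Finset.sum_mul]
  have hT := S.T_ne
  field_simp
  split_ifs <;> ring

/-- The multiplicity of the trivial character. -/
theorem Core.mC_one [Fintype A₀] {f : A₀ → ℂ} (hf : IsGeneralizedCharacter A₀ f)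
    {μ : S.Tsub →* ℂˣ} (h : μ ≠ 1) {one : IrrCharacter G} (h1 : (one : G → ℂ) = fun _ => 1)
    {n : ℤ} (hn : classInner f (fun _ => 1) = n) : X.mC f μ one = n := by
  classical
  haveI := Fintype.ofFinite S.Mc
  haveI := Fintype.ofFinite S.Tsub
  refine Int.cast_injective (α := ℂ) ?_
  rw [← X.mC_spec hf, h1, Core.psiC, classInner_indFun S.Mc _ (fun _ _ => rfl), classInner,
    X.card_Mc, X.sum_Mc, ← hn, classInner, Nat.card_eq_fintype_card]
  simp only [X.tfC_mk, map_one, mul_one, ← Finset.mul_sum, Finset.sum_sub_distrib,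
    Finset.sum_const, Finset.card_univ, card_Tsub', nsmul_eq_mul, sum_hom_eq, if_neg h, sub_zero,
    ← Finset.sum_mul]
  have hT := S.T_ne
  field_simp

theorem Core.psiC_invol (f : A₀ → ℂ) (μ : S.Tsub →* ℂˣ) {x : G} (hx : x * x = 1) :
    X.psiC f μ x = 0 := by
  classical
  refine indFun_invol_eq_zero S.Mc (fun k hk => ?_) hx
  by_contra hne
  refine (X.pT_ne_of_tfC hne).2 (Subtype.ext (S.Tsub_sq_eq_one (X.pT k).2 ?_))
  have h2 : X.pT k * X.pT k = 1 := by
    rw [← map_mul, show k * k = 1 from Subtype.ext hk, map_one]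
  exact congrArg Subtype.val h2

theorem Core.sum_mC_one {f : A₀ → ℂ} (hf : IsGeneralizedCharacter A₀ f) (μ : S.Tsub →* ℂˣ) :
    ∑ χ : IrrCharacter G, (X.mC f μ χ : ℂ) * (χ : G → ℂ) 1 = 0 := by
  rw [← X.psiC_eq_sum hf, X.psiC_invol f μ (one_mul 1)]

theorem Core.sum_mC_t {f : A₀ → ℂ} (hf : IsGeneralizedCharacter A₀ f) (μ : S.Tsub →* ℂˣ) :
    ∑ χ : IrrCharacter G, (X.mC f μ χ : ℂ) * (χ : G → ℂ) S.t = 0 := by
  rw [← X.psiC_eq_sum hf, X.psiC_invol f μ S.t_sq]

/-- The inner products with the columns. -/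
theorem Core.inner_W [Fintype A₀] [DecidableEq A₀] {f : A₀ → ℂ}
    (heven : ∀ a : A₀, 2 ∣ orderOf a → a * a = 1) {μ : S.Tsub →* ℂˣ} (h : μ ≠ 1) (j : Fin 3) :
    classInner (X.psiC f μ) (S.W j) = ![(0 : ℂ), -4, -4] j *
      (∑ a ∈ involFinset A₀, f a) / Fintype.card A₀ := by
  classical
  haveI := Fintype.ofFinite S.Mc
  haveI := Fintype.ofFinite S.Tsub
  rw [Core.psiC, classInner_indFun S.Mc _ (S.W_isGeneralized j).isClassFunction, classInner,
    X.card_Mc, X.sum_Mc]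
  have e : ∀ (a : A₀) (s : S.Tsub), X.tfC f μ (X.el a s) * conj (S.W j (X.el a s : G)) =
      (if a ∈ involFinset A₀ then ![(0 : ℂ), -4, -4] j * f a else 0) * (1 - (μ s : ℂ)) := by
    intro a s
    rw [X.tfC_mk]
    by_cases hs : s = 1
    · subst hs; simp
    split_ifs with ha
    · obtain ⟨ha1, ha2⟩ := mem_involFinset.1 ha
      obtain ⟨c, hc, hca⟩ := X.invol _ (X.e.symm a).2
        (by rw [← Subgroup.coe_mul, ← map_mul, ha2, map_one, OneMemClass.coe_one])
        (fun e => ha1 (by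
          have : X.e.symm a = 1 := Subtype.ext e
          simpa using this))
      obtain ⟨l, hl, hle⟩ := S.mem_Tsub.mp s.2
      have hcs : c * (s : G) * c⁻¹ = s := mul_inv_eq_iff_eq_mul.mpr (X.comm c hc _ s.2)
      have hl1 : l ≠ 1 := fun e => hs (Subtype.ext (by rw [hle, e, map_one]; rfl))
      have hW : S.W j (X.el a s : G) = 2 * S.D.Phi j l := by
        rw [← S.W_sect j (S.D.odd_of_pow_T (S.D.pow_T_of_mem hl)),
          ← (S.W_isGeneralized j).isClassFunction (X.el a s : G) c, X.el_coe, conj_mul', hca, hcs,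
          hle]
      rw [hW, S.D.Phi_torus hl hl1]
      fin_cases j <;> simp [map_ofNat] <;> ring
    · rw [zero_mul, S.W_odd j, map_zero, mul_zero]
      intro h2
      rw [Subgroup.orderOf_coe] at h2
      have ha2 : ¬ 2 ∣ orderOf a := fun h => by
        have h' := heven a h
        refine ha (mem_involFinset.2 ⟨fun e => ?_, h'⟩)
        rw [e, orderOf_one] at h; omega
      have hpow : X.el a s ^ (orderOf a * S.D.T) = 1 := by
        rw [← X.el_pA_pT (X.el a s ^ _), map_pow, map_pow, X.pA_mk, X.pT_mk, pow_mul,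
          pow_orderOf_eq_one, one_pow, mul_comm, pow_mul,
          show s ^ S.D.T = 1 from Subtype.ext (by rw [SubmonoidClass.coe_pow]; exact S.Tsub_pow s.2),
          one_pow]
        exact map_one X.prodEquiv ▸ congrArg X.prodEquiv (Prod.ext (map_one _) rfl)
      rcases (Nat.Prime.dvd_mul Nat.prime_two).1 (h2.trans (orderOf_dvd_of_pow_eq_one hpow)) with h | h
      · exact ha2 h
      · have := S.D.T_facts.1; omega
  simp only [e, ← Finset.mul_sum, Finset.sum_sub_distrib, Finset.sum_const, Finset.card_univ,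
    card_Tsub', nsmul_eq_mul, sum_hom_eq, if_neg h, ← Finset.sum_mul, Finset.sum_ite_mem,
    Finset.univ_inter]
  have hT := S.T_ne
  field_simp
  ring

variable [IsSimpleGroup G] (hna : ¬ IsMulCommutative G)
include hna

/-- The pair equation. -/
theorem Core.pair_psiC [Fintype A₀] [DecidableEq A₀] {f : A₀ → ℂ}
    (hf : IsGeneralizedCharacter A₀ f) (hgood : Good S f) (μ : S.Tsub →* ℂˣ) (h : μ ≠ 1) :
    ((S.C).index : ℂ) * ∑ χ : IrrCharacter G,
        (X.mC f μ χ : ℂ) * ((χ : G → ℂ) S.t ^ 2 / (χ : G → ℂ) 1) =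
      (S.D.Q : ℂ) * (S.D.Q - 1) * (S.D.Q + 1) ^ 2 *
        (∑ a, f a * ((Finset.univ.filter fun b : A₀ => b * b = 1 ∧ b * a * b⁻¹ = a⁻¹).card : ℂ)) /
          (4 * Fintype.card A₀) := by
  classical
  haveI := Fintype.ofFinite S.Mc
  haveI := Fintype.ofFinite S.Tsub
  set pc : G → ℂ := fun g =>
    ((involFinset G).filter fun x => x * g ∈ involFinset G).card with hpc
  have hpcF : IsClassFunction G pc := by
    intro g k
    simp only [hpc, Nat.cast_inj]
    refine Finset.card_nbij' (fun x => k⁻¹ * x * k) (fun x => k * x * k⁻¹) ?_ ?_ ?_ ?_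
    · intro x hx
      simp only [Finset.mem_coe, Finset.mem_filter] at hx ⊢
      refine ⟨by simpa using conj_mem_involFinset k⁻¹ hx.1, ?_⟩
      have := conj_mem_involFinset k⁻¹ hx.2
      rwa [show k⁻¹ * (x * (k * g * k⁻¹)) * (k⁻¹)⁻¹ = k⁻¹ * x * k * g by group] at this
    · intro x hx
      simp only [Finset.mem_coe, Finset.mem_filter] at hx ⊢
      refine ⟨conj_mem_involFinset k hx.1, ?_⟩
      have := conj_mem_involFinset k hx.2
      rwa [show k * (x * g) * k⁻¹ = k * x * k⁻¹ * (k * g * k⁻¹) by group] at this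
    · intro x _; simp [mul_assoc]
    · intro x _; simp [mul_assoc]
  set F := X.psiC f μ with hF
  have hsum : ∑ x ∈ involFinset G, ∑ y ∈ involFinset G, F (x * y) = ∑ g : G, pc g * F g := by
    have e : ∀ x ∈ involFinset G, ∑ y ∈ involFinset G, F (x * y) =
        ∑ g : G, if x * g ∈ involFinset G then F g else 0 := by
      intro x hx
      rw [← Finset.sum_filter]
      have hxx := (mem_involFinset.1 hx).2
      refine Finset.sum_nbij' (fun y => x * y) (fun g => x * g) ?_ ?_ ?_ ?_ fun y _ => rfl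
      · intro y hy
        simp only [Finset.mem_filter, Finset.mem_univ, true_and]
        rw [← mul_assoc, hxx, one_mul]; exact hy
      · intro g hg
        exact (Finset.mem_filter.1 hg).2
      · intro y _; simp [← mul_assoc, hxx]
      · intro g _; simp [← mul_assoc, hxx]
    rw [Finset.sum_congr rfl e, Finset.sum_comm]
    refine Finset.sum_congr rfl fun g _ => ?_
    rw [← Finset.sum_filter, Finset.sum_const, nsmul_eq_mul]
  set cA : A₀ → ℂ := fun a =>
    ((Finset.univ.filter fun b : A₀ => b * b = 1 ∧ b * a * b⁻¹ = a⁻¹).card : ℂ) with hcA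
  have hpcM : ∀ (a : A₀) (s : S.Tsub), X.tfC f μ (X.el a s) * pc (X.el a s : G) =
      f a * cA a * ((1 - (μ s : ℂ)) * S.D.T) := by
    intro a s
    rw [X.tfC_mk]
    by_cases hfa : f a = 0
    · rw [hfa]; ring
    by_cases hs : s = 1
    · subst hs; simp
    suffices hcard : pc (X.el a s : G) = cA a * S.D.T by rw [hcard]; ring
    rw [← card_Tsub', hpc, hcA]
    simp only [← Nat.cast_mul, Nat.cast_inj]
    rw [← Finset.card_univ, ← Finset.card_product]
    symm
    refine Finset.card_nbij (fun p : A₀ × S.Tsub => (X.el p.1 p.2 : G) * X.ι) ?_ ?_ ?_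
    · rintro ⟨b, σ⟩ hb
      obtain ⟨hb2, hba⟩ := (Finset.mem_filter.1 (Finset.mem_product.1 hb).1).2
      set y := (X.el b σ : G) * X.ι with hy
      have hyy : y * y = 1 := by
        have e1 : y * y = (X.el b σ : G) * (X.ι * (X.el b σ : G) * X.ι⁻¹) * (X.ι * X.ι) := by
          rw [hy]; group
        rw [e1, X.ι_conj_mk, X.ι_sq, mul_one, ← Subgroup.coe_mul, OneMemClass.coe_eq_one,
          ← X.el_pA_pT (X.el b σ * X.el b σ⁻¹), map_mul, map_mul, X.pA_mk, X.pA_mk, X.pT_mk,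
          X.pT_mk, hb2, mul_inv_cancel]
        exact map_one X.prodEquiv ▸ congrArg X.prodEquiv (Prod.ext (map_one _) rfl)
      have hyM : y ∉ S.Mc := fun hm => X.ι_not_mem (by
        have := mul_mem (inv_mem (X.el b σ).2) hm
        rwa [hy, inv_mul_cancel_left] at this)
      have hinv : y * (X.el a s : G) * y⁻¹ = ((X.el a s : S.Mc) : G)⁻¹ := by
        rw [hy, show (X.el b σ : G) * X.ι * (X.el a s : G) * ((X.el b σ : G) * X.ι)⁻¹ =
          (X.el b σ : G) * (X.ι * (X.el a s : G) * X.ι⁻¹) * (X.el b σ : G)⁻¹ by group, X.ι_conj_mk,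
          ← Subgroup.coe_inv, ← Subgroup.coe_inv, ← Subgroup.coe_mul, ← Subgroup.coe_mul]
        congr 1
        rw [← X.el_pA_pT (X.el b σ * X.el a s⁻¹ * (X.el b σ)⁻¹), ← X.el_pA_pT (X.el a s)⁻¹]
        simp only [map_mul, map_inv, X.pA_mk, X.pT_mk, hba]
        congr 1
        rw [Tsub_mul_comm σ, mul_inv_cancel_right]
      simp only [Finset.mem_coe, Finset.mem_filter]
      refine ⟨mem_involFinset.2 ⟨fun e => hyM (by rw [show y = 1 from e]; exact one_mem _), hyy⟩,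
        mem_involFinset.2 ⟨fun e => ?_, ?_⟩⟩
      · exact hyM (by
          rw [show y = ((X.el a s : S.Mc) : G)⁻¹ from eq_inv_of_mul_eq_one_left e]
          exact inv_mem (X.el a s).2)
      · calc y * (X.el a s : G) * (y * (X.el a s : G))
            = y * (X.el a s : G) * y⁻¹ * (y * y) * (X.el a s : G) := by group
          _ = 1 := by rw [hinv, hyy]; group
    · rintro ⟨b, σ⟩ _ ⟨b', σ'⟩ _ e
      have e' := Subtype.ext (mul_right_cancel e) (a1 := X.el b σ) (a2 := X.el b' σ')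
      have h1 := congrArg X.pA e'
      have h2 := congrArg X.pT e'
      rw [X.pA_mk, X.pA_mk] at h1
      rw [X.pT_mk, X.pT_mk] at h2
      exact Prod.ext h1 h2
    · intro x hx
      obtain ⟨hx1, hx2⟩ := Finset.mem_filter.1 hx
      have hxx := (mem_involFinset.1 hx1).2
      have hxk := (mem_involFinset.1 hx2).2
      have hi : x * (X.el a s : G) * x⁻¹ = ((X.el a s : S.Mc) : G)⁻¹ := by
        rw [inv_eq_of_mul_eq_one_right hxx]
        refine eq_inv_of_mul_eq_one_left ?_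
        rwa [mul_assoc]
      have hmem : x * (X.el a s : G) * x⁻¹ ∈ S.Mc := hi ▸ inv_mem (X.el a s).2
      have heq : (⟨_, hmem⟩ : S.Mc) = (X.el a s)⁻¹ := Subtype.ext hi
      rcases X.fused (g := X.el a s) (by rw [X.pT_mk]; exact hs)
          (by rw [X.pA_mk]; exact hgood a hfa) hmem
          (by rw [heq, map_inv, X.pA_mk]; exact hgood.inv hfa) with hm | hm
      · exfalso
        have e2 := congrArg X.pT (show (⟨x, hm⟩ * X.el a s * ⟨x, hm⟩⁻¹ : S.Mc) = (X.el a s)⁻¹ from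
          Subtype.ext hi)
        rw [map_mul, map_mul, map_inv, map_inv, X.pT_mk, Tsub_mul_comm (X.pT ⟨x, hm⟩),
          mul_inv_cancel_right] at e2
        exact hs (Subtype.ext (S.Tsub_sq_eq_one s.2
          (congrArg Subtype.val (mul_eq_one_iff_eq_inv.mpr e2))))
      · set b := X.pA ⟨_, hm⟩ with hb
        set σ := X.pT ⟨_, hm⟩ with hσ
        have hbm : (X.el b σ : G) = x * X.ι := congrArg Subtype.val (X.el_pA_pT ⟨_, hm⟩)
        have hxe : x = (X.el b σ : G) * X.ι := by rw [hbm, mul_assoc, X.ι_sq, mul_one]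
        refine ⟨(b, σ), Finset.mem_product.2
          ⟨Finset.mem_filter.2 ⟨Finset.mem_univ _, ?_, ?_⟩, Finset.mem_univ _⟩, hxe.symm⟩
        · have e1 : (X.el b σ * X.el b σ⁻¹ : S.Mc) = 1 := Subtype.ext (by
            rw [Subgroup.coe_mul, ← X.ι_conj_mk, OneMemClass.coe_one, X.ι_inv]
            calc (X.el b σ : G) * (X.ι * (X.el b σ : G) * X.ι) = x * x := by rw [hxe]; group
              _ = 1 := hxx)
          have e2 := congrArg X.pA e1
          rwa [map_mul, X.pA_mk, X.pA_mk, map_one] at e2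
        · have e1 : (X.el b σ * X.el a s⁻¹ * (X.el b σ)⁻¹ : S.Mc) = (X.el a s)⁻¹ := Subtype.ext (by
            rw [Subgroup.coe_mul, Subgroup.coe_mul, Subgroup.coe_inv, ← X.ι_conj_mk,
              Subgroup.coe_inv, ← hi, hxe]
            group)
          have e2 := congrArg X.pA e1
          simp only [map_mul, map_inv, X.pA_mk] at e2
          exact e2
  have h1 := sum_invol_pair_eq (X.psiC_isGeneralized hf μ).isClassFunction
  rw [hsum] at h1
  have hcl : ∀ χ : IrrCharacter G,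
      ∑ x ∈ involFinset G, (χ : G → ℂ) x = ((S.C).index : ℂ) * (χ : G → ℂ) S.t := fun χ => by
    have hs : involFinset G = classFinset S.t := by
      ext x
      rw [mem_involFinset, mem_classFinset]
      constructor
      · rintro ⟨h1, h2⟩
        obtain ⟨g, hg⟩ := S.exists_conj_t hna h2 h1
        exact isConj_iff.2 ⟨g, hg⟩
      · intro h
        obtain ⟨g, rfl⟩ := isConj_iff.1 h
        exact mem_involFinset.1 (conj_mem_involFinset g (mem_involFinset.2 ⟨S.t_ne, S.t_sq⟩))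
    rw [hs, Finset.sum_congr rfl fun x hx => ?_, Finset.sum_const, card_classFinset, nsmul_eq_mul]
    obtain ⟨g, rfl⟩ := isConj_iff.1 (mem_classFinset.1 hx)
    exact χ.2.isClassFunction _ _
  simp only [X.mC_spec hf, hcl] at h1
  have h2 := classInner_indFun S.Mc (X.tfC f μ) hpcF
  have hconj : ∀ g, conj (pc g) = pc g := fun g => Complex.conj_natCast _
  simp only [classInner, hconj] at h2
  rw [X.card_Mc, X.sum_Mc] at h2
  simp only [hpcM, ← Finset.mul_sum, ← Finset.sum_mul, Finset.sum_sub_distrib, Finset.sum_const,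
    Finset.card_univ, card_Tsub', nsmul_eq_mul, sum_hom_eq, if_neg h] at h2
  rw [show ∑ g, pc g * F g = ∑ g, indFun S.Mc (X.tfC f μ) g * pc g from
    Finset.sum_congr rfl fun g _ => mul_comm _ _] at h1
  rw [inv_mul_eq_iff_eq_mul₀ Char.card_cast_ne_zero] at h2
  rw [h2] at h1
  have hG : (Nat.card G : ℂ) =
      ((S.C).index : ℂ) * ((S.D.Q : ℂ) * (S.D.Q - 1) * (S.D.Q + 1) * S.D.σ) := by
    rw [S.card_G]
    have h1 : 1 ≤ S.D.q * S.D.q := Nat.one_le_iff_ne_zero.2 (mul_ne_zero S.D.q_ne S.D.q_ne)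
    have hq : (S.D.q : ℂ) = S.D.σ * S.D.Q := by exact_mod_cast S.D.q_eq_σQ
    have hs := S.D.σC_sq
    push_cast [Nat.cast_sub h1]
    rw [hq]
    linear_combination ((S.C).index : ℂ) * (S.D.σ : ℂ) * (S.D.Q : ℂ) ^ 3 * hs
  have e4 : (S.D.σ : ℂ) * S.D.T = ((S.D.Q : ℂ) + 1) / 4 := by
    have : (4 * S.D.σ * S.D.T : ℂ) = S.D.Q + 1 := by exact_mod_cast S.D.four_T
    linear_combination this / 4
  have hN : ((S.C).index : ℂ) ≠ 0 := Nat.cast_ne_zero.2 index_ne_zero_of_finite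
  have hT := S.T_ne
  have hA : (Fintype.card A₀ : ℂ) ≠ 0 := Nat.cast_ne_zero.2 Fintype.card_ne_zero
  refine mul_left_cancel₀ hN ?_
  rw [Finset.mul_sum, Finset.mul_sum,
    Finset.sum_congr rfl fun χ _ => show ((S.C).index : ℂ) * (((S.C).index : ℂ) *
      ((X.mC f μ χ : ℂ) * ((χ : G → ℂ) S.t ^ 2 / (χ : G → ℂ) 1))) =
      (X.mC f μ χ : ℂ) * ((((S.C).index : ℂ) * (χ : G → ℂ) S.t) ^ 2 / (χ : G → ℂ) 1) by ring,
    ← h1, hG]
  field_simp
  rw [show (S.D.Q : ℂ) + 1 = 4 * ((S.D.σ : ℂ) * S.D.T) by rw [e4]; ring]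
  simp only [hcA]
  ring

omit hna

/-- The power maps. -/
theorem Core.psiC_pow {k : ℕ} (hk : k.Coprime (Nat.card G)) (hkT : k % S.D.T = 1)
    (f : A₀ → ℂ) (μ : S.Tsub →* ℂˣ) (g : G) :
    X.psiC f μ (g ^ k) = X.psiC (fun a => f (a ^ k)) μ g := by
  classical
  simp only [Core.psiC, indFun]
  congr 1
  refine Finset.sum_congr rfl fun x _ => ?_
  have e : x⁻¹ * g ^ k * x = (x⁻¹ * g * x) ^ k := by
    rw [show x⁻¹ * g * x = x⁻¹ * g * (x⁻¹)⁻¹ by group, conj_pow]; group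
  rw [e]
  set w := x⁻¹ * g * x
  by_cases hw : w ∈ S.Mc
  · rw [extendByZero_of_mem _ _ (pow_mem hw k), extendByZero_of_mem _ _ hw,
      show (⟨w ^ k, pow_mem hw k⟩ : S.Mc) = ⟨w, hw⟩ ^ k from rfl, Core.tfC, Core.tfC, map_pow,
      map_pow]
    congr 4
    refine Subtype.ext ?_
    rw [SubmonoidClass.coe_pow, ← Nat.div_add_mod k S.D.T, hkT, pow_succ, pow_mul,
      S.Tsub_pow (X.pT _).2, one_pow, one_mul]
  · have hw' : w ^ k ∉ S.Mc := fun h => hw (by
      have hc : (orderOf w).Coprime k :=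
        Nat.Coprime.coprime_dvd_left (orderOf_dvd_natCard w) hk.symm
      obtain ⟨m, hm⟩ := exists_pow_eq_self_of_coprime hc.symm
      rw [← hm]
      exact pow_mem h m)
    rw [extendByZero_of_notMem _ _ hw', extendByZero_of_notMem _ _ hw]

/-- The multiplicities under the power maps. -/
theorem Core.mC_pow {k : ℕ} (hk : k.Coprime (Nat.card G)) (hkT : k % S.D.T = 1)
    {f f' : A₀ → ℂ} (hf : IsGeneralizedCharacter A₀ f) (hf' : IsGeneralizedCharacter A₀ f')
    (e : ∀ a, f (a ^ k) = f' a) (μ : S.Tsub →* ℂˣ) {χ χ' : IrrCharacter G}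
    (hχ : (χ' : G → ℂ) = fun g => (χ : G → ℂ) (g ^ k)) :
    X.mC f' μ χ' = X.mC f μ χ := by
  refine Int.cast_injective (α := ℂ) ?_
  rw [← X.mC_spec hf', ← X.mC_spec hf, classInner, classInner, hχ]
  congr 1
  refine Fintype.sum_equiv (powCoprime hk.symm) _ _ fun g => ?_
  rw [powCoprime_apply, X.psiC_pow hk hkT, funext e]

end Setup

end Cfsg.Lib.Walter8
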