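import Cfsg.Agent.Lib.Walter8.Fusion
import Mathlib.GroupTheory.SpecificGroups.Alternating

/-!
# The configuration when the rotation fixes the torus

The centralizer of the odd torus is a direct product with an alternating group of degree four or
five, and an involution centralizes the second factor and inverts the first.
-/

set_option autoImplicit false
set_option linter.unusedSectionVars false
set_option linter.style.haveILetI false

namespace Cfsg.Lib.Walter8

open Subgroup

universe u

namespace Setup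

variable {G L : Type u} [Group G] [Group L]

/-- The centralizer of the generator of the odd torus. -/
abbrev Mc (S : Setup G L) : Subgroup G := centralizer ({S.φ S.D.y} : Set G)

/-- `C(τ) = A × ⟨φ y⟩` for every nontrivial `τ` in the torus, with an involution `ι` centralizing
`A` and inverting `⟨φ y⟩`. -/
structure Core (S : Setup G L) (A₀ : Type) [Group A₀] where
  A : Subgroup G
  ι : G
  e : A ≃* A₀
  comm : ∀ a ∈ A, ∀ s ∈ S.Tsub, a * s = s * a
  cover : ∀ τ ∈ S.Tsub, τ ≠ 1 → ∀ g : G, g * τ = τ * g → ∃ a ∈ A, ∃ s ∈ S.Tsub, g = a * s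
  disj : ∀ a ∈ A, a ∈ S.Tsub → a = 1
  four_le : ∀ v, S.InV v → v ∈ A
  invol : ∀ a ∈ A, a * a = 1 → a ≠ 1 → ∃ c ∈ A, c * a * c⁻¹ = S.t
  ι_sq : ι * ι = 1
  ι_A : ∀ a ∈ A, ι * a = a * ι
  ι_T : ∀ s ∈ S.Tsub, ι * s * ι⁻¹ = s⁻¹
  swap : ∀ x ∈ normalizer (S.Mc : Set G), x ∈ S.Mc ∨ x * ι ∈ S.Mc

end Setup

end Cfsg.Lib.Walter8
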