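import Cfsg.Agent.Lib.Walter8.TrivDef

/-!
# Preparations for the configuration at a fixed torus

A rotation centralized by an involution inverting the torus, the swap of `C(φ y)` in its normalizer,
and conjugation of elements of prime order into the torus.
-/

set_option autoImplicit false
set_option linter.unusedSectionVars false
set_option linter.unusedVariables false
set_option linter.style.haveILetI false

namespace Cfsg.Lib.Walter8

open Subgroup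

universe u

namespace Setup

variable {G L : Type u} [Group G] [Group L] {S : Setup G L}

theorem mem_cent_y {g : G} (hg : g * S.φ S.D.y = S.φ S.D.y * g) {s : G} (hs : s ∈ S.Tsub) :
    g * s = s * g := by
  obtain ⟨k, rfl⟩ := mem_zpowers_iff.mp hs
  exact (Commute.zpow_right hg k).eq

theorem Rot.triv_pow {R : Rot S} (hR : R.Triv) (j : ℕ) {s : G} (hs : s ∈ S.Tsub) :
    R.ρ ^ j * s = s * R.ρ ^ j :=
  (Commute.pow_left (hR s hs) j).eq

/-- The normalizer of the torus fixes or inverts it. -/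
theorem Rot.conj_y [Finite G] [IsSimpleGroup G] {R : Rot S} (hR : R.Triv) {g : G} (hg : g ∈ S.Nm) :
    g * S.φ S.D.y * g⁻¹ = S.φ S.D.y ∨ g * S.φ S.D.y * g⁻¹ = (S.φ S.D.y)⁻¹ := by
  obtain ⟨⟨j, b⟩, k, hk, rfl⟩ := R.exists_rep hg
  rw [R.rep_torus (j, b) hk S.φy_mem]
  cases b
  · left
    simp only [Bool.false_eq_true, if_false]
    exact mul_inv_eq_iff_eq_mul.mpr (Rot.triv_pow hR _ S.φy_mem)
  · right
    simp only [if_true]
    exact mul_inv_eq_iff_eq_mul.mpr (Rot.triv_pow hR _ (inv_mem S.φy_mem))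

/-- A rotation and an involution inverting the torus which commute. -/
theorem Rot.exists_fix [Finite G] [IsSimpleGroup G] {R : Rot S} (hR : R.Triv) :
    ∃ R' : Rot S, R'.Triv ∧ ∃ ι : G, ι * ι = 1 ∧ (∀ s ∈ S.Tsub, ι * s * ι⁻¹ = s⁻¹) ∧
      (∀ v, S.InV v → ι * v = v * ι) ∧ ι * R'.ρ = R'.ρ * ι := by
  obtain ⟨hii, hit, hiz, hiτ⟩ := S.ι_facts
  set i := S.φ S.D.i with hi
  set ρ := R.ρ with hρ
  have hiV : ∀ v, S.InV v → i * v * i⁻¹ = v := by
    rintro v (rfl | rfl | rfl | rfl)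
    · group
    · exact hit
    · exact hiz
    · rw [conj_mul', hit, hiz]
  -- the conjugate rotation is `ρ v s`
  have hm : i * ρ * i⁻¹ ∈ S.Nm := mul_mem (mul_mem S.ι_mem_Nm R.mem) (inv_mem S.ι_mem_Nm)
  obtain ⟨⟨j, b⟩, k, hk, hjk⟩ := R.exists_rep hm
  have hit' : i⁻¹ * S.t * i = S.t := by
    calc i⁻¹ * S.t * i = i⁻¹ * (i * S.t * i⁻¹) * i := by rw [hit]
      _ = S.t := by group
  have hact : i * ρ * i⁻¹ * S.t * (i * ρ * i⁻¹)⁻¹ = S.φ S.D.z := by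
    calc i * ρ * i⁻¹ * S.t * (i * ρ * i⁻¹)⁻¹ = i * (ρ * (i⁻¹ * S.t * i) * ρ⁻¹) * i⁻¹ := by group
      _ = S.φ S.D.z := by rw [hit', R.rt, hiz]
  rw [hjk, R.rep_t (j, b) hk] at hact
  have hj : j = 1 := by
    obtain ⟨-, -, -, h4, -, h6⟩ := S.tz_facts
    fin_cases j
    · exact absurd hact.symm h4
    · rfl
    · exact absurd hact h6
  subst hj
  have hy : i * ρ * i⁻¹ * S.φ S.D.y * (i * ρ * i⁻¹)⁻¹ = S.φ S.D.y := by
    have h1 : i⁻¹ * S.φ S.D.y * i = (S.φ S.D.y)⁻¹ := by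
      calc i⁻¹ * S.φ S.D.y * i = i⁻¹ * (S.φ S.D.y⁻¹)⁻¹ * i := by rw [map_inv, inv_inv]
        _ = i⁻¹ * (i * S.φ S.D.y⁻¹ * i⁻¹) * i := by rw [hiτ _ (by rw [map_inv]; exact inv_mem S.φy_mem)]
        _ = (S.φ S.D.y)⁻¹ := by rw [map_inv]; group
    calc i * ρ * i⁻¹ * S.φ S.D.y * (i * ρ * i⁻¹)⁻¹ = i * (ρ * (i⁻¹ * S.φ S.D.y * i) * ρ⁻¹) * i⁻¹ := by group
      _ = S.φ S.D.y := by
        rw [h1, mul_inv_eq_iff_eq_mul.mpr (hR _ (inv_mem S.φy_mem)), hiτ _ (inv_mem S.φy_mem), inv_inv]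
  rw [hjk, R.rep_torus (1, b) hk S.φy_mem] at hy
  have hb : b = false := by
    cases b
    · rfl
    · exfalso
      simp only [if_true] at hy
      rw [mul_inv_eq_iff_eq_mul.mpr (Rot.triv_pow hR _ (inv_mem S.φy_mem))] at hy
      exact S.φy_ne (eq_one_of_inv_eq S.φy_mem hy)
  subst hb
  obtain ⟨v, hv, s, hs, rfl⟩ := S.exists_mul_of_mem_K hk
  have hconj : i * ρ * i⁻¹ = ρ * (v * s) := by rw [hjk]; simp [rep, hρ]
  -- `(ρ v)³ = 1`, so `s³ = 1`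
  have h3 : ρ * v * (ρ * v) * (ρ * v) = 1 := by
    have e : ρ * v * (ρ * v) * (ρ * v) =
        (ρ * v * ρ⁻¹) * (ρ * (ρ * v * ρ⁻¹) * ρ⁻¹) * (ρ * ρ * ρ * v) := by group
    rw [e, R.cube, one_mul]
    rcases hv with rfl | rfl | rfl | rfl
    · group
    · rw [R.rt, R.rz, mul_assoc, mul_assoc, ← S.comm, S.t_mul_t_mul]; exact S.z_inV.sq
    · rw [R.rz, R.rtz, mul_assoc]; exact S.tz_inV.sq
    · rw [R.rtz, R.rt]; exact S.tz_inV.sq
  have hcρv : Commute (ρ * v) s :=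
    (show Commute ρ s from hR s hs).mul_left (S.K_comm hv.mem_K (S.Tsub_le hs))
  have hs3 : s ^ 3 = 1 := by
    have h : (ρ * v * s) ^ 3 = 1 := by
      rw [mul_assoc, ← hconj, conj_pow, R.pow_cube]; group
    rwa [hcρv.mul_pow, show (ρ * v) ^ 3 = ρ * v * (ρ * v) * (ρ * v) by simp [pow_succ], h3,
      one_mul] at h
  have hs2 : s * s = s⁻¹ := eq_inv_of_mul_eq_one_left (by rw [← hs3]; simp [pow_succ])
  have hρs : Commute ρ (s * s) := hR _ (mul_mem hs hs)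
  have hfix : ∀ w, S.InV w → s * s * w * (s * s)⁻¹ = w := fun w hw =>
    mul_inv_eq_iff_eq_mul.mpr (S.K_comm (S.Tsub_le (mul_mem hs hs)) hw.mem_K)
  have hkey : ∀ w, S.InV w → ρ * (s * s) * w * (ρ * (s * s))⁻¹ = ρ * w * ρ⁻¹ := fun w hw => by
    rw [show ρ * (s * s) * w * (ρ * (s * s))⁻¹ = ρ * (s * s * w * (s * s)⁻¹) * ρ⁻¹ by group, hfix w hw]
  let R' : Rot S :=
    { ρ := ρ * (s * s)
      mem := mul_mem R.mem (S.mem_Nm_of_four fun w hw => by rw [hfix w hw]; exact hw)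
      cube := by
        rw [show ρ * (s * s) * (ρ * (s * s)) * (ρ * (s * s)) = (ρ * (s * s)) ^ 3 by simp [pow_succ],
          hρs.mul_pow, R.pow_cube, ← sq, ← pow_mul, show 2 * 3 = 3 * 2 by rfl, pow_mul, hs3, one_pow, one_mul]
      rt := (hkey _ S.t_inV).trans R.rt
      rz := (hkey _ S.z_inV).trans R.rz
      rtz := (hkey _ S.tz_inV).trans R.rtz }
  have hR' : R'.Triv := fun σ hσ =>
    ((show Commute ρ σ from hR σ hσ).mul_left (S.Tsub_comm (mul_mem hs hs) hσ)).eq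
  have hconj' : i * R'.ρ * i⁻¹ = R'.ρ * v := by
    show i * (ρ * (s * s)) * i⁻¹ = ρ * (s * s) * v
    calc i * (ρ * (s * s)) * i⁻¹ = ρ * (v * s) * (s * s)⁻¹ := by
          rw [conj_mul', hconj, hiτ _ (mul_mem hs hs)]
      _ = ρ * (v * s⁻¹) := by group
      _ = ρ * (s * s) * v := by
          rw [← hs2, mul_assoc, S.K_comm (S.Tsub_le (mul_mem hs hs)) hv.mem_K]
  -- correct the involution by an element of the four-group
  obtain ⟨w, hw, hwv⟩ : ∃ w, S.InV w ∧ v * (R'.ρ⁻¹ * w * R'.ρ * w) = 1 := by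
    have hback : ∀ a b : G, R'.ρ * a * R'.ρ⁻¹ = b → R'.ρ⁻¹ * b * R'.ρ = a := by
      rintro a b rfl; group
    rcases hv with rfl | rfl | rfl | rfl
    · exact ⟨1, Or.inl rfl, by group⟩
    · refine ⟨_, S.tz_inV, ?_⟩
      rw [hback _ _ R'.rz, ← S.K_comm S.tz_inV.mem_K S.φz_mem_K, mul_assoc S.t (S.φ S.D.z), S.z_inV.sq,
        mul_one, S.t_sq]
    · refine ⟨_, S.t_inV, ?_⟩
      rw [hback _ _ R'.rtz, mul_assoc S.t, ← S.comm, S.t_mul_t_mul]
      exact S.z_inV.sq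
    · refine ⟨_, S.z_inV, ?_⟩
      rw [hback _ _ R'.rt]
      exact S.tz_inV.sq
  have hwi : i * w = w * i := mul_inv_eq_iff_eq_mul.mp (hiV w hw)
  refine ⟨R', hR', i * w, ?_, fun σ hσ => ?_, fun u hu => ?_, ?_⟩
  · calc i * w * (i * w) = i * w * (w * i) := by rw [hwi]
      _ = i * (w * w) * i := by group
      _ = 1 := by rw [hw.sq, mul_one, hii]
  · rw [show i * w * σ * (i * w)⁻¹ = i * (w * σ * w⁻¹) * i⁻¹ by group,
      mul_inv_eq_iff_eq_mul.mpr (S.K_comm hw.mem_K (S.Tsub_le hσ)), hiτ σ hσ]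
  · rw [mul_assoc, S.K_comm hw.mem_K hu.mem_K, ← mul_assoc, mul_inv_eq_iff_eq_mul.mp (hiV u hu), mul_assoc]
  · refine mul_inv_eq_iff_eq_mul.mp ?_
    calc i * w * R'.ρ * (i * w)⁻¹ = i * (R'.ρ * (R'.ρ⁻¹ * w * R'.ρ * w⁻¹)) * i⁻¹ := by group
      _ = i * R'.ρ * i⁻¹ * (i * (R'.ρ⁻¹ * w * R'.ρ * w⁻¹) * i⁻¹) := conj_mul' _ _ _
      _ = R'.ρ * v * (R'.ρ⁻¹ * w * R'.ρ * w) := by
        rw [hconj', inv_eq_of_mul_eq_one_right hw.sq]
        congr 1
        refine hiV _ (S.mem_Vsub.mp ?_)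
        have : R'.ρ⁻¹ * w * R'.ρ ∈ S.Vsub := by
          have := S.conj_inV (inv_mem R'.mem) hw
          rw [inv_inv] at this
          exact S.mem_Vsub.mpr this
        exact mul_mem this (S.mem_Vsub.mpr hw)
      _ = R'.ρ := by rw [mul_assoc, hwv, mul_one]

/-- The elements normalizing `C(φ y)` centralize or invert the torus. -/
theorem swap_of_inv [Finite G] [IsSimpleGroup G] (hna : ¬ IsMulCommutative G) {R : Rot S} (hR : R.Triv) {ι : G}
    (hι : ∀ s ∈ S.Tsub, ι * s * ι⁻¹ = s⁻¹) {x : G} (hx : x ∈ normalizer (S.Mc : Set G)) :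
    x ∈ S.Mc ∨ x * ι ∈ S.Mc := by
  haveI : Fact (Nat.Prime 2) := ⟨Nat.prime_two⟩
  obtain ⟨P, hP⟩ := S.four_sylow hna S.φy_mem S.φy_ne
  have hmem : ∀ {g : G}, g ∈ S.Mc ↔ g * S.φ S.D.y = S.φ S.D.y * g := mem_centralizer_singleton_iff
  set W := S.Vsub.map (MulAut.conj x).toMonoidHom
  have hWle : W ≤ S.Mc := by
    rintro _ ⟨v, hv, rfl⟩
    exact (mem_normalizer_iff.mp hx v).mp (hmem.mpr (S.K_comm hv.1 (S.Tsub_le S.φy_mem)))
  have hW2 : IsPGroup 2 (W.subgroupOf S.Mc) := IsPGroup.of_card (n := 2) (by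
    rw [Nat.card_congr (subgroupOfEquivOfLe hWle).toEquiv, card_map_of_injective (MulAut.conj x).injective,
      S.card_Vsub]
    norm_num)
  obtain ⟨Q, hQ⟩ := hW2.exists_le_sylow
  obtain ⟨c, hc⟩ := MulAction.exists_smul_eq S.Mc P Q
  have hN : (c : G)⁻¹ * x ∈ S.Nm := by
    refine S.mem_Nm_of_four fun v hv => ?_
    have hxv : x * v * x⁻¹ ∈ W := ⟨v, S.mem_Vsub.mpr hv, rfl⟩
    have hQv : (⟨_, hWle hxv⟩ : S.Mc) ∈ (Q : Subgroup S.Mc) := hQ (mem_subgroupOf.mpr hxv)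
    rw [← hc, Sylow.coe_subgroup_smul] at hQv
    obtain ⟨p, hp, hpe⟩ := hQv
    have he : (c : G) * p * (c : G)⁻¹ = x * v * x⁻¹ := congrArg Subtype.val hpe
    have : (c : G)⁻¹ * x * v * ((c : G)⁻¹ * x)⁻¹ = p := by
      calc (c : G)⁻¹ * x * v * ((c : G)⁻¹ * x)⁻¹ = (c : G)⁻¹ * (x * v * x⁻¹) * c := by group
        _ = p := by rw [← he]; group
    rw [this]
    exact (hP p).mp hp
  have hcen : x * S.φ S.D.y * x⁻¹ * c = c * (x * S.φ S.D.y * x⁻¹) := by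
    have hm : x⁻¹ * c * x ∈ S.Mc := by
      have := (mem_normalizer_iff.mp (inv_mem hx) c).mp c.2
      rwa [inv_inv] at this
    calc x * S.φ S.D.y * x⁻¹ * c = x * (S.φ S.D.y * (x⁻¹ * c * x)) * x⁻¹ := by group
      _ = c * (x * S.φ S.D.y * x⁻¹) := by rw [← hmem.mp hm]; group
  have e : (c : G)⁻¹ * x * S.φ S.D.y * ((c : G)⁻¹ * x)⁻¹ = x * S.φ S.D.y * x⁻¹ := by
    rw [show (c : G)⁻¹ * x * S.φ S.D.y * ((c : G)⁻¹ * x)⁻¹ = (c : G)⁻¹ * (x * S.φ S.D.y * x⁻¹ * c) by group, hcen]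
    group
  rcases R.conj_y hR hN with h | h <;> rw [e] at h
  · exact Or.inl (hmem.mpr (mul_inv_eq_iff_eq_mul.mp h))
  · refine Or.inr (hmem.mpr (mul_inv_eq_iff_eq_mul.mp ?_))
    calc x * ι * S.φ S.D.y * (x * ι)⁻¹ = x * (ι * S.φ S.D.y * ι⁻¹) * x⁻¹ := by group
      _ = (x * S.φ S.D.y * x⁻¹)⁻¹ := by rw [hι _ S.φy_mem]; group
      _ = S.φ S.D.y := by rw [h, inv_inv]

/-- An element of prime order dividing that of the torus which commutes with an involution is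
conjugate into the torus. -/
theorem exists_conj_Tsub [Finite G] [IsSimpleGroup G] (S : Setup G L) (hna : ¬ IsMulCommutative G) {r : ℕ}
    (hr : r.Prime) (hrT : r ∣ S.D.T) {x j : G} (hx : x ^ r = 1) (hj : j * j = 1) (hj1 : j ≠ 1)
    (h : x * j = j * x) : ∃ g : G, g * x * g⁻¹ ∈ S.Tsub := by
  haveI := Fact.mk hr
  haveI := S.finite_L
  have hr2 : r ≠ 2 := by
    rintro rfl
    have := S.D.T_facts.1
    omega
  obtain ⟨g, hg⟩ := S.exists_conj_t hna hj hj1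
  set x' := g⁻¹ * x * g with hx'
  have hxt : x' * S.t = S.t * x' := by
    calc x' * S.t = g⁻¹ * (x * (g * S.t * g⁻¹)) * g := by rw [hx']; group
      _ = S.t * x' := by rw [hg, h, ← hg, hx']; group
  have hx'r : x' ^ r = 1 := by
    rw [hx', show g⁻¹ * x * g = g⁻¹ * x * g⁻¹⁻¹ by group, conj_pow, hx]; group
  obtain ⟨l, hl⟩ := S.cent x' hxt
  have hxl : x' = S.φ l ∧ l ^ r = 1 := by
    rcases hl with e | e
    · exact ⟨e, S.inj (by rw [map_pow, ← e, hx'r, map_one])⟩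
    · exfalso
      obtain ⟨c, hc⟩ := hr.odd_of_ne_two hr2
      rw [e, (show Commute S.t (S.φ l) from S.comm l).mul_pow, hc, pow_succ, pow_mul, sq, S.t_sq, one_pow, one_mul,
        ← map_pow] at hx'r
      exact S.t_mul_φ_ne (l ^ (2 * c + 1)) 1 (hx'r.trans (map_one _).symm)
  obtain ⟨hxl, hlr⟩ := hxl
  -- the torus has index prime to `r`
  have hidx : ¬ r ∣ (zpowers S.D.y).index := by
    intro hd
    have h1 := (zpowers S.D.y).card_mul_index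
    rw [Nat.card_zpowers, S.D.orderOf_y] at h1
    have h2 := S.D.card_L
    have h3 := S.D.hT
    have hq1 := S.D.q_ge
    have hsign := S.D.σ_cases
    obtain ⟨m, hm⟩ : ∃ m : ℕ, (m : ℤ) = S.D.q - S.D.σ := ⟨((S.D.q : ℤ) - S.D.σ).toNat, by
      rcases hsign with e | e <;> rw [e] <;> omega⟩
    have h4 : (zpowers S.D.y).index = 2 * S.D.q * m := by
      refine Nat.eq_of_mul_eq_mul_left (show 0 < 2 * S.D.T by have := S.D.T_facts.2; omega) ?_
      have hsq : (S.D.σ : ℤ) * S.D.σ = 1 := S.D.σ_sq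
      have hpos : 1 ≤ S.D.q * S.D.q := Nat.one_le_iff_ne_zero.2 (mul_ne_zero S.D.q_ne S.D.q_ne)
      rw [← h1] at h2
      zify [hpos] at h2 ⊢
      linear_combination h2 - (S.D.q : ℤ) * (m : ℤ) * h3 - (S.D.q : ℤ) * (S.D.q + S.D.σ) * hm + (S.D.q : ℤ) * hsq
    rw [h4] at hd
    have h3' : (r : ℤ) ∣ (S.D.q : ℤ) + S.D.σ := by
      rw [← h3]; exact dvd_mul_of_dvd_right (Int.natCast_dvd_natCast.2 hrT) 4
    rcases (Nat.Prime.dvd_mul hr).1 hd with hd | hd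
    · rcases (Nat.Prime.dvd_mul hr).1 hd with hd | hd
      · exact hr2 ((Nat.prime_dvd_prime_iff_eq hr Nat.prime_two).1 hd)
      · have h5 := (dvd_add_right (Int.natCast_dvd_natCast.2 hd)).1 h3'
        have h6 : (r : ℤ) ∣ S.D.σ * S.D.σ := dvd_mul_of_dvd_left h5 _
        rw [S.D.σ_sq] at h6
        exact hr.not_dvd_one (by exact_mod_cast h6)
    · have h5 : (r : ℤ) ∣ (m : ℤ) := Int.natCast_dvd_natCast.2 hd
      rw [hm] at h5
      have h6 : (r : ℤ) ∣ 2 * (S.D.σ * S.D.σ) := by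
        rw [show (2 : ℤ) * (S.D.σ * S.D.σ) = ((S.D.q + S.D.σ) - (S.D.q - S.D.σ)) * S.D.σ by ring]
        exact dvd_mul_of_dvd_left (dvd_sub h3' h5) _
      rw [S.D.σ_sq] at h6
      exact hr2 ((Nat.prime_dvd_prime_iff_eq hr Nat.prime_two).1 (by exact_mod_cast h6))
  obtain ⟨m, hm, hom⟩ := (Nat.dvd_prime_pow hr).1 (orderOf_dvd_of_pow_eq_one (show l ^ r ^ 1 = 1 by rwa [pow_one]))
  obtain ⟨c, hc⟩ := (IsPGroup.of_card (p := r) (n := m) (show Nat.card (zpowers l) = r ^ m by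
      rw [Nat.card_zpowers, hom])).nonempty_fixed_point_of_prime_not_dvd_card (L ⧸ zpowers S.D.y) hidx
  obtain ⟨a, rfl⟩ := QuotientGroup.mk_surjective c
  have ha : a⁻¹ * l * a ∈ zpowers S.D.y := by
    have h' := MulAction.mem_fixedPoints.1 hc ⟨l, mem_zpowers l⟩
    have h'' : ((l * a : L) : L ⧸ zpowers S.D.y) = (a : L ⧸ zpowers S.D.y) := h'
    rw [eq_comm, QuotientGroup.eq] at h''
    rwa [← mul_assoc] at h''
  refine ⟨(S.φ a)⁻¹ * g⁻¹, ?_⟩
  rw [show (S.φ a)⁻¹ * g⁻¹ * x * ((S.φ a)⁻¹ * g⁻¹)⁻¹ = (S.φ a)⁻¹ * x' * S.φ a by rw [hx']; group, hxl,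
    ← map_inv, ← map_mul, ← map_mul]
  exact S.mem_Tsub.mpr ⟨_, ha, rfl⟩

/-- An element of the centralizer of the torus inverted by an involution there lies in the
alternating factor. -/
theorem Core.inverted {A₀ : Type} [Group A₀] (X : Core S A₀) {τ j x : G} (hτ : τ ∈ S.Tsub) (hτ1 : τ ≠ 1)
    (hj : j * j = 1) (hjτ : j * τ = τ * j) (hxτ : x * τ = τ * x) (hjx : j * x * j⁻¹ = x⁻¹) :
    j ∈ X.A ∧ x ∈ X.A := by
  obtain ⟨a, ha, s, hs, rfl⟩ := X.cover τ hτ hτ1 j hjτ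
  have hs1 : s = 1 := by
    refine S.Tsub_sq_eq_one hs ?_
    have e : a * a * (s * s) = 1 := by
      rw [← hj]
      exact (Commute.mul_mul_mul_comm (show Commute a s from X.comm a ha s hs) a s)
    refine X.disj _ ?_ (mul_mem hs hs)
    rw [show s * s = (a * a)⁻¹ from eq_inv_of_mul_eq_one_right e]
    exact inv_mem (mul_mem ha ha)
  subst hs1
  rw [mul_one] at hjx ⊢
  refine ⟨ha, ?_⟩
  obtain ⟨b, hb, u, hu, rfl⟩ := X.cover τ hτ hτ1 x hxτ
  have hu1 : u = 1 := by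
    refine S.Tsub_sq_eq_one hu ?_
    rw [conj_mul', mul_inv_eq_iff_eq_mul.mpr (X.comm a ha u hu), mul_inv_rev] at hjx
    have e : u * u = (a * b * a⁻¹)⁻¹ * b⁻¹ := by
      have h2 : a * b * a⁻¹ * u = b⁻¹ * u⁻¹ := by
        rw [hjx]; exact (X.comm _ (inv_mem hb) _ (inv_mem hu)).symm
      calc u * u = (a * b * a⁻¹)⁻¹ * (a * b * a⁻¹ * u) * u := by group
        _ = (a * b * a⁻¹)⁻¹ * b⁻¹ := by rw [h2]; group
    exact X.disj _ (e ▸ mul_mem (inv_mem (mul_mem (mul_mem ha hb) (inv_mem ha))) (inv_mem hb)) (mul_mem hu hu)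
  rw [hu1, mul_one]
  exact hb

end Setup

end Cfsg.Lib.Walter8
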