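import Cfsg.Agent.Lib.Walter8.TrivLocalBase
import Cfsg.Agent.Lib.Coprime.Action
import Cfsg.Agent.Lib.MinNonCA.Defs
import Cfsg.Agent.S1545

/-!
# A fixed torus of order five with an alternating group of degree five does not occur

Then `q = 19`, and the centralizer of an element of order three of the alternating factor has a normal
complement to a dihedral group of order ten, in which the fixed point formula gives a Sylow subgroup of
order 27 with three fixed points under an element of order five.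
-/

set_option autoImplicit false
set_option linter.unusedSectionVars false
set_option linter.unusedVariables false
set_option linter.style.haveILetI false

namespace Cfsg.Lib.Walter8

open Subgroup

universe u

theorem alt_five_three : ∀ d g : alternatingGroup (Fin 5), d ^ 3 = 1 → d ≠ 1 → g * d = d * g →
    g = 1 ∨ g = d ∨ g = d * d := by decide +kernel

theorem alt_five_exists_three : ∃ d : alternatingGroup (Fin 5), d ^ 3 = 1 ∧ d ≠ 1 := by decide +kernel

/-- An element with two coprime exponents is trivial. -/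
theorem eq_one_of_pow_coprime {M : Type*} [Monoid M] {a : M} {m n : ℕ} (hmn : m.Coprime n) (hm : a ^ m = 1)
    (hn : a ^ n = 1) : a = 1 :=
  orderOf_eq_one_iff.mp (Nat.eq_one_of_dvd_coprimes hmn (orderOf_dvd_of_pow_eq_one hm) (orderOf_dvd_of_pow_eq_one hn))

namespace Setup

variable {G L : Type u} [Group G] [Group L] [Finite G]

theorem q_nineteen (S : Setup G L) (hT : S.D.T = 5) : S.D.q = 19 ∧ S.D.σ = 1 := by
  have h := S.D.hT
  rw [hT] at h
  rcases S.D.sign with ⟨e, h8⟩ | ⟨e, h8⟩ <;> rw [e] at h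
  · exact ⟨by omega, e⟩
  · exfalso
    obtain ⟨a, ha, hq⟩ := S.D.q_eq
    have hq21 : S.D.q = 3 * 7 := by omega
    rw [hq21] at hq
    have h3 : 3 ∣ S.D.p := Nat.prime_three.dvd_of_dvd_pow (hq ▸ dvd_mul_right 3 7)
    have h7 : 7 ∣ S.D.p := (show Nat.Prime 7 by norm_num).dvd_of_dvd_pow (hq ▸ dvd_mul_left 7 3)
    have e3 := (Nat.prime_dvd_prime_iff_eq Nat.prime_three S.D.p_prime).mp h3
    rw [← e3] at h7
    norm_num at h7

theorem exists_of_commutes_t (S : Setup G L) {x : G} (hx : x ^ 3 = 1) (h : x * S.t = S.t * x) :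
    ∃ m : L, m ^ 3 = 1 ∧ x = S.φ m := by
  obtain ⟨m, e | e⟩ := S.cent x h
  · exact ⟨m, S.inj (by rw [map_pow, ← e, hx, map_one]), e⟩
  · exfalso
    rw [e, (show Commute S.t (S.φ m) from S.comm m).mul_pow, show S.t ^ 3 = S.t by
      rw [pow_succ, sq, S.t_sq, one_mul], ← map_pow] at hx
    exact S.t_mul_φ_ne (m ^ 3) 1 (hx.trans (map_one _).symm)

/-- The involutions commuting with an element of order three and with `t`. -/
theorem invol_cent_three (S : Setup G L) (hT : S.D.T = 5) {x j : G} (hx : x ^ 3 = 1) (hx1 : x ≠ 1)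
    (hxt : x * S.t = S.t * x) (hj : j * j = 1) (hjt : j * S.t = S.t * j) (hjx : j * x = x * j) :
    j = 1 ∨ j = S.t := by
  haveI := S.finite_L
  obtain ⟨m, hm, rfl⟩ := S.exists_of_commutes_t hx hxt
  obtain ⟨l, hl, hjl⟩ := S.involution_cent hjt hj
  have hlm : l * m = m * l := by
    apply S.inj
    rcases hjl with rfl | rfl
    · rwa [map_mul, map_mul]
    · rw [map_mul, map_mul]
      rw [mul_assoc, ← mul_assoc (S.φ m), ← S.comm m, mul_assoc] at hjx
      exact mul_left_cancel hjx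
  by_cases hl1 : l = 1
  · subst hl1
    rcases hjl with e | e <;> rw [e, map_one]
    · exact Or.inl rfl
    · exact Or.inr (mul_one _)
  exfalso
  obtain ⟨c, hc⟩ := S.D.involutions_conj l hl hl1
  have hcm : c⁻¹ * m * c ∈ centralizer ({S.D.z} : Set L) := by
    rw [mem_centralizer_singleton_iff]
    calc c⁻¹ * m * c * S.D.z = c⁻¹ * (m * (c * S.D.z * c⁻¹)) * c := by group
      _ = S.D.z * (c⁻¹ * m * c) := by rw [hc, ← hlm, ← hc]; group
  have h3 : orderOf (c⁻¹ * m * c) = 3 := by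
    haveI : Fact (Nat.Prime 3) := ⟨Nat.prime_three⟩
    refine orderOf_eq_prime ?_ ?_
    · rw [show c⁻¹ * m * c = c⁻¹ * m * c⁻¹⁻¹ by group, conj_pow, hm]; group
    · intro e
      refine hx1 ?_
      rw [show m = c * (c⁻¹ * m * c) * c⁻¹ by group, e, mul_one, mul_inv_cancel, map_one]
  have := Subgroup.orderOf_dvd_natCard (centralizer ({S.D.z} : Set L)) hcm
  rw [h3, S.D.card_cent_z, hT] at this
  omega

/-- A subgroup of order nine centralizing an element of order three and `t`. -/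
theorem nine_cent_three (S : Setup G L) (hT : S.D.T = 5) {x : G} (hx : x ^ 3 = 1) (hx1 : x ≠ 1)
    (hxt : x * S.t = S.t * x) :
    ∃ W : Subgroup G, Nat.card W = 9 ∧ ∀ w ∈ W, w * x = x * w ∧ w * S.t = S.t * w := by
  haveI : Fact (Nat.Prime 3) := ⟨Nat.prime_three⟩
  haveI := S.finite_L
  obtain ⟨m, hm, rfl⟩ := S.exists_of_commutes_t hx hxt
  have hom : orderOf m = 3 := orderOf_eq_prime hm (fun e => hx1 (by rw [e, map_one]))
  have hcard : 2 * Nat.card L = 19 * (19 * 19 - 1) := by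
    have h := S.D.card_L
    rwa [(S.q_nineteen hT).1] at h
  obtain ⟨K, hK, hmK⟩ := Sylow.exists_subgroup_card_pow_prime_le (G := L) 3 (n := 1) (m := 2)
    (by norm_num at hcard ⊢; omega) (zpowers m) (by rw [Nat.card_zpowers, hom, pow_one]) (by norm_num)
  refine ⟨K.map S.φ, by rw [card_map_of_injective S.inj, hK]; norm_num, ?_⟩
  rintro _ ⟨k, hk, rfl⟩
  refine ⟨?_, (S.comm k).symm⟩
  rw [← map_mul, ← map_mul]
  exact congrArg S.φ (congrArg Subtype.val
    (IsPGroup.commutative_of_card_eq_prime_sq hK ⟨k, hk⟩ ⟨m, hmK (mem_zpowers m)⟩))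

theorem card_cent_t_nineteen (S : Setup G L) (hT : S.D.T = 5) :
    Nat.card (centralizer ({S.t} : Set G)) = 6840 := by
  haveI := S.finite_L
  rw [S.card_cent, (S.q_nineteen hT).1]

variable [IsSimpleGroup G] {S : Setup G L}

/-- No such configuration. -/
theorem Core.false_of_nineteen (hna : ¬ IsMulCommutative G) (X : Core S (alternatingGroup (Fin 5)))
    (hT : S.D.T = 5) : False := by
  classical
  haveI : Fact (Nat.Prime 2) := ⟨Nat.prime_two⟩
  haveI : Fact (Nat.Prime 3) := ⟨Nat.prime_three⟩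
  haveI : Fact (Nat.Prime 5) := ⟨by norm_num⟩
  obtain ⟨d, hd3, hd1⟩ := alt_five_exists_three
  set ρ := ((X.e.symm d : X.A) : G) with hρ
  have hρA : ρ ∈ X.A := (X.e.symm d).2
  have hρ3 : ρ ^ 3 = 1 := by rw [hρ, ← SubgroupClass.coe_pow, ← map_pow, hd3, map_one]; rfl
  have hρ1 : ρ ≠ 1 := fun e => hd1 (by
    have : X.e.symm d = 1 := Subtype.ext e
    simpa using congrArg X.e this)
  have hι1 : X.ι ≠ 1 := fun e => S.φy_ne (S.Tsub_sq_eq_one S.φy_mem (by
    have h := X.ι_T _ S.φy_mem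
    rw [e, one_mul, inv_one, mul_one] at h
    exact mul_eq_one_iff_eq_inv.mpr h))
  obtain ⟨g, hg⟩ := S.exists_conj_t hna X.ι_sq hι1
  have hS't : (S.conj g).t = X.ι := by rw [S.conj_t, hg]
  have hS'T : (S.conj g).D.T = 5 := hT
  set C3 := centralizer ({ρ} : Set G) with hC3
  have hmem : ∀ {a : G}, a ∈ C3 ↔ a * ρ = ρ * a := mem_centralizer_singleton_iff
  have hιC : X.ι ∈ C3 := hmem.mpr (X.ι_A ρ hρA)
  have hTC : ∀ {s : G}, s ∈ S.Tsub → s ∈ C3 := fun hs => hmem.mpr (X.comm ρ hρA _ hs).symm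
  -- the elements commuting with `ρ` and an element of the torus
  have hcent : ∀ {a τ : G}, τ ∈ S.Tsub → τ ≠ 1 → a * τ = τ * a → a * ρ = ρ * a →
      ∃ b, (b = 1 ∨ b = ρ ∨ b = ρ * ρ) ∧ ∃ s ∈ S.Tsub, a = b * s := by
    intro a τ hτ hτ1 h1 h2
    obtain ⟨b, hb, s, hs, rfl⟩ := X.cover τ hτ hτ1 a h1
    refine ⟨b, ?_, s, hs, rfl⟩
    have hbρ : b * ρ = ρ * b := by
      rw [mul_assoc, ← X.comm ρ hρA s hs, ← mul_assoc, ← mul_assoc] at h2
      exact mul_right_cancel h2
    have := alt_five_three d (X.e ⟨b, hb⟩) hd3 hd1 (by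
      rw [show d = X.e ⟨ρ, hρA⟩ by simp [hρ], ← map_mul, ← map_mul]
      exact congrArg X.e (Subtype.ext hbρ))
    rcases this with e | e | e
    · exact Or.inl (congrArg Subtype.val (X.e.injective (e.trans (map_one X.e).symm)))
    · exact Or.inr (Or.inl (by rw [hρ, ← e, X.e.symm_apply_apply]))
    · refine Or.inr (Or.inr ?_)
      rw [hρ, ← Subgroup.coe_mul, ← map_mul, ← e, X.e.symm_apply_apply]
  have hb3 : ∀ {b : G}, (b = 1 ∨ b = ρ ∨ b = ρ * ρ) → b ^ 3 = 1 ∧ b ∈ zpowers ρ := by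
    rintro b (rfl | rfl | rfl)
    · exact ⟨one_pow 3, one_mem _⟩
    · exact ⟨hρ3, mem_zpowers ρ⟩
    · exact ⟨by rw [← sq, ← pow_mul, mul_comm, pow_mul, hρ3, one_pow], mul_mem (mem_zpowers ρ) (mem_zpowers ρ)⟩
  -- the Sylow two-subgroup of `C(ρ)`
  have hE2 : IsPGroup 2 ((zpowers X.ι).subgroupOf C3) := IsPGroup.of_card (n := 1) (by
    rw [Nat.card_congr (subgroupOfEquivOfLe (zpowers_le.mpr hιC)).toEquiv, Nat.card_zpowers,
      orderOf_eq_prime (by rw [sq, X.ι_sq]) hι1, pow_one])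
  obtain ⟨P2, hP2⟩ := hE2.exists_le_sylow
  have hP2mem : ∀ a : C3, a ∈ (P2 : Subgroup C3) → (a : G) = 1 ∨ (a : G) = X.ι := by
    intro a ha
    obtain ⟨hsq, hcomm, -⟩ := S.isPGroup_sq (P2.isPGroup'.map C3.subtype)
    have haM : (a : G) ∈ (P2 : Subgroup C3).map C3.subtype := ⟨a, ha, rfl⟩
    have hιM : X.ι ∈ (P2 : Subgroup C3).map C3.subtype :=
      ⟨⟨X.ι, hιC⟩, hP2 (mem_subgroupOf.mpr (mem_zpowers _)), rfl⟩
    have := (S.conj g).invol_cent_three hS'T hρ3 hρ1 (by rw [hS't]; exact (X.ι_A ρ hρA).symm) (hsq _ haM)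
      (by rw [hS't]; exact hcomm _ haM _ hιM) (hmem.mp a.2)
    rwa [hS't] at this
  have hP2card : Nat.card P2 = 2 := by
    have h1 : ∀ a : P2, a = 1 ∨ a = ⟨⟨X.ι, hιC⟩, hP2 (mem_subgroupOf.mpr (mem_zpowers _))⟩ := fun a =>
      (hP2mem a.1 a.2).imp (fun e => Subtype.ext (Subtype.ext e)) (fun e => Subtype.ext (Subtype.ext e))
    refine (Nat.card_eq_two_iff' 1).mpr ⟨⟨⟨X.ι, hιC⟩, hP2 (mem_subgroupOf.mpr (mem_zpowers _))⟩, ?_, fun a ha => ?_⟩
    · exact fun e => hι1 (congrArg (fun b : P2 => ((b : C3) : G)) e)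
    · exact (h1 a).resolve_left ha
  have hmin : (Nat.card C3).minFac = 2 := by
    rw [Nat.minFac_eq_two_iff]
    exact hP2card ▸ (P2 : Subgroup C3).card_subgroup_dvd_card
  have hN2 := IsCyclic.normalizer_le_centralizer hmin (isCyclic_of_prime_card hP2card)
  set f2 := MonoidHom.transferSylow P2 hN2
  set O : Subgroup C3 := f2.ker
  have hO2 : ¬ 2 ∣ Nat.card O := MonoidHom.not_dvd_card_ker_transferSylow P2 hN2
  have hoddO : ∀ {a : C3} {n : ℕ}, Nat.Coprime 2 n → a ^ n = 1 → a ∈ O := by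
    intro a n hn h
    refine MonoidHom.mem_ker.mpr (eq_one_of_pow_coprime hn ?_ (by rw [← map_pow, h, map_one]))
    have h2 := pow_card_eq_one' (x := f2 a)
    rwa [hP2card] at h2
  set y := S.φ S.D.y
  have hyC : y ∈ C3 := hTC S.φy_mem
  have hy5 : y ^ 5 = 1 := hT ▸ S.Tsub_pow S.φy_mem
  have hyO : (⟨y, hyC⟩ : C3) ∈ O := hoddO (n := 5) (by norm_num) (Subtype.ext hy5)
  -- its Sylow five-subgroup is the torus
  let Ty : O := ⟨⟨y, hyC⟩, hyO⟩
  have hT5 : IsPGroup 5 (zpowers Ty) := by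
    obtain ⟨k, -, hk⟩ := (Nat.dvd_prime_pow (by norm_num : Nat.Prime 5)).1
      (orderOf_dvd_of_pow_eq_one (show Ty ^ 5 ^ 1 = 1 from Subtype.ext (Subtype.ext (by simpa using hy5))))
    exact IsPGroup.of_card (n := k) (by rw [Nat.card_zpowers, hk])
  obtain ⟨P5, hP5⟩ := hT5.exists_le_sylow
  have hTy1 : Ty ≠ 1 := fun e => S.φy_ne (congrArg (fun a : O => ((a : C3) : G)) e)
  have hpart : ∀ (a : P5) {τ : G}, τ ∈ S.Tsub → τ ≠ 1 → (((a : O) : C3) : G) * τ = τ * (((a : O) : C3) : G) →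
      (((a : O) : C3) : G) ∈ S.Tsub := by
    intro a τ hτ hτ1 h
    obtain ⟨b, hb, s, hs, he⟩ := hcent hτ hτ1 h (hmem.mp ((a : O) : C3).2)
    obtain ⟨k, hk⟩ := P5.isPGroup' a
    have hbA : b ∈ X.A := by
      rcases hb with rfl | rfl | rfl
      exacts [one_mem _, hρA, mul_mem hρA hρA]
    have h5 : b ^ 5 ^ k * s ^ 5 ^ k = 1 := by
      rw [← (show Commute b s from X.comm b hbA s hs).mul_pow, ← he]
      exact congrArg (fun c : P5 => (((c : O) : C3) : G)) hk
    have hb5 : b ^ 5 ^ k = 1 := X.disj _ (pow_mem hbA _) (by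
      rw [eq_inv_of_mul_eq_one_left h5]; exact inv_mem (pow_mem hs _))
    rw [he, eq_one_of_pow_coprime (Nat.Coprime.pow_right k (by norm_num)) (hb3 hb).1 hb5, one_mul]
    exact hs
  haveI : Nontrivial P5 := nontrivial_of_ne ⟨Ty, hP5 (mem_zpowers Ty)⟩ 1 fun e => hTy1 (congrArg Subtype.val e)
  haveI := P5.isPGroup'.center_nontrivial
  obtain ⟨⟨z0, hz0⟩, hz01⟩ := exists_ne (1 : center P5)
  have hz0T : (((z0 : O) : C3) : G) ∈ S.Tsub :=
    hpart z0 S.φy_mem S.φy_ne (congrArg (fun c : P5 => (((c : O) : C3) : G))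
      (mem_center_iff.mp hz0 ⟨Ty, hP5 (mem_zpowers Ty)⟩).symm)
  have hP5T : ∀ a : P5, (((a : O) : C3) : G) ∈ S.Tsub := fun a =>
    hpart a hz0T (fun e => hz01 (Subtype.ext (Subtype.ext (Subtype.ext (Subtype.ext e)))))
      (congrArg (fun c : P5 => (((c : O) : C3) : G)) (mem_center_iff.mp hz0 a))
  have hN5 : normalizer ((P5 : Subgroup O) : Set O) ≤ centralizer ((P5 : Subgroup O) : Set O) := by
    intro a ha
    have hmapT : ∀ b : O, b ∈ normalizer ((P5 : Subgroup O) : Set O) →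
        ((b : C3) : G) * y * ((b : C3) : G)⁻¹ ∈ S.Tsub := fun b hb =>
      hP5T ⟨b * Ty * b⁻¹, (mem_normalizer_iff.mp hb Ty).mp (hP5 (mem_zpowers Ty))⟩
    have hmapM : ∀ b : O, b ∈ normalizer ((P5 : Subgroup O) : Set O) → ∀ m ∈ S.Mc,
        ((b : C3) : G) * m * ((b : C3) : G)⁻¹ ∈ S.Mc := by
      intro b hb m hm
      have hne : ((b : C3) : G) * y * ((b : C3) : G)⁻¹ ≠ 1 := fun e => S.φy_ne (conj_eq_one_iff.mp e)
      obtain ⟨c, hc, s, hs, he⟩ := X.cover _ (hmapT b hb) hne (((b : C3) : G) * m * ((b : C3) : G)⁻¹)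
        (by rw [← conj_mul', ← conj_mul', mem_centralizer_singleton_iff.mp hm])
      rw [he]
      refine mul_mem (mem_centralizer_singleton_iff.mpr (X.comm c hc y S.φy_mem)) ?_
      exact mem_centralizer_singleton_iff.mpr (S.Tsub_comm hs S.φy_mem)
    set b := ((a : C3) : G) with hb
    have hbN : b ∈ normalizer (S.Mc : Set G) := mem_normalizer_iff.mpr fun m => by
      refine ⟨hmapM a ha m, fun h => ?_⟩
      have := hmapM a⁻¹ (inv_mem ha) _ h
      simpa [hb, mul_assoc] using this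
    have hby : b * y = y * b := by
      rcases X.swap b hbN with h | h
      · exact mem_centralizer_singleton_iff.mp h
      · have hinv : b * y * b⁻¹ = y⁻¹ := by
          have h' : b * X.ι * y * (b * X.ι)⁻¹ = y := mul_inv_eq_iff_eq_mul.mpr (mem_centralizer_singleton_iff.mp h)
          rw [show b * X.ι * y * (b * X.ι)⁻¹ = b * (X.ι * y * X.ι⁻¹) * b⁻¹ by group, X.ι_T _ S.φy_mem] at h'
          calc b * y * b⁻¹ = (b * y⁻¹ * b⁻¹)⁻¹ := by group
            _ = y⁻¹ := by rw [h']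
        have h2 : Commute (b ^ 2) y := mul_inv_eq_iff_eq_mul.mp (by
          calc b ^ 2 * y * (b ^ 2)⁻¹ = b * (b * y * b⁻¹) * b⁻¹ := by simp only [sq, mul_inv_rev, mul_assoc]
            _ = b * y⁻¹ * b⁻¹ := by rw [hinv]
            _ = (b * y * b⁻¹)⁻¹ := by group
            _ = y := by rw [hinv, inv_inv])
        obtain ⟨n, hn⟩ : Odd (Nat.card O) := Nat.not_even_iff_odd.mp (fun e => hO2 e.two_dvd)
        have hbn : b = (b ^ 2) ^ (n + 1) := by
          have hb1 : b ^ Nat.card O = 1 := congrArg (fun c : O => ((c : C3) : G)) (pow_card_eq_one' (x := a))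
          rw [← pow_mul, show 2 * (n + 1) = Nat.card O + 1 by omega, pow_succ, hb1, one_mul]
        rw [hbn]
        exact (h2.pow_left _).eq
    refine mem_centralizer_iff.mpr fun p hp => Subtype.ext (Subtype.ext ?_)
    exact (S.mem_cent_y hby (hP5T ⟨p, hp⟩)).symm
  set f5 := MonoidHom.transferSylow P5 hN5
  have hD5 : ¬ 5 ∣ Nat.card f5.ker := MonoidHom.not_dvd_card_ker_transferSylow P5 hN5
  -- the normal complement
  set D : Subgroup G := (f5.ker.map O.subtype).map C3.subtype with hD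
  have hDcard : Nat.Coprime (Nat.card D) 10 := by
    rw [hD, card_map_of_injective C3.subtype_injective, card_map_of_injective O.subtype_injective]
    refine Nat.Coprime.mul_right (n := 5) (m := 2) ?_ ?_
    · exact (Nat.prime_two.coprime_iff_not_dvd.mpr fun h => hO2 (h.trans f5.ker.card_subgroup_dvd_card)).symm
    · exact ((show Nat.Prime 5 by norm_num).coprime_iff_not_dvd.mpr hD5).symm
  have hmemD : ∀ a : G, a ∈ D ↔ a ∈ C3 ∧ Nat.Coprime (orderOf a) 10 := by
    intro a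
    refine ⟨fun h => ⟨map_subtype_le _ h, hDcard.coprime_dvd_left (Subgroup.orderOf_dvd_natCard D h)⟩,
      fun ⟨haC, hc⟩ => ?_⟩
    have hc2 : Nat.Coprime 2 (orderOf a) := (hc.coprime_dvd_right (by norm_num)).symm
    have hc5 : Nat.Coprime 5 (orderOf a) := (hc.coprime_dvd_right (by norm_num)).symm
    have haO : (⟨a, haC⟩ : C3) ∈ O := hoddO hc2 (Subtype.ext (pow_orderOf_eq_one a))
    refine ⟨⟨a, haC⟩, ⟨⟨⟨a, haC⟩, haO⟩, ?_, rfl⟩, rfl⟩
    obtain ⟨k, hk⟩ := P5.isPGroup' (f5 ⟨⟨a, haC⟩, haO⟩)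
    refine MonoidHom.mem_ker.mpr (eq_one_of_pow_coprime (Nat.Coprime.pow_left k hc5) hk ?_)
    rw [← map_pow, ← map_one f5]
    exact congrArg f5 (Subtype.ext (Subtype.ext (pow_orderOf_eq_one a)))
  have hnormD : ∀ {c : G}, c ∈ C3 → c ∈ normalizer (D : Set G) := by
    intro c hc
    refine mem_normalizer_iff.mpr fun a => ?_
    rw [hmemD, hmemD, ← MulAut.conj_apply c a, MulEquiv.orderOf_eq, MulAut.conj_apply]
    refine and_congr_left fun _ => ?_
    rw [Subgroup.mul_mem_cancel_right _ (inv_mem hc), Subgroup.mul_mem_cancel_left _ hc]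
  have hρD : ρ ∈ D := (hmemD ρ).mpr ⟨hmem.mpr rfl, by
    rw [orderOf_eq_prime hρ3 hρ1]; norm_num⟩
  obtain ⟨W, hW9, hW⟩ := (S.conj g).nine_cent_three hS'T hρ3 hρ1 (by rw [hS't]; exact (X.ι_A ρ hρA).symm)
  have hWD : W ≤ D := fun w hw => (hmemD w).mpr ⟨hmem.mpr (hW w hw).1,
    Nat.Coprime.coprime_dvd_left (hW9 ▸ Subgroup.orderOf_dvd_natCard W hw) (by norm_num)⟩
  have h9 : 3 ^ 2 ∣ Nat.card D := by
    have := card_dvd_of_le hWD
    rw [hW9] at this
    norm_num
    exact this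
  -- the dihedral group
  set U := zpowers y
  set E := zpowers X.ι
  have hιinv : X.ι⁻¹ = X.ι := inv_eq_of_mul_eq_one_right X.ι_sq
  have hEel : ∀ e ∈ E, e = 1 ∨ e = X.ι := by
    intro e he
    obtain ⟨k, rfl⟩ := mem_zpowers_iff.mp he
    rcases Int.even_or_odd k with ⟨m, rfl⟩ | ⟨m, rfl⟩
    · exact Or.inl (by rw [zpow_add, ← (Commute.refl X.ι).mul_zpow, X.ι_sq, one_zpow])
    · exact Or.inr (by rw [zpow_add_one, zpow_mul, zpow_two, X.ι_sq, one_zpow, one_mul])
  have hEU : E ≤ normalizer (U : Set G) := by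
    rw [zpowers_le, mem_normalizer_iff]
    intro u
    refine ⟨fun hu => by rw [X.ι_T u hu]; exact inv_mem hu, fun hu => ?_⟩
    have h := X.ι_T _ hu
    have h2 : X.ι * (X.ι * u * X.ι⁻¹) * X.ι⁻¹ = u := by
      calc X.ι * (X.ι * u * X.ι⁻¹) * X.ι⁻¹ = X.ι * X.ι * u * (X.ι * X.ι)⁻¹ := by group
        _ = u := by rw [X.ι_sq]; group
    rw [← h2, h]; exact inv_mem hu
  have hten : ∀ a ∈ U ⊔ E, a ^ 10 = 1 := by
    intro a ha
    have ha' : a ∈ (↑(U ⊔ E) : Set G) := ha
    rw [coe_mul_of_right_le_normalizer_left U E hEU] at ha'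
    obtain ⟨u, hu, e, he, rfl⟩ := ha'
    rcases hEel e he with rfl | rfl
    · show (u * 1) ^ 10 = 1
      have hu5 : u ^ 5 = 1 := hT ▸ S.Tsub_pow hu
      rw [mul_one, show (10 : ℕ) = 5 * 2 by rfl, pow_mul, hu5, one_pow]
    · have h2 : (u * X.ι) * (u * X.ι) = 1 := by
        calc u * X.ι * (u * X.ι) = u * (X.ι * u * X.ι⁻¹) * (X.ι * X.ι) := by group
          _ = 1 := by rw [X.ι_T u hu, X.ι_sq, mul_inv_cancel, one_mul]
      show (u * X.ι) ^ 10 = 1
      rw [show (10 : ℕ) = 2 * 5 by rfl, pow_mul, sq, h2, one_pow]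
  have hUEC : U ⊔ E ≤ C3 := sup_le (zpowers_le.mpr hyC) (zpowers_le.mpr hιC)
  have hUEn : U ⊔ E ≤ normalizer (D : Set G) := fun c hc => hnormD (hUEC hc)
  have hcopD : (Nat.card ↥(U ⊔ E)).Coprime (Nat.card D) := by
    refine Nat.coprime_of_dvd fun r hr h1 h2 => ?_
    haveI := Fact.mk hr
    obtain ⟨x, hx⟩ := exists_prime_orderOf_dvd_card' r h1
    have h10 : r ∣ 10 := hx ▸ orderOf_dvd_of_pow_eq_one (Subtype.ext (hten x x.2))
    exact hr.not_dvd_one (hDcard ▸ Nat.dvd_gcd h2 h10)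
  have hsolUE : Group.IsSolvable ↥(U ⊔ E) :=
    Cfsg.Lib.MinNonCA.isSolvable_sup_of_le_normalizer
      (Group.isSolvable_of_comm fun a b => Subtype.ext (S.Tsub_comm a.2 b.2))
      (Group.isSolvable_of_comm fun a b => Subtype.ext (by
        rcases hEel _ a.2 with e | e <;> rcases hEel _ b.2 with e' | e' <;>
          simp only [Subgroup.coe_mul, e, e', one_mul, mul_one]))
      hEU
  obtain ⟨P3, hρP, hnP⟩ := Cfsg.Lib.Coprime.exists_invariant_sylow_ge hUEn hcopD (Or.inl hsolUE) (p := 3)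
    (U := zpowers ρ) (zpowers_le.mpr hρD)
    (IsPGroup.of_card (n := 1) (by rw [Nat.card_zpowers, orderOf_eq_prime hρ3 hρ1, pow_one]))
    (fun c hc => by
      rw [mem_normalizer_iff]
      have hfix : ∀ k : ℤ, c * ρ ^ k * c⁻¹ = ρ ^ k := fun k =>
        mul_inv_eq_iff_eq_mul.mpr ((show Commute c ρ from hmem.mp (hUEC hc)).zpow_right k).eq
      intro a
      constructor
      · intro ha
        obtain ⟨k, rfl⟩ := mem_zpowers_iff.mp ha
        rw [hfix]; exact zpow_mem (mem_zpowers ρ) k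
      · intro ha
        obtain ⟨k, hk⟩ := mem_zpowers_iff.mp ha
        exact ⟨k, mul_left_cancel (mul_right_cancel ((hfix k).trans hk))⟩)
  set H := (P3 : Subgroup D).map D.subtype with hH
  have hHD : H ≤ D := map_subtype_le _
  obtain ⟨j, hj⟩ := IsPGroup.iff_card.mp (P3.isPGroup'.map D.subtype)
  have hj2 : 2 ≤ j := by
    have h1 := P3.pow_dvd_card_of_pow_dvd_card h9
    rw [← card_map_of_injective D.subtype_injective, ← hH, hj] at h1
    exact (Nat.pow_dvd_pow_iff_le_right (by norm_num)).mp h1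
  have hρH : ρ ∈ H := hρP (mem_zpowers ρ)
  -- the fixed points
  have hHU : H ⊓ centralizer (U : Set G) = zpowers ρ := by
    refine le_antisymm (fun a ha => ?_) (zpowers_le.mpr ⟨hρH, mem_centralizer_iff.mpr fun u hu =>
      (X.comm ρ hρA u hu).symm⟩)
    obtain ⟨haH, haU⟩ := ha
    obtain ⟨b, hb, s, hs, rfl⟩ := hcent S.φy_mem S.φy_ne (mem_centralizer_iff.mp haU y S.φy_mem).symm
      (hmem.mp ((hmemD _).mp (hHD haH)).1)
    have hbA : b ∈ X.A := by
      rcases hb with rfl | rfl | rfl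
      exacts [one_mem _, hρA, mul_mem hρA hρA]
    have h3j : (b * s) ^ 3 ^ j = 1 := by
      rw [← hj]
      exact orderOf_dvd_iff_pow_eq_one.mp (Subgroup.orderOf_dvd_natCard H haH)
    rw [(show Commute b s from X.comm b hbA s hs).mul_pow] at h3j
    have hs1 : s = 1 := by
      refine eq_one_of_pow_coprime (Nat.Coprime.pow_right j (show Nat.Coprime 5 3 by norm_num)) (hT ▸ S.Tsub_pow hs) ?_
      refine X.disj _ ?_ (pow_mem hs _)
      rw [eq_inv_of_mul_eq_one_right h3j]; exact inv_mem (pow_mem hbA _)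
    rw [hs1, mul_one]
    exact (hb3 hb).2
  have hHUE : H ⊓ centralizer ((U ⊔ E : Subgroup G) : Set G) = zpowers ρ := by
    refine le_antisymm ((inf_le_inf_left H (centralizer_le (SetLike.coe_subset_coe.mpr le_sup_left))).trans hHU.le)
      (zpowers_le.mpr ⟨hρH, mem_centralizer_iff.mpr fun c hc => hmem.mp (hUEC hc)⟩)
  obtain ⟨i, hi2, hi⟩ : ∃ i, i ≤ 2 ∧ Nat.card ↥(H ⊓ centralizer (E : Set G)) = 3 ^ i := by
    obtain ⟨i, hi⟩ := IsPGroup.iff_card.mp ((P3.isPGroup'.map D.subtype).to_le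
      (inf_le_left : H ⊓ centralizer (E : Set G) ≤ H))
    refine ⟨i, ?_, hi⟩
    by_contra hlt
    have hle : H ⊓ centralizer (E : Set G) ≤ centralizer ({(S.conj g).t} : Set G) := fun a ha => by
      rw [hS't, mem_centralizer_singleton_iff]
      exact (mem_centralizer_iff.mp ha.2 X.ι (mem_zpowers _)).symm
    have h1 := card_dvd_of_le hle
    rw [hi, (S.conj g).card_cent_t_nineteen hS'T] at h1
    have := (pow_dvd_pow 3 (show 3 ≤ i by omega)).trans h1
    norm_num at this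
  have hdisj : H ⊓ (U ⊔ E) = ⊥ := by
    rw [eq_bot_iff]
    rintro a ⟨h1, h2⟩
    refine mem_bot.mpr (eq_one_of_pow_coprime (Nat.Coprime.pow_left j (by norm_num : Nat.Coprime 3 10)) ?_ (hten a h2))
    rw [← hj]
    exact orderOf_dvd_iff_pow_eq_one.mp (Subgroup.orderOf_dvd_natCard H h1)
  have hcard := Cfsg.Agent.S1545.result U E H
    (by rw [Ne, zpowers_eq_bot]; exact S.φy_ne) (by rw [Ne, zpowers_eq_bot]; exact hι1)
    (by
      rw [eq_bot_iff]
      rintro a ⟨ha, he⟩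
      rcases hEel a he with rfl | rfl
      · exact one_mem _
      · exact mem_bot.mpr (S.Tsub_sq_eq_one ha X.ι_sq))
    (fun e he u hu => (mem_normalizer_iff.mp (hEU he) u).mp hu)
    (fun e he he1 u hu h => by
      rw [(hEel e he).resolve_left he1] at h
      have h' := X.ι_T u hu
      rw [mul_inv_eq_iff_eq_mul.mpr h] at h'
      exact eq_one_of_inv_eq hu h'.symm)
    (fun x hx h hh => (mem_normalizer_iff.mp (hnP hx) h).mp hh)
    hdisj
    (by haveI := (P3.isPGroup'.map D.subtype).isNilpotent; infer_instance)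
    ((Cfsg.Lib.Coprime.coprime_of_le hHD hcopD).symm)
  rw [hHUE, hHU, hi, Nat.card_zpowers, orderOf_eq_prime hρ3 hρ1, Nat.card_zpowers,
    orderOf_eq_prime (by rw [sq, X.ι_sq]) hι1, hj, ← pow_mul, ← pow_add, ← pow_succ] at hcard
  have hij := Nat.pow_right_injective (le_refl 2 |>.trans (by norm_num : 2 ≤ 3)) hcard
  have hj3 : j = 3 := by omega
  subst hj3
  -- fixed points of an element of order five
  have hyH : ∀ a : H, y * (a : G) * y⁻¹ ∈ H := fun a =>
    (mem_normalizer_iff.mp (hnP ((le_sup_left : U ≤ U ⊔ E) (mem_zpowers y))) a).mp a.2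
  haveI := Fintype.ofFinite H
  let f : Function.End H := fun a => ⟨y * a * y⁻¹, hyH a⟩
  have hpow : ∀ (n : ℕ) (a : H), (((f ^ n : Function.End H) a : H) : G) = y ^ n * a * (y ^ n)⁻¹ := by
    intro n
    induction n with
    | zero =>
      intro a
      show (a : G) = _
      simp
    | succ n ih =>
      intro a
      rw [pow_succ]
      show (((f ^ n : Function.End H) (f a) : H) : G) = _
      rw [ih, pow_succ]
      show y ^ n * (y * a * y⁻¹) * (y ^ n)⁻¹ = _
      group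
  have hf : f ^ 5 ^ 1 = 1 := funext fun a => Subtype.ext (by
    rw [hpow, pow_one, hy5, one_mul, inv_one, mul_one]; rfl)
  have hmod := Equiv.Perm.card_fixedPoints_modEq (p := 5) (n := 1) hf
  have hfix : Fintype.card (Function.fixedPoints f) = 3 := by
    rw [← Nat.card_eq_fintype_card, ← orderOf_eq_prime hρ3 hρ1, ← Nat.card_zpowers ρ, ← hHU]
    refine Nat.card_congr
      { toFun := fun a => ⟨((a : H) : G), (a : H).2, mem_centralizer_iff.mpr fun u hu => ?_⟩
        invFun := fun a => ⟨⟨a.1, a.2.1⟩, Subtype.ext ?_⟩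
        left_inv := fun a => rfl
        right_inv := fun a => rfl }
    · obtain ⟨k, rfl⟩ := mem_zpowers_iff.mp hu
      have h : y * ((a : H) : G) * y⁻¹ = ((a : H) : G) := congrArg Subtype.val a.2
      exact ((show Commute y ((a : H) : G) from mul_inv_eq_iff_eq_mul.mp h).zpow_left k).eq
    · exact mul_inv_eq_iff_eq_mul.mpr (mem_centralizer_iff.mp a.2.2 y (mem_zpowers y))
  rw [hfix, ← Nat.card_eq_fintype_card, hj] at hmod
  norm_num [Nat.ModEq] at hmod

end Setup

end Cfsg.Lib.Walter8
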