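import Cfsg.Agent.Lib.J1Order.Model
import Cfsg.Agent.Lib.Char.InvolutionSum

/-!
# The characters of the alternating groups of degree four and five used at a fixed torus

Values at the involutions, orders on the supports, and the sums against the numbers of square roots
of one inverting a given element.
-/

set_option autoImplicit false
set_option linter.unusedSectionVars false
set_option linter.style.haveILetI false

namespace Cfsg.Lib.Walter8

open Cfsg Cfsg.Lib.Char
open scoped ComplexConjugate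

/-- The data of a family of orthonormal generalized characters. -/
structure Th (A₀ : Type) [Group A₀] [Fintype A₀] [DecidableEq A₀] (n : ℕ) [NeZero n] where
  θ : Fin n → A₀ → ℂ
  s : Fin n → ℤ
  Kc : Fin n → ℚ
  gen : ∀ i, IsGeneralizedCharacter A₀ (θ i)
  ortho : ∀ i j, classInner (θ i) (θ j) = if i = j then 1 else 0
  one : θ 0 = fun _ => 1
  invol : ∀ i, 4 * ∑ a ∈ involFinset A₀, θ i a = (s i : ℂ) * Fintype.card A₀
  pair : ∀ i, (∑ a, θ i a *
      ((Finset.univ.filter fun b : A₀ => b * b = 1 ∧ b * a * b⁻¹ = a⁻¹).card : ℂ)) =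
    (Kc i : ℂ) * (4 * Fintype.card A₀)
  even : ∀ a : A₀, 2 ∣ orderOf a → a * a = 1

namespace A5

open Cfsg.Lib.J1Order.Model (cls chi sum_cls conj_chi chi_isGeneralized)

/-- The group. -/
abbrev A₀ := alternatingGroup (Fin 5)

theorem cls_invol : ∀ a : A₀, (a ≠ 1 ∧ a * a = 1) ↔ cls a = 1 := by decide +kernel

theorem count : ∀ a : A₀,
    (Finset.univ.filter fun b : A₀ => b * b = 1 ∧ b * a * b⁻¹ = a⁻¹).card =
      ![16, 4, 3, 5, 5] (cls a) := by decide +kernel

theorem pow_thirty : ∀ a : A₀, a ^ 30 = 1 := by decide +kernel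

theorem pow_ten : ∀ a : A₀, cls a = 2 ∨ a ^ 10 = 1 := by decide +kernel

theorem pow_six : ∀ a : A₀, a ^ 6 = 1 ∨ a ^ 5 = 1 := by decide +kernel

theorem cls_pow : ∀ (a : A₀) (r : Fin 30), Nat.Coprime r 30 →
    cls (a ^ (r : ℕ)) = if (r : ℕ) % 5 = 1 ∨ (r : ℕ) % 5 = 4 then cls a
      else ![0, 1, 2, 4, 3] (cls a) := by decide +kernel

theorem card_A₀ : Fintype.card A₀ = 60 := by decide +kernel

theorem even (a : A₀) (h : 2 ∣ orderOf a) : a * a = 1 := by
  rcases pow_six a with h6 | h5
  · have key : ∀ b : A₀, b ^ 6 = 1 → b * b = 1 ∨ b ^ 3 = 1 := by decide +kernel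
    rcases key a h6 with h' | h'
    · exact h'
    · have := h.trans (orderOf_dvd_of_pow_eq_one h'); omega
  · have := h.trans (orderOf_dvd_of_pow_eq_one h5); omega

/-- The five irreducible characters. -/
noncomputable def th : Th A₀ 5 where
  θ i a := chi i (cls a)
  s := ![1, -1, -1, 0, 1]
  Kc := ![16 / 15, 1 / 5, 1 / 5, 1 / 60, 1 / 3]
  gen := chi_isGeneralized
  ortho i j := by
    simp only [classInner, conj_chi]
    rw [sum_cls fun k => chi i k * chi j k, Nat.card_eq_fintype_card, card_A₀]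
    have := Cfsg.Lib.J1Order.Model.al_sq
    fin_cases i <;> fin_cases j <;> simp [chi] <;> grind
  one := funext fun a => by
    generalize cls a = k
    fin_cases k <;> simp [chi]
  invol i := by
    rw [card_A₀, show involFinset A₀ = Finset.univ.filter (fun a => cls a = 1) from
      Finset.ext fun a => by simp [mem_involFinset, ← cls_invol a],
      Finset.sum_congr rfl fun a ha => by rw [(Finset.mem_filter.1 ha).2],
      Finset.sum_const, Cfsg.Lib.J1Order.Model.card_cls]
    fin_cases i <;> simp [chi] <;> norm_num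
  pair i := by
    simp only [count]
    rw [sum_cls fun k => chi i k * ((![16, 4, 3, 5, 5] k : ℕ) : ℂ), card_A₀]
    fin_cases i <;> simp [chi] <;> grind
  even := even

theorem good {T : ℕ} (hT : T % 2 = 1) (h5 : ¬ 5 ∣ T) (i : Fin 5) (h3 : i = 1 ∨ i = 2 ∨ ¬ 3 ∣ T)
    (a : A₀) (ha : th.θ i a ≠ 0) : (orderOf a).Coprime T := by
  have c2 : Nat.Coprime 2 T := Nat.prime_two.coprime_iff_not_dvd.2 (by omega)
  have c5 : Nat.Coprime 5 T := (Nat.prime_five).coprime_iff_not_dvd.2 h5
  rcases h3 with h | h | h3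
  case inr.inr =>
    refine Nat.Coprime.coprime_dvd_left (orderOf_dvd_of_pow_eq_one (pow_thirty a)) ?_
    exact (c2.mul_left (Nat.prime_three.coprime_iff_not_dvd.2 h3)).mul_left c5
  all_goals
    subst h
    refine Nat.Coprime.coprime_dvd_left (orderOf_dvd_of_pow_eq_one ((pow_ten a).resolve_left
      fun e => ha ?_)) (c2.mul_left c5)
    simp [th, e, chi]

theorem θ_pow {k : ℕ} (hk : k.Coprime 30) (i : Fin 5) (a : A₀) :
    th.θ i (a ^ k) = th.θ (if k % 5 = 1 ∨ k % 5 = 4 then i else ![0, 2, 1, 3, 4] i) a := by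
  have e : a ^ k = a ^ (k % 30) := by
    conv_lhs => rw [← Nat.div_add_mod k 30, pow_add, pow_mul, pow_thirty, one_pow, one_mul]
  have h := cls_pow a ⟨k % 30, Nat.mod_lt _ (by norm_num)⟩
    (by rw [Nat.Coprime, ← Nat.gcd_rec, Nat.gcd_comm]; exact hk)
  simp only [Nat.mod_mod_of_dvd k (show 5 ∣ 30 by norm_num)] at h
  simp only [th, e, h]
  split_ifs
  · rfl
  · generalize cls a = c
    fin_cases i <;> fin_cases c <;> simp [chi]

end A5

namespace A4

/-- The group. -/
abbrev A₀ := alternatingGroup (Fin 4)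

/-- A three-cycle. -/
def three : A₀ :=
  ⟨Equiv.swap 0 1 * Equiv.swap 1 2, Equiv.Perm.mem_alternatingGroup.2 (by decide)⟩

/-- The four classes. -/
def cls (a : A₀) : Fin 4 :=
  if a = 1 then 0 else if a * a = 1 then 1 else if ∃ c : A₀, c * three * c⁻¹ = a then 2 else 3

/-- The quotient of order three. -/
def q3 (a : A₀) : Fin 3 := ![0, 0, 1, 2] (cls a)

theorem q3_mul : ∀ a b : A₀, q3 (a * b) = q3 a + q3 b := by decide +kernel

theorem card_cls : ∀ j : Fin 4,
    (Finset.univ.filter fun v => cls v = j).card = ![1, 3, 4, 4] j := by decide +kernel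

theorem cls_invol : ∀ a : A₀, (a ≠ 1 ∧ a * a = 1) ↔ cls a = 1 := by decide +kernel

theorem count : ∀ a : A₀,
    (Finset.univ.filter fun b : A₀ => b * b = 1 ∧ b * a * b⁻¹ = a⁻¹).card =
      ![4, 4, 0, 0] (cls a) := by decide +kernel

theorem fixed : ∀ a : A₀,
    (Finset.univ.filter fun i => (a : Equiv.Perm (Fin 4)) i = i).card = ![4, 0, 1, 1] (cls a) := by
  decide +kernel

theorem pow_six : ∀ a : A₀, a ^ 6 = 1 := by decide +kernel

theorem card_A₀ : Fintype.card A₀ = 12 := by decide +kernel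

theorem even (a : A₀) (h : 2 ∣ orderOf a) : a * a = 1 := by
  have key : ∀ b : A₀, b * b = 1 ∨ b ^ 3 = 1 := by decide +kernel
  rcases key a with h' | h'
  · exact h'
  · have := h.trans (orderOf_dvd_of_pow_eq_one h'); omega

theorem sum_cls (F : Fin 4 → ℂ) : ∑ v : A₀, F (cls v) = F 0 + 3 * F 1 + 4 * F 2 + 4 * F 3 := by
  rw [← Finset.sum_fiberwise' Finset.univ cls F]
  simp only [Finset.sum_const, nsmul_eq_mul, card_cls, Fin.sum_univ_four]
  simp

/-- A primitive cube root of unity. -/
noncomputable def ω : ℂ := Complex.exp (2 * Real.pi * Complex.I / (3 : ℕ))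

theorem ω_prim : IsPrimitiveRoot ω 3 := Complex.isPrimitiveRoot_exp 3 (by norm_num)

theorem ω_facts : ω ^ 3 = 1 ∧ 1 + ω + ω ^ 2 = 0 ∧ conj ω = ω ^ 2 := by
  refine ⟨ω_prim.pow_eq_one, ?_, ?_⟩
  · have := ω_prim.geom_sum_eq_zero (by norm_num)
    simpa [Finset.sum_range_succ] using this
  · have h2 : conj ω * ω = 1 := by
      rw [mul_comm, Complex.mul_conj, Complex.normSq_eq_norm_sq,
        Complex.norm_eq_one_of_pow_eq_one ω_prim.pow_eq_one (by norm_num)]
      norm_num
    calc conj ω = conj ω * ω ^ 3 := by rw [ω_prim.pow_eq_one, mul_one]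
      _ = ω ^ 2 := by linear_combination ω ^ 2 * h2

/-- The irreducible characters. -/
noncomputable def chi : Fin 4 → Fin 4 → ℂ :=
  ![![1, 1, 1, 1], ![1, 1, ω, ω ^ 2], ![1, 1, ω ^ 2, ω], ![3, -1, 0, 0]]

theorem chi_isGeneralized (i : Fin 4) : IsGeneralizedCharacter A₀ fun v => chi i (cls v) := by
  have hlin : ∀ z : ℂ, z ^ 3 = 1 → IsGeneralizedCharacter A₀ fun v => z ^ (q3 v : ℕ) := fun z hz =>
    (isIrrCharacter_linear (MonoidHom.toHomUnits
      { toFun := fun v : A₀ => z ^ (q3 v : ℕ)
        map_one' := by rw [show q3 1 = 0 by decide +kernel]; simp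
        map_mul' := fun a b => by
          rw [q3_mul, ← pow_add, Fin.val_add, ← pow_eq_pow_mod _ hz] })).isGeneralized
  have h3 := ω_facts.1
  fin_cases i
  · convert hlin 1 (one_pow 3) using 1
    funext v; generalize hk : cls v = k
    fin_cases k <;> simp [chi, q3, hk]
  · convert hlin ω h3 using 1
    funext v; generalize hk : cls v = k
    fin_cases k <;> simp [chi, q3, hk]
  · convert hlin (ω ^ 2) (by rw [← pow_mul, mul_comm, pow_mul, h3, one_pow]) using 1
    funext v; generalize hk : cls v = k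
    fin_cases k <;> simp [chi, q3, hk] <;> grind
  · convert ((isCharacter_fixedCount (alternatingGroup (Fin 4)).subtype).isGeneralized).sub
      (isIrrCharacter_one (G := A₀)).isGeneralized using 1
    funext v
    simp only [Pi.sub_apply, Subgroup.coe_subtype]
    refine (show chi 3 (cls v) = ((![4, 0, 1, 1] (cls v) : ℕ) : ℂ) - 1 from ?_).trans ?_
    · generalize cls v = k
      fin_cases k <;> simp [chi] <;> norm_num
    · rw [← fixed v]
      congr! 4

/-- The four irreducible characters. -/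
noncomputable def th : Th A₀ 4 where
  θ i a := chi i (cls a)
  s := ![1, 1, 1, -1]
  Kc := ![1 / 3, 1 / 3, 1 / 3, 0]
  gen := chi_isGeneralized
  ortho i j := by
    simp only [classInner]
    rw [sum_cls fun k => chi i k * conj (chi j k), Nat.card_eq_fintype_card, card_A₀]
    obtain ⟨h3, hs, hc⟩ := ω_facts
    fin_cases i <;> fin_cases j <;> simp [chi, hc, map_ofNat] <;> grind
  one := funext fun a => by
    generalize cls a = k
    fin_cases k <;> simp [chi]
  invol i := by
    rw [card_A₀, show involFinset A₀ = Finset.univ.filter (fun a => cls a = 1) from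
      Finset.ext fun a => by simp [mem_involFinset, ← cls_invol a],
      Finset.sum_congr rfl fun a ha => by rw [(Finset.mem_filter.1 ha).2],
      Finset.sum_const, card_cls]
    fin_cases i <;> simp [chi] <;> norm_num
  pair i := by
    simp only [count]
    rw [sum_cls fun k => chi i k * ((![4, 4, 0, 0] k : ℕ) : ℂ), card_A₀]
    obtain ⟨h3, hs, -⟩ := ω_facts
    fin_cases i <;> simp [chi] <;> grind
  even := even

theorem good {T : ℕ} (hT : T % 2 = 1) (h3 : ¬ 3 ∣ T) (i : Fin 4) (a : A₀) (_ : th.θ i a ≠ 0) :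
    (orderOf a).Coprime T :=
  Nat.Coprime.coprime_dvd_left (orderOf_dvd_of_pow_eq_one (pow_six a))
    ((Nat.prime_two.coprime_iff_not_dvd.2 (by omega)).mul_left
      (Nat.prime_three.coprime_iff_not_dvd.2 h3))

end A4

end Cfsg.Lib.Walter8
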