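import Cfsg.Agent.Lib.Walter8.TrivChar
import Cfsg.Agent.Lib.Walter8.TrivModels
import Cfsg.Agent.Lib.Walter8.MovesBase

/-!
# The exceptional characters at a fixed torus on the rows of the columns

For every character `θ` of the family the weighted sum of the values at `t` over the rows is
`-2 h θ(v)`, so something is left outside the rows; two characters nonzero at the involutions
cannot meet positively on the rows.
-/

set_option autoImplicit false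
set_option linter.unusedSectionVars false
set_option linter.style.haveILetI false

namespace Cfsg.Lib.Walter8

open Subgroup Cfsg Cfsg.Lib.Char
open scoped ComplexConjugate

universe u

/-- The pair equation of two equal rows is degenerate. -/
theorem uv_zero {h u : ℂ} :
    h ^ 2 / u + h ^ 2 / u - (2 * h) ^ 2 / (u + u) = 0 := by
  by_cases hu : u = 0
  · subst hu; simp
  field_simp
  ring

namespace Setup

variable {G L : Type u} [Group G] [Group L] [Fintype G] {S : Setup G L}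

/-- A nontrivial linear character of the odd torus is not real. -/
theorem ne_inv_of_ne_one {μ : S.Tsub →* ℂˣ} (h : μ ≠ 1) : μ ≠ μ⁻¹ := fun e => h (MonoidHom.ext fun s => by
  have h2 : μ s * μ s = 1 := by
    nth_rewrite 2 [e]
    rw [MonoidHom.inv_apply, mul_inv_cancel]
  obtain ⟨c, hc⟩ : Odd S.D.T := Nat.odd_iff.mpr S.D.T_facts.1
  have hT : s ^ S.D.T = 1 := Subtype.ext (by rw [SubmonoidClass.coe_pow]; exact S.Tsub_pow s.2)
  have := congrArg μ hT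
  rw [map_pow, map_one, hc, pow_succ, pow_mul, sq, h2, one_pow, one_mul] at this
  rw [MonoidHom.one_apply]
  exact this)

variable (S) in
/-- The odd torus has a nontrivial linear character. -/
theorem exists_mu : ∃ μ : S.Tsub →* ℂˣ, μ ≠ 1 := by
  obtain ⟨lam, h, -⟩ := S.exists_faithful
  obtain ⟨s, hs, hne⟩ := h.exists_ne
  refine ⟨lam.comp (inclusion S.Tsub_le), fun e => hne ?_⟩
  exact DFunLike.congr_fun e ⟨(s : G), hs⟩

theorem eleven_le (S : Setup G L) : 11 ≤ |S.D.Q| := by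
  have h := S.D.q_ge
  rw [LModel.Q, abs_mul]
  rcases S.D.σ_cases with e | e <;> rw [e] <;> simp <;> omega

theorem KQ_ne (S : Setup G L) : (S.D.Q : ℂ) * (S.D.Q - 1) * (S.D.Q + 1) ^ 2 ≠ 0 := by
  have h := S.eleven_le
  have : S.D.Q * (S.D.Q - 1) * (S.D.Q + 1) ^ 2 ≠ 0 := by
    refine mul_ne_zero (mul_ne_zero ?_ ?_) (pow_ne_zero _ ?_) <;>
      rcases abs_cases S.D.Q with ⟨e, -⟩ | ⟨e, -⟩ <;> omega
  exact_mod_cast this

theorem Qc (S : Setup G L) : (S.D.Q : ℂ) = 1 + S.D.h * 2 := by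
  rw [mul_comm (S.D.h : ℂ), add_comm]; exact_mod_cast S.D.Q_eq

variable [IsSimpleGroup G] {A₀ : Type} [Group A₀] [Fintype A₀] [DecidableEq A₀] {r : ℕ} [NeZero r]
  (X : Core S A₀) (Wt : Th A₀ r) {μ : S.Tsub →* ℂˣ} (hμ : μ ≠ 1)
  {n : ℕ} [NeZero n] {pat : Fin 3 → Fin n → ℤ} (Tb : Table S pat)

/-- The signed multiplicity on a row. -/
noncomputable def Table.nuC (μ : S.Tsub →* ℂˣ) (i : Fin r) (k : Fin n) : ℤ :=
  Tb.ε k * X.mC (Wt.θ i) μ (Tb.e k)

theorem Table.mC_row (i : Fin r) (k : Fin n) :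
    X.mC (Wt.θ i) μ (Tb.e k) = Tb.ε k * Tb.nuC X Wt μ i k := by
  rw [Table.nuC, ← mul_assoc, Tb.ε_sq, one_mul]

include hμ

theorem inner_mC {i j : Fin r} (hi : Good S (Wt.θ i)) (hj : Good S (Wt.θ j)) :
    ∑ χ : IrrCharacter G, X.mC (Wt.θ i) μ χ * X.mC (Wt.θ j) μ χ = if i = j then 3 else 0 := by
  classical
  refine Int.cast_injective (α := ℂ) ?_
  rw [← X.inner_psiC_eq_sum (Wt.gen i) (Wt.gen j), X.inner_psiC (Wt.gen j) hi hj hμ hμ, if_pos rfl,
    if_neg (ne_inv_of_ne_one hμ), Wt.ortho]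
  split_ifs <;> norm_num

theorem Table.nuC_zero (i : Fin r) : Tb.nuC X Wt μ i 0 = if i = 0 then 1 else 0 := by
  rw [Table.nuC, Tb.ε_zero, one_mul, X.mC_one (Wt.gen i) hμ Tb.e_zero]
  have h := Wt.ortho i 0
  rw [Wt.one] at h
  rw [h]
  split_ifs <;> simp

theorem Table.nuC_col (i : Fin r) (j : Fin 3) :
    ∑ k, pat j k * Tb.nuC X Wt μ i k = ![0, -1, -1] j * Wt.s i := by
  have h := X.sum_d_mC (Wt.gen i) μ j
  rw [X.inner_W Wt.even hμ j] at h
  have hA : (Fintype.card A₀ : ℂ) ≠ 0 := Nat.cast_ne_zero.2 Fintype.card_ne_zero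
  have e1 : ∑ χ : IrrCharacter G, X.mC (Wt.θ i) μ χ * S.d j χ = ![0, -1, -1] j * Wt.s i := by
    refine Int.cast_injective (α := ℂ) ?_
    rw [← h, div_eq_iff hA]
    have h4 := Wt.invol i
    fin_cases j <;> simp <;> first | linear_combination h4 | linear_combination -h4
  rw [← e1, Tb.sum_split,
    Finset.sum_eq_zero (s := Tb.out) fun χ hχ => by rw [Tb.d_zero j χ (Tb.mem_out.1 hχ), mul_zero],
    add_zero]
  exact Finset.sum_congr rfl fun k _ => by rw [Tb.d_eq, Table.nuC]; ring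

theorem Table.nuC_tval (i : Fin r) :
    ∑ k, Tb.nuC X Wt μ i k * tval S pat k = -2 * S.D.h * Wt.s i := by
  have e : ∀ k, Tb.nuC X Wt μ i k * tval S pat k = pat 0 k * Tb.nuC X Wt μ i k +
      S.D.h * (pat 1 k * Tb.nuC X Wt μ i k + pat 2 k * Tb.nuC X Wt μ i k) := fun k => by
    rw [tval]; ring
  simp only [Finset.sum_congr rfl fun k _ => e k, Finset.sum_add_distrib, ← Finset.mul_sum,
    Tb.nuC_col X Wt hμ i]
  simp
  ring

theorem Table.out_norm {i : Fin r} (hi : Good S (Wt.θ i)) :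
    ∑ χ ∈ Tb.out, X.mC (Wt.θ i) μ χ * X.mC (Wt.θ i) μ χ =
      3 - ∑ k, Tb.nuC X Wt μ i k * Tb.nuC X Wt μ i k := by
  have h := inner_mC X Wt hμ hi hi
  rw [if_pos rfl, Tb.sum_split] at h
  have e : ∀ k, X.mC (Wt.θ i) μ (Tb.e k) * X.mC (Wt.θ i) μ (Tb.e k) =
      Tb.nuC X Wt μ i k * Tb.nuC X Wt μ i k := fun k => by
    rw [Table.nuC]; linear_combination -(X.mC (Wt.θ i) μ (Tb.e k)) ^ 2 * Tb.ε_sq k
  rw [Finset.sum_congr rfl fun k _ => e k] at h
  linarith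

theorem Table.out_prod {i j : Fin r} (hi : Good S (Wt.θ i)) (hj : Good S (Wt.θ j)) (hij : i ≠ j) :
    ∑ χ ∈ Tb.out, X.mC (Wt.θ i) μ χ * X.mC (Wt.θ j) μ χ =
      -∑ k, Tb.nuC X Wt μ i k * Tb.nuC X Wt μ j k := by
  have h := inner_mC X Wt hμ hi hj
  rw [if_neg hij, Tb.sum_split] at h
  have e : ∀ k, X.mC (Wt.θ i) μ (Tb.e k) * X.mC (Wt.θ j) μ (Tb.e k) =
      Tb.nuC X Wt μ i k * Tb.nuC X Wt μ j k := fun k => by
    rw [Table.nuC, Table.nuC]
    linear_combination -(X.mC (Wt.θ i) μ (Tb.e k) * X.mC (Wt.θ j) μ (Tb.e k)) * Tb.ε_sq k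
  rw [Finset.sum_congr rfl fun k _ => e k] at h
  linarith

omit hμ in
/-- Sums over the constituents outside the rows. -/
theorem Table.out_lin (i : Fin r) (F : IrrCharacter G → ℂ) :
    ∑ χ : IrrCharacter G, (X.mC (Wt.θ i) μ χ : ℂ) * F χ =
      ∑ k, (Tb.nuC X Wt μ i k : ℂ) * ((Tb.ε k : ℂ) * F (Tb.e k)) +
        ∑ χ ∈ Tb.out, (X.mC (Wt.θ i) μ χ : ℂ) * F χ := by
  rw [Tb.sum_split]
  congr 1
  exact Finset.sum_congr rfl fun k _ => by rw [Tb.mC_row]; push_cast; ring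

omit hμ in
theorem Table.out_deg (i : Fin r) :
    ∑ χ ∈ Tb.out, (X.mC (Wt.θ i) μ χ : ℂ) * (χ : G → ℂ) 1 =
      -((∑ k, Tb.nuC X Wt μ i k * Tb.X k : ℤ) : ℂ) := by
  have h := X.sum_mC_one (Wt.gen i) μ
  rw [Tb.out_lin X Wt i] at h
  have e : ∀ k, (Tb.nuC X Wt μ i k : ℂ) * ((Tb.ε k : ℂ) * (Tb.e k : G → ℂ) 1) =
      (Tb.nuC X Wt μ i k : ℂ) * (Tb.X k : ℂ) := fun k => by
    have hs : (Tb.ε k : ℂ) * Tb.ε k = 1 := by exact_mod_cast Tb.ε_sq k
    rw [Tb.apply_one]; push_cast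
    linear_combination (Tb.nuC X Wt μ i k : ℂ) * (Tb.X k : ℂ) * hs
  rw [Finset.sum_congr rfl fun k _ => e k] at h
  push_cast
  linear_combination h

theorem Table.out_tval (i : Fin r) :
    ∑ χ ∈ Tb.out, (X.mC (Wt.θ i) μ χ : ℂ) * (χ : G → ℂ) S.t =
      ((2 * S.D.h * Wt.s i : ℤ) : ℂ) := by
  have h := X.sum_mC_t (Wt.gen i) μ
  rw [Tb.out_lin X Wt i] at h
  have e : ∀ k, (Tb.nuC X Wt μ i k : ℂ) * ((Tb.ε k : ℂ) * (Tb.e k : G → ℂ) S.t) =
      ((Tb.nuC X Wt μ i k * tval S pat k : ℤ) : ℂ) := fun k => by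
    have hs : (Tb.ε k : ℂ) * Tb.ε k = 1 := by exact_mod_cast Tb.ε_sq k
    rw [Tb.apply_t]; push_cast
    linear_combination (Tb.nuC X Wt μ i k : ℂ) * (tval S pat k : ℂ) * hs
  rw [Finset.sum_congr rfl fun k _ => e k, ← Int.cast_sum, Tb.nuC_tval X Wt hμ i] at h
  push_cast at h ⊢
  linear_combination h

/-- Something is left outside the rows. -/
theorem Table.norm_le_two {i : Fin r} (hi : Good S (Wt.θ i)) (hs : Wt.s i ≠ 0) :
    ∑ k, Tb.nuC X Wt μ i k * Tb.nuC X Wt μ i k ≤ 2 := by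
  by_contra hc
  have h := Tb.out_norm X Wt hμ hi
  have h0 : 0 ≤ ∑ χ ∈ Tb.out, X.mC (Wt.θ i) μ χ * X.mC (Wt.θ i) μ χ :=
    Finset.sum_nonneg fun χ _ => mul_self_nonneg _
  have hz : ∀ χ ∈ Tb.out, X.mC (Wt.θ i) μ χ = 0 := fun χ hχ => mul_self_eq_zero.1
    ((Finset.sum_eq_zero_iff_of_nonneg fun χ _ => mul_self_nonneg _).1 (by omega) χ hχ)
  have e := Tb.out_tval X Wt hμ i
  rw [Finset.sum_eq_zero fun χ hχ => by rw [hz χ hχ, Int.cast_zero, zero_mul]] at e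
  have : 2 * S.D.h * Wt.s i = 0 := by exact_mod_cast e.symm
  exact mul_ne_zero (mul_ne_zero two_ne_zero S.D.h_ne) hs this

/-- Two characters nonzero at the involutions do not meet positively. -/
theorem Table.not_meet {i j : Fin r} (hi : Good S (Wt.θ i)) (hj : Good S (Wt.θ j)) (hij : i ≠ j)
    (hi1 : ∑ k, Tb.nuC X Wt μ i k * Tb.nuC X Wt μ i k = 2)
    (hj1 : ∑ k, Tb.nuC X Wt μ j k * Tb.nuC X Wt μ j k = 2) :
    (∑ k, Tb.nuC X Wt μ i k * Tb.nuC X Wt μ j k) * (Wt.s i * Wt.s j) ≤ 0 := by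
  classical
  have ni := Tb.out_norm X Wt hμ hi
  rw [hi1] at ni
  have nj := Tb.out_norm X Wt hμ hj
  rw [hj1] at nj
  obtain ⟨a, ha, hva, hza⟩ := exists_unit (by rw [ni]; norm_num)
  obtain ⟨b, hb, hvb, hzb⟩ := exists_unit (by rw [nj]; norm_num)
  set ι := ∑ k, Tb.nuC X Wt μ i k * Tb.nuC X Wt μ j k with hι
  have hp := Tb.out_prod X Wt hμ hi hj hij
  rw [Finset.sum_eq_single_of_mem a ha fun χ hχ hne => by rw [hza χ hχ hne, zero_mul]] at hp
  by_cases hab : a = b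
  · have eti := Tb.out_tval X Wt hμ i
    rw [Finset.sum_eq_single_of_mem a ha fun χ hχ hne => by
      rw [hza χ hχ hne, Int.cast_zero, zero_mul]] at eti
    have etj := Tb.out_tval X Wt hμ j
    rw [Finset.sum_eq_single_of_mem b hb fun χ hχ hne => by
      rw [hzb χ hχ hne, Int.cast_zero, zero_mul], ← hab] at etj
    obtain ⟨w, hw⟩ := exists_int_t (S := S) a
    rw [hw] at eti etj
    have e1 : X.mC (Wt.θ i) μ a * w = 2 * S.D.h * Wt.s i := by exact_mod_cast eti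
    have e2 : X.mC (Wt.θ j) μ a * w = 2 * S.D.h * Wt.s j := by exact_mod_cast etj
    have key : -ι * (w * w) = 4 * (S.D.h * S.D.h) * (Wt.s i * Wt.s j) := by
      rw [← hp]
      linear_combination (X.mC (Wt.θ j) μ a * w) * e1 + 2 * S.D.h * Wt.s i * e2
    by_contra hc
    push Not at hc
    have hh := mul_self_pos.2 S.D.h_ne
    have h3 : 0 < (Wt.s i * Wt.s j) * (Wt.s i * Wt.s j) := by
      refine mul_self_pos.2 fun e => ?_
      rw [e, mul_zero] at hc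
      exact lt_irrefl 0 hc
    have k2 := congrArg (fun x => x * (Wt.s i * Wt.s j)) key
    have p1 := mul_nonneg (mul_self_nonneg w) hc.le
    have p2 := mul_pos hh h3
    linarith [show -ι * (w * w) * (Wt.s i * Wt.s j) = -(w * w * (ι * (Wt.s i * Wt.s j))) by ring,
      show 4 * (S.D.h * S.D.h) * (Wt.s i * Wt.s j) * (Wt.s i * Wt.s j) =
        4 * (S.D.h * S.D.h * (Wt.s i * Wt.s j * (Wt.s i * Wt.s j))) by ring]
  · rw [hzb a ha hab, mul_zero] at hp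
    rw [show ι = 0 by linarith, zero_mul]

variable (hna : ¬ IsMulCommutative G)
include hna

/-- The pair equation. -/
theorem Table.pair_sum {i : Fin r} (hi : Good S (Wt.θ i)) :
    ((S.C).index : ℂ) * (∑ k, (Tb.nuC X Wt μ i k : ℂ) * ((tval S pat k : ℂ) ^ 2 / (Tb.X k : ℂ)) +
        ∑ χ ∈ Tb.out, (X.mC (Wt.θ i) μ χ : ℂ) * ((χ : G → ℂ) S.t ^ 2 / (χ : G → ℂ) 1)) =
      (S.D.Q : ℂ) * (S.D.Q - 1) * (S.D.Q + 1) ^ 2 * (Wt.Kc i : ℂ) := by
  have h := X.pair_psiC hna (Wt.gen i) hi μ hμ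
  rw [Wt.pair, Tb.out_lin X Wt i] at h
  simp only [Tb.pair_term] at h
  rw [h]
  have hA : (Fintype.card A₀ : ℂ) ≠ 0 := Nat.cast_ne_zero.2 Fintype.card_ne_zero
  field_simp

/-- A single constituent outside the rows is eliminated. -/
theorem Table.pair_single {i : Fin r} (hi : Good S (Wt.θ i))
    (h1 : ∑ k, Tb.nuC X Wt μ i k * Tb.nuC X Wt μ i k = 2) :
    ∑ k, Tb.nuC X Wt μ i k * Tb.X k ≠ 0 ∧
      ((S.C).index : ℂ) * (∑ k, (Tb.nuC X Wt μ i k : ℂ) * ((tval S pat k : ℂ) ^ 2 / (Tb.X k : ℂ)) -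
          ((2 * S.D.h * Wt.s i : ℤ) : ℂ) ^ 2 / ((∑ k, Tb.nuC X Wt μ i k * Tb.X k : ℤ) : ℂ)) =
        (S.D.Q : ℂ) * (S.D.Q - 1) * (S.D.Q + 1) ^ 2 * (Wt.Kc i : ℂ) := by
  classical
  have hn := Tb.out_norm X Wt hμ hi
  rw [h1] at hn
  obtain ⟨a, ha, hv, hz⟩ := exists_unit (by rw [hn]; norm_num)
  have hout : ∀ F : IrrCharacter G → ℂ, ∑ χ ∈ Tb.out, (X.mC (Wt.θ i) μ χ : ℂ) * F χ =
      (X.mC (Wt.θ i) μ a : ℂ) * F a := fun F =>
    Finset.sum_eq_single_of_mem a ha fun χ hχ hne => by simp [hz χ hχ hne]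
  have e1 := Tb.out_deg X Wt (μ := μ) i
  rw [hout] at e1
  have e2 := Tb.out_tval X Wt hμ i
  rw [hout] at e2
  have e3 := Tb.pair_sum X Wt hμ hna hi
  rw [hout] at e3
  set f : ℂ := (X.mC (Wt.θ i) μ a : ℂ) with hf
  have hff : f * f = 1 := by rcases hv with e | e <;> rw [hf, e] <;> norm_num
  have hf0 : f ≠ 0 := fun e => by rw [e, zero_mul] at hff; exact zero_ne_one hff
  have hdeg : (a : G → ℂ) 1 ≠ 0 := a.2.apply_one_ne_zero
  refine ⟨fun e => ?_, ?_⟩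
  · rw [e, Int.cast_zero, neg_zero] at e1
    exact mul_ne_zero hf0 hdeg e1
  rw [← e3, ← e2, show ((∑ k, Tb.nuC X Wt μ i k * Tb.X k : ℤ) : ℂ) = -(f * (a : G → ℂ) 1) by
    rw [e1, neg_neg]]
  congr 1
  field_simp
  ring

end Setup

end Cfsg.Lib.Walter8
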